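import Groth.Agent.AlgSp.K607.Slice

/-!
# Sheaves covered by a scheme with flat, locally finitely presented kernel pair; quotients of schemes by flat
locally finitely presented equivalence relations
-/

set_option autoImplicit false
universe u

open CategoryTheory CategoryTheory.Limits AlgebraicGeometry Opposite

namespace K607.FpQuot

open AlgSp

variable {S : Scheme.{u}}

theorem flat_isLocalAtTarget : MorphismProperty.IsLocalAtTarget @Flat.{u} Scheme.fppfPrecoverage := by
  have := K595.DescInst.flat.{u}
  exact K594.Local.isLocalAtTarget_fppf _

/-- A locally surjective map from a scheme with a flat, locally finitely presented kernel pair. -/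
theorem of_kernelPair {F : Sp S} {U R : Over S} (q : (yon S).obj U ⟶ F) [Sheaf.IsLocallySurjective q]
    {s t : R ⟶ U} (h : IsPullback ((yon S).map t) ((yon S).map s) q q) [Flat s.left]
    [LocallyOfFinitePresentation s.left] [LocallyOfFiniteType t.left] :
    Representable (Limits.diag F) ∧ RepWith @Flat q ∧ RepWith @LocallyOfFinitePresentation q ∧
      RepWith @Surjective q := by
  have h1 : Representable (Limits.diag F) := K594.Bootstrap.representable_diag_of_kernelPair q h inferInstance
  have h2 : Representable q := Functor.relativelyRepresentable.of_diag h1 q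
  have := flat_isLocalAtTarget.{u}
  have := K594.Local.locallyOfFinitePresentation.{u}
  exact ⟨h1, K594.Basic.repWith_of_isLocallySurjective_base q h2 q h @Flat
      ((repWith_yon_map_iff _ _).2 ‹_›),
    K594.Basic.repWith_of_isLocallySurjective_base q h2 q h @LocallyOfFinitePresentation
      ((repWith_yon_map_iff _ _).2 ‹_›), K594.Atlas.repWith_surjective_of_isLocallySurjective q h2⟩

theorem isAlgSpace_of_kernelPair {F : Sp S} {U R : Over S} (q : (yon S).obj U ⟶ F) [Sheaf.IsLocallySurjective q]
    {s t : R ⟶ U} (h : IsPullback ((yon S).map t) ((yon S).map s) q q) [Flat s.left]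
    [LocallyOfFinitePresentation s.left] [LocallyOfFiniteType t.left] : IsAlgSpace F := by
  obtain ⟨h1, h2, h3, h4⟩ := of_kernelPair q h
  exact Slice.isAlgSpace_of_fppf_chart h1 q h2 h3 h4

theorem isAlgSpace_quot {R U : Over S} (s t : R ⟶ U) (h : IsEqvRel s t) [Flat s.left]
    [LocallyOfFinitePresentation s.left] [LocallyOfFiniteType t.left] :
    IsAlgSpace (QuotSh.quot Scheme.fppfPrecoverage s t) := by
  have := K594.Quot.isLocallySurjective_π s t
  exact isAlgSpace_of_kernelPair (K594.Quot.π s t) (K594.Quot.isPullback_π s t h)

end K607.FpQuot
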