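import Groth.Agent.AlgSp.K607.ArtinLi

/-!
# The lifting property with respect to finite local rings (helper607)

`EV Λ ξ`: the object `ξ` (over a `Λ`-algebra `A` of finite type, `Λ` of finite type over `ℤ`) has the lifting property
with respect to all surjections of finite local `Λ`-algebras.  This is the output of the construction of local charts in
Artin's theorem (`EVCharts`), and it implies that the chart `Spec A ⟶ 𝒳` is smooth.
-/

set_option autoImplicit false
set_option linter.unusedSectionVars false

universe w v u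

open CategoryTheory CategoryTheory.Limits AlgebraicGeometry Opposite

namespace K607.Artin

variable {Λ : Type u} [CommRing Λ] {𝒳 : BasedCategory.{v, w} (Over (Spec (CommRingCat.of Λ)))}

/-- Lifting property with respect to surjections of finite local rings. -/
def EV (ξ : 𝒳.obj) : Prop :=
  ∀ (B C : Type u) [CommRing B] [CommRing C] [Algebra Λ B] [Algebra Λ C] [Finite C] [IsLocalRing B] [IsLocalRing C]
    (μ : C →ₐ[Λ] B), Function.Surjective μ → ∀ {z x' : 𝒳.obj} (b : z ⟶ x') (a : z ⟶ ξ), Li μ b →
      ∃ a' : x' ⟶ ξ, b ≫ a' = a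

variable (𝒳) in
/-- Local charts exist. -/
def EVCharts : Prop :=
  ∀ (k : Type u) [Field k] [Algebra Λ k] [Finite k] (x₀ : 𝒳.obj), Ov k x₀ →
    ∃ (A : Type u) (_ : CommRing A) (_ : Algebra Λ A) (_ : Algebra.FiniteType Λ A) (γ : A →ₐ[Λ] k) (ξ : 𝒳.obj)
      (i : x₀ ⟶ ξ), Li γ i ∧ EV ξ

end K607.Artin
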