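import Mathlib.AlgebraicGeometry.Morphisms.ClosedImmersion
import Mathlib.AlgebraicGeometry.Morphisms.FiniteType

/-!
# Finite type points are dense in every closed subset
-/

set_option autoImplicit false
universe u

open CategoryTheory CategoryTheory.Limits AlgebraicGeometry

namespace K607.FtPoint

theorem isIso_residueFieldMap {X Y : Scheme.{u}} (f : X ⟶ Y) [IsOpenImmersion f] (x : X) :
    IsIso (f.residueFieldMap x) := inferInstance

theorem locallyOfFiniteType_of_opens {X Y : Scheme.{u}} (f : X ⟶ Y) [IsOpenImmersion f] (x : X)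
    (h : LocallyOfFiniteType (X.fromSpecResidueField x)) : LocallyOfFiniteType (Y.fromSpecResidueField (f x)) := by
  have h1 := Scheme.Hom.SpecMap_residueFieldMap_fromSpecResidueField f x
  have h2 : Y.fromSpecResidueField (f x) = inv (Spec.map (f.residueFieldMap x)) ≫ X.fromSpecResidueField x ≫ f := by
    rw [← h1, IsIso.inv_hom_id_assoc]
  rw [h2]
  infer_instance

theorem exists_ft_point (X : Scheme.{u}) (Z : Set X) (hZ : IsClosed Z) (hne : Z.Nonempty) :
    ∃ x ∈ Z, LocallyOfFiniteType (X.fromSpecResidueField x) := by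
  obtain ⟨z, hz⟩ := hne
  obtain ⟨_, ⟨(B : X.Opens), hB, rfl⟩, hzB, -⟩ := X.isBasis_affineOpens.exists_subset_of_mem_open (Set.mem_univ z) isOpen_univ
  have hB' : IsAffine (B : Scheme.{u}) := hB
  have hcl : IsClosed (B.ι ⁻¹' Z) := hZ.preimage B.ι.continuous
  obtain ⟨b, hb, hbc⟩ := IsClosed.exists_closed_singleton hcl ⟨⟨z, hzB⟩, hz⟩
  have h1 : IsClosedImmersion ((B : Scheme.{u}).fromSpecResidueField b) :=
    isClosed_singleton_iff_isClosedImmersion.1 hbc
  exact ⟨B.ι b, hb, locallyOfFiniteType_of_opens B.ι b inferInstance⟩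

end K607.FtPoint
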