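import Groth.Agent.AlgSp.K607.Lqf
import Groth.Agent.AlgSp.K607.FtPoint
import Groth.Agent.AlgSp.K595.DescInst
import Groth.Agent.Grpd.K393.SliceCM
import Groth.Agent.S0087
import Groth.Agent.S1936
import Groth.Agent.S7508

/-!
# A sheaf with representable diagonal and a flat finitely presented chart by a scheme is an algebraic space
-/

set_option autoImplicit false
universe u

open CategoryTheory CategoryTheory.Limits AlgebraicGeometry Opposite

namespace K607.Slice

open AlgSp K607.ExV K607.Chart

variable {S : Scheme.{u}}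

/-- Restriction of the kernel pair along a map of schemes, on the left. -/
theorem isPullback_left {F : Sp S} {R U U' : Over S} {s t : R ⟶ U} {q : (yon S).obj U ⟶ F}
    (hp : IsPullback ((yon S).map t) ((yon S).map s) q q) (i : U' ⟶ U) :
    IsPullback ((yon S).map (pullback.fst i t)) ((yon S).map (pullback.snd i t ≫ s)) ((yon S).map i ≫ q) q := by
  have h1 : IsPullback ((yon S).map (pullback.fst i t)) ((yon S).map (pullback.snd i t)) ((yon S).map i)
      ((yon S).map t) := (IsPullback.of_hasPullback i t).map (yon S)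
  have h2 := h1.flip.paste_horiz hp.flip
  rw [Functor.map_comp]
  exact h2.flip

/-- Restriction of the kernel pair along a map of schemes, on both sides. -/
theorem isPullback_both {F : Sp S} {R U U' : Over S} {s t : R ⟶ U} {q : (yon S).obj U ⟶ F}
    (hp : IsPullback ((yon S).map t) ((yon S).map s) q q) (i : U' ⟶ U) :
    IsPullback ((yon S).map (pullback.fst (pullback.snd i t ≫ s) i ≫ pullback.fst i t))
      ((yon S).map (pullback.snd (pullback.snd i t ≫ s) i)) ((yon S).map i ≫ q) ((yon S).map i ≫ q) := by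
  have h1 : IsPullback ((yon S).map (pullback.fst (pullback.snd i t ≫ s) i))
      ((yon S).map (pullback.snd (pullback.snd i t ≫ s) i)) ((yon S).map (pullback.snd i t ≫ s))
      ((yon S).map i) := (IsPullback.of_hasPullback _ _).map (yon S)
  have h2 := h1.paste_horiz (isPullback_left hp i)
  rw [Functor.map_comp]
  exact h2

/-- Schematic version of a property of `pullback.snd i t ≫ s`. -/
theorem prop_snd_comp (P : MorphismProperty Scheme.{u}) [P.RespectsIso] {R U U' : Over S} (s t : R ⟶ U) (i : U' ⟶ U)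
    (h : P (pullback.snd i.left t.left ≫ s.left)) : P (pullback.snd i t ≫ s).left := by
  have h1 : IsPullback (pullback.fst i t).left (pullback.snd i t).left i.left t.left :=
    (IsPullback.of_hasPullback i t).map (Over.forget S)
  have h2 : (pullback.snd i t).left = (h1.isoPullback).hom ≫ pullback.snd i.left t.left :=
    (h1.isoPullback_hom_snd).symm
  rw [Over.comp_left, h2, Category.assoc]
  exact (P.cancel_left_of_respectsIso _ _).2 h

/-- The source of a kernel pair restricted to an open part of the Cohen-Macaulay locus. -/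
theorem isCMAt_of_open {F : Sp S} {R U U' R' : Over S} {s t : R ⟶ U} {q : (yon S).obj U ⟶ F}
    (hp : IsPullback ((yon S).map t) ((yon S).map s) q q) (i : U' ⟶ U) [IsOpenImmersion i.left]
    [LocallyOfFiniteType s.left]
    (hCM : ∀ r : R.left, t.left r ∈ Set.range i.left → Grpd.IsCMAt s.left r) {s' t' : R' ⟶ U'}
    (hp' : IsPullback ((yon S).map t') ((yon S).map s') ((yon S).map i ≫ q) ((yon S).map i ≫ q)) (r : R'.left) :
    Grpd.IsCMAt s'.left r := by
  have h1 : IsPullback (pullback.fst i t).left (pullback.snd i t).left i.left t.left :=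
    (IsPullback.of_hasPullback i t).map (Over.forget S)
  have h2 : IsPullback (pullback.fst (pullback.snd i t ≫ s) i).left (pullback.snd (pullback.snd i t ≫ s) i).left
      (pullback.snd i t ≫ s).left i.left := (IsPullback.of_hasPullback _ _).map (Over.forget S)
  have h3 : IsOpenImmersion (pullback.snd i t).left := MorphismProperty.of_isPullback h1 ‹_›
  have h4 : ∀ x : (pullback i t).left, Grpd.IsCMAt (pullback.snd i t ≫ s).left x := by
    intro x
    rw [Over.comp_left]
    refine (K393.SliceCM.isCMAt_comp_iff _ _ _).2 (hCM _ ⟨(pullback.fst i t).left x, ?_⟩)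
    rw [← Scheme.Hom.comp_apply, ← Scheme.Hom.comp_apply, h1.w]
  have h5 : LocallyOfFiniteType (pullback.snd i t ≫ s).left := by
    rw [Over.comp_left]
    infer_instance
  have h6 : ∀ x, Grpd.IsCMAt (pullback.snd (pullback.snd i t ≫ s) i).left x := fun x =>
    K393.SliceCM.isCMAt_of_isPullback h2 x (h4 _)
  obtain ⟨e, he⟩ := (yon S).map_surjective (hp'.isoIsPullback _ _ (isPullback_both hp i)).hom
  have h7 : e ≫ pullback.snd (pullback.snd i t ≫ s) i = s' := by
    apply (yon S).map_injective
    rw [Functor.map_comp, he, IsPullback.isoIsPullback_hom_snd]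
  have h8 : IsIso e := by
    have : IsIso ((yon S).map e) := by rw [he]; infer_instance
    exact isIso_of_reflects_iso e (yon S)
  have h9 : IsIso e.left := inferInstanceAs (IsIso ((Over.forget S).map e))
  rw [← h7, Over.comp_left]
  exact (K393.SliceCM.isCMAt_comp_iff _ _ _).2 (h6 _)

/-- A property of the slice map `U' ⟶ F` from the one of `s ∘ pr₁ : U' ×_U R ⟶ U`. -/
theorem repWith_slice (P : MorphismProperty Scheme.{u}) [P.IsStableUnderBaseChange]
    [P.DescendsAlong K613.Cover.fppf.{u}] {F : Sp S} (hF : Representable (Limits.diag F)) {R U U' : Over S}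
    {s t : R ⟶ U} {q : (yon S).obj U ⟶ F} (hp : IsPullback ((yon S).map t) ((yon S).map s) q q)
    (hq : K613.Cover.FSurj q) (i : U' ⟶ U) (h : P (pullback.snd i.left t.left ≫ s.left)) :
    RepWith P ((yon S).map i ≫ q) :=
  have : P.RespectsIso := MorphismProperty.IsStableUnderBaseChange.respectsIso
  hq.repWith (isPullback_left hp i) (Functor.relativelyRepresentable.of_diag hF _) ((repWith_yon_map_iff _ _).2 (prop_snd_comp P s t i h))

theorem locallyQuasiFinite_descends :
    (@LocallyQuasiFinite ⊓ @LocallyOfFiniteType : MorphismProperty Scheme.{u}).DescendsAlong K613.Cover.fppf.{u} := by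
  have := Groth.Agent.S0087.result.{u}
  exact K595.DescInst.of_fpqc _

theorem flat_descends : MorphismProperty.DescendsAlong (C := Scheme.{u}) @Flat K613.Cover.fppf.{u} :=
  K595.DescInst.flat

theorem lfp_descends :
    MorphismProperty.DescendsAlong (C := Scheme.{u}) @LocallyOfFinitePresentation K613.Cover.fppf.{u} :=
  K595.RepDesc.lfp_descendsAlong_fppf

/-- The slice through a finite type point of a Cohen-Macaulay chart. -/
theorem exists_slice {F : Sp S} (hF : Representable (Limits.diag F)) {R U : Over S} {s t : R ⟶ U}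
    {q : (yon S).obj U ⟶ F} (hp : IsPullback ((yon S).map t) ((yon S).map s) q q) (hq : K613.Cover.FSurj q)
    (hs1 : LocallyOfFinitePresentation s.left) (ht1 : LocallyOfFinitePresentation t.left)
    (hs : ∀ r : R.left, Grpd.IsCMAt s.left r) (ht : ∀ r : R.left, Grpd.IsCMAt t.left r) (u : U.left)
    (hu : LocallyOfFiniteType (U.left.fromSpecResidueField u)) :
    ∃ (U' : Over S) (g : U' ⟶ U) (u' : U'.left), IsAffine U'.left ∧ g.left u' = u ∧
      RepWith @Flat ((yon S).map g ≫ q) ∧ RepWith @LocallyOfFinitePresentation ((yon S).map g ≫ q) ∧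
      RepWith @LocallyQuasiFinite ((yon S).map g ≫ q) := by
  have heqv := isEqvRel_of_isPullback hp
  let G := Eqv.gpd heqv
  have i1 : LocallyOfFinitePresentation G.s := hs1
  have i2 : LocallyOfFinitePresentation G.t := ht1
  have i3 : Mono G.j := Eqv.mono_j heqv
  have i4 : Mono G.stabilizerToU := inferInstanceAs (Mono (pullback.snd G.j G.diag))
  have i5 : LocallyOfFiniteType G.j := by
    have h1 : G.j ≫ pullback.fst _ _ = G.t := pullback.lift_fst _ _ _
    have : LocallyOfFiniteType (G.j ≫ pullback.fst _ _) := by rw [h1]; infer_instance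
    exact locallyOfFiniteType_of_comp G.j (pullback.fst _ _)
  have i6 : LocallyOfFiniteType G.stabilizerToU := inferInstanceAs (LocallyOfFiniteType (pullback.snd G.j G.diag))
  have i7 : LocallyQuasiFinite G.stabilizerToU := inferInstance
  obtain ⟨U', hU', g, u', -, -, hg, ⟨h1, h2, h3, h4⟩, -, -⟩ := Groth.Agent.S7508.result S G hs ht u hu
  have k1 := locallyQuasiFinite_descends.{u}
  have k2 := flat_descends.{u}
  have k3 := lfp_descends.{u}
  refine ⟨Over.mk (g ≫ U.hom), Over.homMk g rfl, u', hU', hg,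
    repWith_slice _ hF hp hq _ h1, repWith_slice _ hF hp hq _ h2,
    K595.RepDesc.repWith_mono (fun _ _ f hf => hf.1) (repWith_slice (@LocallyQuasiFinite ⊓ @LocallyOfFiniteType) hF hp hq _ ⟨h4, h3⟩)⟩

/-- Small affine neighbourhoods in a scheme over `S`. -/
theorem exists_affine_sep (U : Over S) (w : U.left) :
    ∃ (V : Over S) (j : V ⟶ U) (v : V.left), IsAffine V.left ∧ IsSeparated V.hom ∧ IsOpenImmersion j.left ∧
      j.left v = w := by
  obtain ⟨_, ⟨(B : S.Opens), hB, rfl⟩, hwB, -⟩ :=
    S.isBasis_affineOpens.exists_subset_of_mem_open (Set.mem_univ (U.hom w)) isOpen_univ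
  obtain ⟨_, ⟨(A : U.left.Opens), hA, rfl⟩, hwA, hAB⟩ :=
    U.left.isBasis_affineOpens.exists_subset_of_mem_open (show w ∈ (U.hom ⁻¹ᵁ B : Set U.left) from hwB) (U.hom ⁻¹ᵁ B).2
  have hA' : IsAffine (A : Scheme.{u}) := hA
  have hB' : IsAffine (B : Scheme.{u}) := hB
  refine ⟨Over.mk (A.ι ≫ U.hom), Over.homMk A.ι rfl, ⟨w, hwA⟩, hA', ?_, inferInstanceAs (IsOpenImmersion A.ι), rfl⟩
  have h1 : U.hom.resLE B A hAB ≫ B.ι = A.ι ≫ U.hom := Scheme.Hom.resLE_comp_ι _ _
  change IsSeparated (A.ι ≫ U.hom)
  rw [← h1]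
  infer_instance

theorem isAlgSpace_of_cm_chart {F : Sp S} (hF : Representable (Limits.diag F)) {R U : Over S} {s t : R ⟶ U}
    {q : (yon S).obj U ⟶ F} (hp : IsPullback ((yon S).map t) ((yon S).map s) q q)
    (hfl : RepWith @Flat q) (hlfp : RepWith @LocallyOfFinitePresentation q) (hsurj : RepWith @Surjective q)
    (hs : ∀ r : R.left, Grpd.IsCMAt s.left r) (ht : ∀ r : R.left, Grpd.IsCMAt t.left r) : IsAlgSpace F := by
  have hq := K613.Cover.FSurj.of_repWith hfl hlfp hsurj
  have hs1 : LocallyOfFinitePresentation s.left := hlfp.2 _ _ _ hp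
  have ht1 : LocallyOfFinitePresentation t.left := hlfp.2 _ _ _ hp.flip
  choose V g v hV hgv h1 h2 h3 using fun u : {u : U.left // LocallyOfFiniteType (U.left.fromSpecResidueField u)} =>
    exists_slice hF hp hq hs1 ht1 hs ht u.1 u.2
  choose W j w hW hsep hj hw using fun k : (Σ u, (V u).left) => exists_affine_sep (V k.1) k.2
  have hcomp : ∀ (P : MorphismProperty Scheme.{u}) [P.IsStableUnderBaseChange] [(RepWith (S := S) P).IsStableUnderComposition],
      (∀ k, P (j k).left) → (∀ u, RepWith P ((yon S).map (g u) ≫ q)) →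
      ∀ k, RepWith P ((yon S).map (j k) ≫ (yon S).map (g k.1) ≫ q) := fun P _ _ hP hP' k =>
    MorphismProperty.comp_mem (RepWith P) _ _ ((repWith_yon_map_iff _ _).2 (hP k)) (hP' k.1)
  refine Lqf.isAlgSpace_of_lqf_family hF W (fun k => (yon S).map (j k) ≫ (yon S).map (g k.1) ≫ q) hW hsep
    (hcomp _ (fun k => inferInstance) h1) (hcomp _ (fun k => inferInstance) h2) (hcomp _ (fun k => inferInstance) h3) ?_
  intro y
  obtain ⟨x, rfl⟩ := K609.Points.surjective_ofPt_of_repWith_surjective hsurj y
  -- the points covered by the slices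
  have key : ∀ x : U.left, ∃ u, ∃ z : (V u).left, Points.ofPt ((yon S).map (g u) ≫ q) z = Points.ofPt q x := by
    by_contra hcon
    have hopen : IsOpen {x : U.left | ∃ u, ∃ z : (V u).left, Points.ofPt ((yon S).map (g u) ≫ q) z = Points.ofPt q x} := by
      have : {x : U.left | ∃ u, ∃ z : (V u).left, Points.ofPt ((yon S).map (g u) ≫ q) z = Points.ofPt q x} =
          ⋃ u, Set.range (pullback.snd (g u) t ≫ s).left := by
        ext x
        simp only [Set.mem_ofPred_eq, Set.mem_iUnion, Set.mem_range]
        refine exists_congr fun u => ?_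
        constructor
        · rintro ⟨z, hz⟩
          obtain ⟨r, -, hr⟩ := (K609.Points.ofPt_eq_ofPt_iff (isPullback_left hp (g u)) z x).1 hz
          exact ⟨r, hr⟩
        · rintro ⟨r, hr⟩
          exact ⟨_, (K609.Points.ofPt_eq_ofPt_iff (isPullback_left hp (g u)) _ x).2 ⟨r, rfl, hr⟩⟩
      rw [this]
      refine isOpen_iUnion fun u => ?_
      have hf1 : Flat (pullback.snd (g u) t ≫ s).left := (h1 u).2 _ _ _ (isPullback_left hp (g u))
      have hf2 : LocallyOfFinitePresentation (pullback.snd (g u) t ≫ s).left := (h2 u).2 _ _ _ (isPullback_left hp (g u))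
      exact (Scheme.Hom.isOpenMap (pullback.snd (g u) t ≫ s).left).isOpen_range
    rw [not_forall] at hcon
    obtain ⟨u, hu, hu'⟩ := FtPoint.exists_ft_point U.left _ hopen.isClosed_compl hcon
    refine hu ⟨⟨u, hu'⟩, v _, ?_⟩
    rw [K609.Points.ofPt_yon_map_comp, hgv]
  obtain ⟨u, z, hz⟩ := key x
  refine ⟨⟨u, z⟩, w _, ?_⟩
  rw [← hz, K609.Points.ofPt_yon_map_comp, hw]

/-- A sheaf with representable diagonal and a flat, locally finitely presented surjective chart by a scheme is an
algebraic space. -/
theorem isAlgSpace_of_fppf_chart {F : Sp S} (hF : Representable (Limits.diag F)) {U : Over S}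
    (q : (yon S).obj U ⟶ F) (hfl : RepWith @Flat q) (hlfp : RepWith @LocallyOfFinitePresentation q)
    (hsurj : RepWith @Surjective q) : IsAlgSpace F := by
  obtain ⟨R, s, fst, hp⟩ := hfl.1 q
  obtain ⟨t, rfl⟩ := (yon S).map_surjective fst
  have heqv := isEqvRel_of_isPullback hp
  let G := Eqv.gpd heqv
  have h1 : Flat G.s := hfl.2 _ _ _ hp
  have h2 : LocallyOfFinitePresentation G.s := hlfp.2 _ _ _ hp
  have h3 : Flat G.t := hfl.2 _ _ _ hp.flip
  have h4 : LocallyOfFinitePresentation G.t := hlfp.2 _ _ _ hp.flip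
  obtain ⟨O, hO1, hO2, hO3, -⟩ := Groth.Agent.S1936.result S G
  obtain ⟨O, rfl⟩ : ∃ O' : U.left.Opens, O' = O := ⟨O, rfl⟩
  let U' : Over S := Over.mk (Scheme.Opens.ι O ≫ U.hom)
  let i : U' ⟶ U := Over.homMk (Scheme.Opens.ι O) rfl
  have hi : IsOpenImmersion i.left := inferInstanceAs (IsOpenImmersion (Scheme.Opens.ι O))
  have hrange : Set.range i.left = (O : Set U.left) := Scheme.Opens.range_ι O
  have hp' := isPullback_both hp i
  have hifl : RepWith @Flat ((yon S).map i ≫ q) :=
    MorphismProperty.comp_mem (RepWith @Flat) _ _ ((repWith_yon_map_iff _ _).2 inferInstance) hfl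
  have hilfp : RepWith @LocallyOfFinitePresentation ((yon S).map i ≫ q) :=
    MorphismProperty.comp_mem (RepWith @LocallyOfFinitePresentation) _ _ ((repWith_yon_map_iff _ _).2 inferInstance) hlfp
  have hisurj : RepWith @Surjective ((yon S).map i ≫ q) := by
    rw [K609.Points.repWith_surjective_iff hifl.1, ← K609.Points.surjective_ofPt_iff]
    intro y
    obtain ⟨x, rfl⟩ := K609.Points.surjective_ofPt_of_repWith_surjective hsurj y
    obtain ⟨r, hr, hrx⟩ : x ∈ ⇑G.t '' (G.s ⁻¹ᵁ O : Set G.R) := by rw [hO3]; trivial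
    have hr' : s.left r ∈ Set.range i.left := by rw [hrange]; exact hr
    obtain ⟨z, hz⟩ := hr'
    refine ⟨z, ?_⟩
    rw [K609.Points.ofPt_yon_map_comp, hz]
    exact ((K609.Points.ofPt_eq_ofPt_iff hp _ _).2 ⟨r, hrx, rfl⟩).symm
  refine isAlgSpace_of_cm_chart hF hp' hifl hilfp hisurj ?_ ?_
  · have : LocallyOfFinitePresentation s.left := h2
    refine isCMAt_of_open (s := s) (t := t) hp i (fun r hr => ?_) hp'
    rw [hrange] at hr
    have : r ∈ (G.t ⁻¹ᵁ O : Set G.R) := hr
    rw [hO1] at this
    exact this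
  · have : LocallyOfFinitePresentation t.left := h4
    refine isCMAt_of_open (s := t) (t := s) hp.flip i (fun r hr => ?_) hp'.flip
    rw [hrange] at hr
    have : r ∈ (G.s ⁻¹ᵁ O : Set G.R) := hr
    rw [hO2] at this
    exact this

end K607.Slice
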