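import Mathlib.CategoryTheory.Sites.LocallySurjective
import Groth.Prelude.Def_AlgSp

/-!
# Points `h_T ⟶ F` of a sheaf and sections `F(T)`
-/

set_option autoImplicit false
universe u

open CategoryTheory CategoryTheory.Limits AlgebraicGeometry Opposite AlgSp

namespace K607

variable {S : Scheme.{u}} {F G : Sp S}

/-- The map `h_T ⟶ F` given by a section `a ∈ F(T)`. -/
noncomputable def pt {T : Over S} (a : F.obj.obj (op T)) : (yon S).obj T ⟶ F :=
  (GrothendieckTopology.uliftYonedaEquiv.{u + 1} (J S)).symm a

/-- The section of `F` over `T` given by a map `h_T ⟶ F`. -/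
noncomputable def sec {T : Over S} (x : (yon S).obj T ⟶ F) : F.obj.obj (op T) :=
  GrothendieckTopology.uliftYonedaEquiv.{u + 1} (J S) x

@[simp]
theorem sec_pt {T : Over S} (a : F.obj.obj (op T)) : sec (pt a) = a := Equiv.apply_symm_apply _ _

@[simp]
theorem pt_sec {T : Over S} (x : (yon S).obj T ⟶ F) : pt (sec x) = x := Equiv.symm_apply_apply _ _

theorem sec_injective {T : Over S} {x y : (yon S).obj T ⟶ F} (h : sec x = sec y) : x = y := by
  rw [← pt_sec x, h, pt_sec]

theorem pt_injective {T : Over S} {a b : F.obj.obj (op T)} (h : pt a = pt b) : a = b := by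
  rw [← sec_pt a, h, sec_pt]

theorem sec_comp {T : Over S} (x : (yon S).obj T ⟶ F) (f : F ⟶ G) :
    sec (x ≫ f) = f.hom.app (op T) (sec x) :=
  GrothendieckTopology.uliftYonedaEquiv_comp _ _ _

theorem pt_comp {T : Over S} (a : F.obj.obj (op T)) (f : F ⟶ G) :
    pt a ≫ f = pt (f.hom.app (op T) a) := by
  apply sec_injective
  rw [sec_comp, sec_pt, sec_pt]

theorem sec_map {T T' : Over S} (g : T' ⟶ T) (x : (yon S).obj T ⟶ F) :
    sec ((yon S).map g ≫ x) = F.obj.map g.op (sec x) :=
  (GrothendieckTopology.uliftYonedaEquiv_naturality _ _ _).symm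

theorem map_pt {T T' : Over S} (g : T' ⟶ T) (a : F.obj.obj (op T)) :
    (yon S).map g ≫ pt a = pt (F.obj.map g.op a) := by
  apply sec_injective
  rw [sec_map, sec_pt, sec_pt]

/-- Two morphisms of sheaves on schemes over `S` agree if they agree on all `T`-valued points. -/
theorem hom_ext_yon {f g : F ⟶ G}
    (h : ∀ (T : Over S) (x : (yon S).obj T ⟶ F), x ≫ f = x ≫ g) : f = g := by
  apply (sheafToPresheaf (J S) (Type (u + 1))).map_injective
  refine NatTrans.ext (funext fun T => ?_)
  ext y
  have h2 := congrArg sec (h T.unop (pt y))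
  rw [sec_comp, sec_comp, sec_pt] at h2
  exact h2

/-- A morphism of sheaves which is injective on `T`-valued points is a monomorphism. -/
theorem mono_of_yon (f : F ⟶ G)
    (h : ∀ (T : Over S) (x y : (yon S).obj T ⟶ F), x ≫ f = y ≫ f → x = y) : Mono f where
  right_cancellation {Z} g k hgk := by
    apply hom_ext_yon
    intro T x
    apply h
    rw [Category.assoc, Category.assoc, hgk]

end K607
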