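import Mathlib.CategoryTheory.Monoidal.Cartesian.Grp
import Groth.Prelude.Def_AlgSpGpd
import Groth.Agent.AlgSp.K607.Pt

/-!
# Group actions in `Over B`, monomorphisms tested on `T`-points
-/

set_option autoImplicit false
universe u

open CategoryTheory CategoryTheory.Limits AlgebraicGeometry Opposite MonoidalCategory
  CartesianMonoidalCategory MonObj AlgSp

namespace K607.Act

variable {S : Scheme.{u}}

section

variable {B : Sp S} {G X : Over B} [GrpObj G] (a : GAction G X)

theorem act_mul {T : Over B} (g h : T ⟶ G) (x : T ⟶ X) :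
    lift (g * h) x ≫ a.act = lift g (lift h x ≫ a.act) ≫ a.act := by
  have h1 : lift (g * h) x = lift (lift g h) x ≫ (μ[G] ▷ X) := by
    rw [lift_whiskerRight]
    rfl
  rw [h1, Category.assoc, a.mul_act, ← Category.assoc, lift_lift_associator_hom, ← Category.assoc,
    lift_whiskerLeft]

theorem act_one {T : Over B} (x : T ⟶ X) : lift (1 : T ⟶ G) x ≫ a.act = x := by
  have h1 : lift (1 : T ⟶ G) x = lift (toUnit T) x ≫ (η[G] ▷ X) := by
    rw [lift_whiskerRight]
    rfl
  rw [h1, Category.assoc, a.one_act, lift_leftUnitor_hom]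

theorem eq_of_act_eq (ha : a.IsFree) {T : Over S} (β : (yon S).obj T ⟶ B) (g g' : Over.mk β ⟶ G)
    (x : Over.mk β ⟶ X) (h : lift g x ≫ a.act = lift g' x ≫ a.act) : g = g' := by
  have h1 : lift (g'⁻¹ * g) x ≫ a.act = x := by
    rw [act_mul, h, ← act_mul, inv_mul_cancel, act_one]
  have h2 : g'⁻¹ * g = 1 := ha β _ x h1
  exact (inv_mul_eq_one.1 h2).symm

theorem mono_shear (ha : a.IsFree) :
    Mono (lift a.act (snd G X)).left := by
  apply mono_of_yon
  intro T x y h
  have hβ : x ≫ (G ⊗ X).hom = y ≫ (G ⊗ X).hom := by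
    rw [← Over.w (lift a.act (snd G X)), ← Category.assoc, h, Category.assoc]
  let x' : Over.mk (x ≫ (G ⊗ X).hom) ⟶ G ⊗ X := Over.homMk x rfl
  let y' : Over.mk (x ≫ (G ⊗ X).hom) ⟶ G ⊗ X := Over.homMk y hβ.symm
  have h' : x' ≫ lift a.act (snd G X) = y' ≫ lift a.act (snd G X) := Over.OverMorphism.ext h
  have h1 : x' ≫ a.act = y' ≫ a.act := by simpa using congrArg (· ≫ fst X X) h'
  have h2 : x' ≫ snd G X = y' ≫ snd G X := by simpa using congrArg (· ≫ snd X X) h'
  have hx : x' = lift (x' ≫ fst G X) (x' ≫ snd G X) := by simp [← comp_lift]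
  have hy : y' = lift (y' ≫ fst G X) (y' ≫ snd G X) := by simp [← comp_lift]
  rw [hx, hy, ← h2] at h1
  have h3 := eq_of_act_eq a ha _ _ _ _ h1
  have h4 : x' = y' := by rw [hx, hy, h2, h3]
  exact congrArg (fun k => k.left) h4

end

end K607.Act
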