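import Groth.Agent.AlgSp.K607.FpQuot
import Groth.Agent.AlgSp.K606.Boot3

/-!
# A sheaf with a surjective flat locally finitely presented map from an algebraic space, representable by algebraic
spaces, is an algebraic space
-/

set_option autoImplicit false
universe u

open CategoryTheory CategoryTheory.Limits AlgebraicGeometry Opposite

namespace K607.FpCover

open AlgSp

variable {S : Scheme.{u}}

/-- The composite of an atlas with a map representable by algebraic spaces. -/
theorem repWith_atlas_comp {F X : Sp S} {p : X ⟶ F}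
    (hp : RepBySpWith (IsSurjectiveMor ⊓ LocP @Flat ⊓ LocP @LocallyOfFinitePresentation) p.hom) {U : Over S}
    {a : (yon S).obj U ⟶ X} (ha : RepWith @Etale a) (has : RepWith @Surjective a)
    (hrep : Representable (a ≫ p)) : RepWith @Flat (a ≫ p) ∧ RepWith @LocallyOfFinitePresentation (a ≫ p) ∧
      RepWith @Surjective (a ≫ p) := by
  have key : ∀ (T V : Over S) (g : (yon S).obj T ⟶ F) (fst : (yon S).obj V ⟶ (yon S).obj U) (snd : V ⟶ T),
      IsPullback fst ((yon S).map snd) (a ≫ p) g →
        Flat snd.left ∧ LocallyOfFinitePresentation snd.left ∧ Surjective snd.left := by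
    intro T V g fst snd sq
    obtain ⟨h1, ⟨h2, h3⟩, h4⟩ := (repBySpWith_hom_iff _ p).1 hp g _ _ (IsPullback.of_hasPullback p g)
    let φ : (yon S).obj V ⟶ pullback p g := pullback.lift (fst ≫ a) ((yon S).map snd) (by
      rw [Category.assoc, sq.w])
    have hφ : φ ≫ pullback.snd p g = (yon S).map snd := pullback.lift_snd _ _ _
    have sq2 : IsPullback fst φ a (pullback.fst p g) := by
      refine IsPullback.of_bot ?_ (pullback.lift_fst _ _ _).symm (IsPullback.of_hasPullback p g)
      rw [hφ]
      exact sq
    have he : RepWith @Etale φ := K597.repWith_bc _ sq2 ha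
    have hs : RepWith @Surjective φ := K597.repWith_bc _ sq2 has
    have hid : RepWith @Etale (𝟙 ((yon S).obj T)) := repWith_id _ T
    refine ⟨h3 φ (𝟙 _) snd he hid (by rw [Category.comp_id, hφ]), h4 φ (𝟙 _) snd he hid (by rw [Category.comp_id, hφ]), ?_⟩
    have h5 : RepWith @Surjective ((yon S).map snd) := by
      rw [K596.Pts.repWith_surjective_iff (representable_of_yon _), ← hφ]
      exact (funext fun x => Points.map_comp φ _ x : Points.map (φ ≫ pullback.snd p g) = _) ▸
        h2.comp (K596.Pts.surjective_of_repWith hs)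
    exact (repWith_yon_map_iff _ _).1 h5
  exact ⟨⟨hrep, fun T V g fst snd sq => (key _ _ g fst snd sq).1⟩,
    ⟨hrep, fun T V g fst snd sq => (key _ _ g fst snd sq).2.1⟩,
    ⟨hrep, fun T V g fst snd sq => (key _ _ g fst snd sq).2.2⟩⟩

/-- S10104. -/
theorem isAlgSpace_of_repBySpWith {F X : Sp S} (hX : IsAlgSpace X) {p : X ⟶ F}
    (hp : RepBySpWith (IsSurjectiveMor ⊓ LocP @Flat ⊓ LocP @LocallyOfFinitePresentation) p.hom) : IsAlgSpace F := by
  have hd := K606.Boot.s10099 (K606.Boot3.sepLqfSch S) hX hp
  obtain ⟨U, a, ha, has⟩ := hX.atlas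
  have hrep : Representable (a ≫ p) := Functor.relativelyRepresentable.of_diag hd.1 _
  obtain ⟨h1, h2, h3⟩ := repWith_atlas_comp hp ha has hrep
  exact Slice.isAlgSpace_of_fppf_chart hd.1 _ h1 h2 h3

end K607.FpCover
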