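import Groth.Agent.AlgSp.K607.SpQuot
import Groth.Agent.AlgSp.K607.FpCover

/-!
# Sheaves covered by an algebraic space with a flat, locally finitely presented kernel pair
-/

set_option autoImplicit false
universe u

open CategoryTheory CategoryTheory.Limits AlgebraicGeometry Opposite

namespace K607.SpKer

open AlgSp

variable {S : Scheme.{u}}

/-- An algebraic space with a jointly injective pair of maps to schemes, one of which is locally of finite type, is a
scheme. -/
theorem exists_iso_of_jointly_mono {E : Sp S} (hA : IsAlgSpace E) {X T : Over S} (fst : E ⟶ (yon S).obj X)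
    (snd : E ⟶ (yon S).obj T) (hm : ∀ {Z : Sp S} (x y : Z ⟶ E), x ≫ fst = y ≫ fst → x ≫ snd = y ≫ snd → x = y)
    (hl : LocP @LocallyOfFiniteType snd) : ∃ V : Over S, Nonempty ((yon S).obj V ≅ E) := by
  let W : Over S := X ⨯ T
  have hW0 : IsPullback (prod.fst : X ⨯ T ⟶ X) prod.snd (Over.mkIdTerminal.from X)
      (Over.mkIdTerminal.from T) :=
    IsPullback.of_isLimit_binaryFan_of_isTerminal (limit.isLimit _) Over.mkIdTerminal
  have hW := hW0.map (yon S)
  let a : E ⟶ (yon S).obj W := hW.lift fst snd ((K596.QC2.isTerminalYon S).hom_ext _ _)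
  have ha1 : a ≫ (yon S).map (prod.fst : W ⟶ X) = fst := hW.lift_fst _ _ _
  have ha2 : a ≫ (yon S).map (prod.snd : W ⟶ T) = snd := hW.lift_snd _ _ _
  have hm : Mono a := by
    refine ⟨fun {Z} x y hxy => hm x y ?_ ?_⟩
    · rw [← ha1, ← Category.assoc, hxy, Category.assoc]
    · rw [← ha2, ← Category.assoc, hxy, Category.assoc]
  have hla : LocP @LocallyOfFiniteType a := by
    refine K597.locP_of_comp' K597.etLoc_lft (g := (yon S).map (prod.snd : W ⟶ T)) ?_ hA.hasAtlas
      (IsAlgSpace.yon_obj _).hasAtlas (IsAlgSpace.yon_obj _).hasAtlas ?_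
    · intro A B C f g h
      exact locallyOfFiniteType_of_comp f g
    · rw [ha2]; exact hl
  exact K606.Boot2.exists_iso_of_mono (K606.Boot3.sepLqfSch S) hA a hla

/-- Restriction of the kernel pair to a chart. -/
theorem exists_kernelPair {F U R : Sp S} (hU : IsAlgSpace U) (hR : IsAlgSpace R) {q : U ⟶ F} {s t : R ⟶ U}
    (h : IsPullback t s q q) {V : Over S} {a : (yon S).obj V ⟶ U} (ha : RepWith @Etale a)
    (hs : LocP @LocallyOfFiniteType s) :
    ∃ (R' : Over S) (s' t' : R' ⟶ V), IsPullback ((yon S).map t') ((yon S).map s') (a ≫ q) (a ≫ q) ∧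
      (∀ (P : MorphismProperty Scheme.{u}) [P.IsStableUnderBaseChange], K597.EtLoc P → LocP P s → P s'.left) ∧
      (∀ (P : MorphismProperty Scheme.{u}) [P.IsStableUnderBaseChange], K597.EtLoc P → LocP P t → P t'.left) := by
  have h1 := IsPullback.of_hasPullback a t
  have hAsp : IsAlgSpace (pullback a t) :=
    K606.RepBySp.isAlgSpace_of_isPullback_of_diag (IsAlgSpace.yon_obj V) hR hU.diag h1
  have h2 : IsPullback (pullback.fst a t) (pullback.snd a t ≫ s) (a ≫ q) q :=
    (h1.flip.paste_horiz h.flip).flip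
  have h3 := IsPullback.of_hasPullback (pullback.snd a t ≫ s) a
  have hBsp : IsAlgSpace (pullback (pullback.snd a t ≫ s) a) :=
    K606.RepBySp.isAlgSpace_of_isPullback_of_diag hAsp (IsAlgSpace.yon_obj V) hU.diag h3
  have h4 := h3.paste_horiz h2
  have hV := (IsAlgSpace.yon_obj V).hasAtlas
  have hlocs : ∀ (P : MorphismProperty Scheme.{u}) [P.IsStableUnderBaseChange], K597.EtLoc P → LocP P s →
      LocP P (pullback.snd (pullback.snd a t ≫ s) a) := by
    intro P _ hP hsP
    exact K597.locP_bc hP h3 hAsp.hasAtlas hU.hasAtlas hV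
      (K597.locP_precomp (K597.repWith_bc _ h1 ha) hsP)
  have hloct : ∀ (P : MorphismProperty Scheme.{u}) [P.IsStableUnderBaseChange], K597.EtLoc P → LocP P t →
      LocP P (pullback.fst (pullback.snd a t ≫ s) a ≫ pullback.fst a t) := by
    intro P _ hP htP
    refine K597.locP_precomp ?_ (K597.locP_bc hP h1.flip hR.hasAtlas hU.hasAtlas hV htP)
    exact K597.repWith_bc' _ h3 ha
  obtain ⟨R', ⟨e⟩⟩ := exists_iso_of_jointly_mono hBsp _ _ (fun x y => h4.hom_ext) (hlocs _ K597.etLoc_lft hs)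
  obtain ⟨s', hs'⟩ := (yon S).map_surjective (e.hom ≫ pullback.snd (pullback.snd a t ≫ s) a)
  obtain ⟨t', ht'⟩ := (yon S).map_surjective (e.hom ≫ pullback.fst (pullback.snd a t ≫ s) a ≫ pullback.fst a t)
  have he : RepWith @Etale e.hom := K598.RepKit.repWith_of_isIso e.hom
  have hid : RepWith @Etale (𝟙 ((yon S).obj V)) := repWith_id _ V
  refine ⟨R', s', t', ?_, ?_, ?_⟩
  · refine h4.of_iso e.symm (Iso.refl _) (Iso.refl _) (Iso.refl _) ?_ ?_ ?_ ?_
    · rw [ht']; simp
    · rw [hs']; simp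
    · simp
    · simp
  · intro P _ hP hsP
    exact hlocs P hP hsP e.hom (𝟙 _) s' he hid (by rw [Category.comp_id, hs'])
  · intro P _ hP htP
    exact hloct P hP htP e.hom (𝟙 _) t' he hid (by rw [Category.comp_id, ht'])

/-- A locally surjective map from an algebraic space with a flat, locally finitely presented kernel pair. -/
theorem of_kernelPair {F U R : Sp S} (hU : IsAlgSpace U) (hR : IsAlgSpace R) {q : U ⟶ F}
    [Sheaf.IsLocallySurjective q] {s t : R ⟶ U} (h : IsPullback t s q q) (hs : LocP @Flat s)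
    (hs' : LocP @LocallyOfFinitePresentation s) (ht' : LocP @LocallyOfFiniteType t) {V : Over S}
    {a : (yon S).obj V ⟶ U} (ha : RepWith @Etale a) (has : RepWith @Surjective a) :
    Representable (Limits.diag F) ∧ RepWith @Flat (a ≫ q) ∧ RepWith @LocallyOfFinitePresentation (a ≫ q) ∧
      RepWith @Surjective (a ≫ q) := by
  obtain ⟨R', s', t', h', hs1, ht1⟩ := exists_kernelPair hU hR h ha (K606.Boot.locP_lft_of_lfp hs')
  have i1 : Flat s'.left := hs1 _ K597.etLoc_flat hs
  have i2 : LocallyOfFinitePresentation s'.left := hs1 _ K597.etLoc_lfp hs'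
  have i3 : LocallyOfFiniteType t'.left := ht1 _ K597.etLoc_lft ht'
  have i4 : Sheaf.IsLocallySurjective a := K594.Basic.isLocallySurjective_of_etale a ha has
  exact FpQuot.of_kernelPair (a ≫ q) h'

theorem isAlgSpace_of_kernelPair {F U R : Sp S} (hU : IsAlgSpace U) (hR : IsAlgSpace R) {q : U ⟶ F}
    [Sheaf.IsLocallySurjective q] {s t : R ⟶ U} (h : IsPullback t s q q) (hs : LocP @Flat s)
    (hs' : LocP @LocallyOfFinitePresentation s) (ht' : LocP @LocallyOfFiniteType t) : IsAlgSpace F := by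
  obtain ⟨V, a, ha, has⟩ := hU.atlas
  obtain ⟨h1, h2, h3, h4⟩ := of_kernelPair hU hR h hs hs' ht' ha has
  exact Slice.isAlgSpace_of_fppf_chart h1 _ h2 h3 h4

theorem props_of_kernelPair {F U R : Sp S} (hU : IsAlgSpace U) (hR : IsAlgSpace R) {q : U ⟶ F}
    [Sheaf.IsLocallySurjective q] {s t : R ⟶ U} (h : IsPullback t s q q) (hs : LocP @Flat s)
    (hs' : LocP @LocallyOfFinitePresentation s) (ht' : LocP @LocallyOfFiniteType t) :
    IsSurjectiveMor q ∧ LocP @Flat q ∧ LocP @LocallyOfFinitePresentation q := by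
  obtain ⟨V, a, ha, has⟩ := hU.atlas
  obtain ⟨h1, h2, h3, h4⟩ := of_kernelPair hU hR h hs hs' ht' ha has
  have hF := Slice.isAlgSpace_of_fppf_chart h1 _ h2 h3 h4
  refine ⟨?_, ?_, ?_⟩
  · have h5 := K596.Pts.surjective_of_repWith h4
    intro y
    obtain ⟨x, rfl⟩ := h5 y
    exact ⟨Points.map a x, (Points.map_comp a q x).symm⟩
  · exact K597.locP_of_source K597.etLoc_flat (IsAlgSpace.yon_obj V).hasAtlas hF.hasAtlas ha has
      (K597.locP_of_repWith K597.etLoc_flat.precomp h2)
  · exact K597.locP_of_source K597.etLoc_lfp (IsAlgSpace.yon_obj V).hasAtlas hF.hasAtlas ha has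
      (K597.locP_of_repWith K597.etLoc_lfp.precomp h3)

section Quot

variable {U R : Sp S} {s t : R ⟶ U}

instance isLocallySurjective_quotSpπ : Sheaf.IsLocallySurjective (quotSpπ s t) := by
  rw [Sheaf.isLocallySurjective_iff_epi]
  infer_instance

theorem isAlgSpace_quotSp (hR : IsAlgSpace R) (hU : IsAlgSpace U) (hj : IsEqvRelSp s t)
    (hs : LocP @Flat s ∧ LocP @LocallyOfFinitePresentation s)
    (ht : LocP @LocallyOfFiniteType t) : IsAlgSpace (quotSp s t) :=
  isAlgSpace_of_kernelPair hU hR (SpQuot.isPullback_quotSpπ hj) hs.1 hs.2 ht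

theorem quotSpπ_props (hR : IsAlgSpace R) (hU : IsAlgSpace U) (hj : IsEqvRelSp s t)
    (hs : LocP @Flat s ∧ LocP @LocallyOfFinitePresentation s)
    (ht : LocP @LocallyOfFiniteType t) : IsSurjectiveMor (quotSpπ s t) ∧ LocP @Flat (quotSpπ s t) ∧
      LocP @LocallyOfFinitePresentation (quotSpπ s t) :=
  props_of_kernelPair hU hR (SpQuot.isPullback_quotSpπ hj) hs.1 hs.2 ht

end Quot

end K607.SpKer
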