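import Groth.Agent.AlgSp.K607.Eqv
import Groth.Agent.S1877
import Groth.Agent.S1878
import Groth.Agent.S1881
import Mathlib.AlgebraicGeometry.Sites.Fpqc
import Mathlib.CategoryTheory.Limits.Constructions.Over.Connected

/-!
# Quotients of affine schemes by finite locally free equivalence relations, invariant affine opens
-/

set_option autoImplicit false
universe u

open CategoryTheory CategoryTheory.Limits AlgebraicGeometry

namespace K607.AffQuot

variable {S : Scheme.{u}} {R U : Over S} {s t : R ⟶ U} (h : AlgSp.IsEqvRel s t)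

include h

/-- The quotient of an affine scheme by a finite locally free equivalence relation. -/
theorem exists_quot [IsAffine U.left] (hs : IsFinite s.left) (hs' : Flat s.left)
    (hs'' : LocallyOfFinitePresentation s.left) (ht : IsFinite t.left) (ht' : Flat t.left)
    (ht'' : LocallyOfFinitePresentation t.left) :
    ∃ (M : Over S) (ρ : U ⟶ M), IsAffine M.left ∧ IsFinite ρ.left ∧ Flat ρ.left ∧
      LocallyOfFinitePresentation ρ.left ∧ Surjective ρ.left ∧ IsPullback t s ρ ρ := by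
  let G := Eqv.gpd h
  have i1 : IsAffine G.U := inferInstanceAs (IsAffine U.left)
  have i2 : IsFinite G.s := hs
  have i3 : Flat G.s := hs'
  have i4 : LocallyOfFinitePresentation G.s := hs''
  have i5 : IsFinite G.t := ht
  have i6 : Flat G.t := ht'
  have i7 : LocallyOfFinitePresentation G.t := ht''
  have i8 : IsAffine G.R := isAffine_of_isAffineHom G.s
  have i9 : Mono G.j := Eqv.mono_j h
  obtain ⟨⟨f1, f2, f3⟩, φ, hφ1, hφ2⟩ := Groth.Agent.S1877.result S G
  have f4 : Surjective G.toQuot := ⟨(Groth.Agent.S1878.result S G).1.1⟩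
  have sq : IsPullback t.left s.left G.toQuot G.toQuot :=
    IsPullback.of_iso_pullback ⟨by
      change G.t ≫ _ = G.s ≫ _
      rw [← hφ1, ← hφ2, Category.assoc, Category.assoc, pullback.condition]⟩ φ hφ1 hφ2
  have hW : ∀ {Z : Scheme.{u}} (g₁ g₂ : Z ⟶ U.left), g₁ ≫ G.toQuot = g₂ ≫ G.toQuot →
      g₁ ≫ U.hom = g₂ ≫ U.hom := by
    intro Z g₁ g₂ hg
    rw [← sq.lift_fst g₁ g₂ hg, Category.assoc, Over.w, ← Over.w s, ← Category.assoc, sq.lift_snd]
  have f5 : EffectiveEpi (G.toQuot : U.left ⟶ _) := by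
    have : Flat (G.toQuot : U.left ⟶ _) := f2
    have : Surjective (G.toQuot : U.left ⟶ _) := f4
    have : QuasiCompact (G.toQuot : U.left ⟶ _) := inferInstanceAs (QuasiCompact G.toQuot)
    infer_instance
  let m := EffectiveEpi.desc (G.toQuot : U.left ⟶ _) U.hom (fun g₁ g₂ hg => hW g₁ g₂ hg)
  have hm : G.toQuot ≫ m = U.hom := EffectiveEpi.fac _ _ _
  let M : Over S := Over.mk m
  let ρ : U ⟶ M := Over.homMk G.toQuot hm
  refine ⟨M, ρ, inferInstanceAs (IsAffine (Spec _)), f1, f2, f3, f4, ?_⟩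
  exact IsPullback.of_map (Over.forget S) (by ext1; exact sq.w) sq

/-- The restriction of an equivalence relation to an invariant open subscheme. -/
theorem exists_restrict (W : U.left.Opens) (hW : s.left ⁻¹ᵁ W = t.left ⁻¹ᵁ W) :
    ∃ (W' PW : Over S) (i : W' ⟶ U) (j : PW ⟶ R) (s' t' : PW ⟶ W'), IsOpenImmersion i.left ∧
      Nonempty (W'.left ≅ (W : Scheme.{u})) ∧ Set.range i.left = W ∧
      IsPullback j s' s i ∧ IsPullback j t' t i ∧ AlgSp.IsEqvRel s' t' := by
  let W' : Over S := Over.mk (W.ι ≫ U.hom)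
  let i : W' ⟶ U := Over.homMk W.ι rfl
  let PW : Over S := Over.mk ((s.left ⁻¹ᵁ W).ι ≫ R.hom)
  let j : PW ⟶ R := Over.homMk (s.left ⁻¹ᵁ W).ι rfl
  have key : ∀ (f : R ⟶ U) (hf : s.left ⁻¹ᵁ W = f.left ⁻¹ᵁ W), ∃ f' : PW ⟶ W', IsPullback j f' f i := by
    intro f hf
    have h1 : ∃ g : (s.left ⁻¹ᵁ W : Scheme.{u}) ⟶ W, IsPullback (s.left ⁻¹ᵁ W).ι g f.left W.ι := by
      rw [hf]
      exact ⟨f.left ∣_ W, (isPullback_morphismRestrict f.left W).flip⟩
    obtain ⟨g, hg⟩ := h1
    let f' : PW ⟶ W' := Over.homMk g (by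
      change g ≫ W.ι ≫ U.hom = (s.left ⁻¹ᵁ W).ι ≫ R.hom
      rw [← Category.assoc, ← hg.w, Category.assoc, Over.w])
    exact ⟨f', IsPullback.of_map (Over.forget S) (by ext1; exact hg.w) hg⟩
  obtain ⟨s', hs'⟩ := key s rfl
  obtain ⟨t', ht'⟩ := key t hW
  have io : IsOpenImmersion i.left := inferInstanceAs (IsOpenImmersion W.ι)
  have ijo : IsOpenImmersion j.left := inferInstanceAs (IsOpenImmersion (s.left ⁻¹ᵁ W).ι)
  have im : Mono i := ⟨fun a b hab => by
    ext1
    rw [← cancel_mono i.left]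
    exact congrArg (fun f => f.left) hab⟩
  have jm : Mono j := ⟨fun a b hab => by
    ext1
    rw [← cancel_mono j.left]
    exact congrArg (fun f => f.left) hab⟩
  refine ⟨W', PW, i, j, s', t', io, ⟨Iso.refl _⟩, Scheme.Opens.range_ι W, hs', ht', ?_⟩
  have hch : ∀ (T : Over S) (a b : T ⟶ W'), (∃ r : T ⟶ PW, r ≫ t' = a ∧ r ≫ s' = b) ↔
      ∃ r : T ⟶ R, r ≫ t = a ≫ i ∧ r ≫ s = b ≫ i := by
    intro T a b
    constructor
    · rintro ⟨r, rfl, rfl⟩
      exact ⟨r ≫ j, by rw [Category.assoc, Category.assoc, ht'.w], by rw [Category.assoc, Category.assoc, hs'.w]⟩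
    · rintro ⟨r, h1, h2⟩
      refine ⟨ht'.lift r a h1, ht'.lift_snd _ _ _, ?_⟩
      rw [← cancel_mono i, Category.assoc, ← hs'.w, ← Category.assoc, ht'.lift_fst, h2]
  refine ⟨fun T r r' h1 h2 => ?_, fun T => ?_⟩
  · rw [← cancel_mono j]
    refine h.injective T _ _ ?_ ?_
    · rw [Category.assoc, Category.assoc, ht'.w, reassoc_of% h1]
    · rw [Category.assoc, Category.assoc, hs'.w, reassoc_of% h2]
  · have he := h.equivalence T
    exact ⟨fun a => (hch T a a).2 (he.refl _), fun hab => (hch T _ _).2 (he.symm ((hch T _ _).1 hab)),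
      fun hab hbc => (hch T _ _).2 (he.trans ((hch T _ _).1 hab) ((hch T _ _).1 hbc))⟩

end K607.AffQuot
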