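import Groth.Agent.AlgSp.K607.ArtinPres
import Groth.Agent.Algz.K724.Approx
import Groth.Agent.S0599

/-!
The approximation theorem of Conrad and de Jong over a general base ring (after `Groth.Agent.Algz.K724.Approx1`,
helper724) (helper607).
-/

set_option autoImplicit false
set_option linter.style.haveILetI false
universe u v w

namespace K607.ArtinApprox

open IsLocalRing K724.EtNbd AssocGr K724.ArtinRees K724.Approx K724

variable (Λ : Type u) [CommRing Λ] (k : Type u) [Field k] [Algebra Λ k] (R : Type u) [CommRing R] [Algebra Λ R]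
  [IsLocalRing R] [IsNoetherianRing R] [IsAdicComplete (maximalIdeal R) R] (γ : R →ₐ[Λ] k)

theorem exists_approx (hΛ : CAlg.IsGRing Λ) [Algebra.FiniteType Λ k] (hγs : Function.Surjective γ)
    {B₀ : Type u} [CommRing B₀] [Algebra Λ B₀] [Algebra.FinitePresentation Λ B₀] (β : B₀ →ₐ[Λ] R) (N : ℕ) :
    ∃ (A : Type u) (_ : CommRing A) (_ : Algebra Λ A) (_ : Algebra.FiniteType Λ A)
      (m : Ideal A) (γA : A →ₐ[Λ] k) (_ : Function.Surjective γA) (_ : RingHom.ker γA = m)
      (β' : B₀ →ₐ[Λ] A)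
      (φ : (R ⧸ maximalIdeal R ^ (N + 1)) ≃ₐ[Λ] (A ⧸ m ^ (N + 1))),
      (φ.toAlgHom.comp (Ideal.Quotient.mkₐ Λ (maximalIdeal R ^ (N + 1)))).comp β =
        (Ideal.Quotient.mkₐ Λ (m ^ (N + 1))).comp β' ∧
      (∀ (r : R) (a : A), φ (Ideal.Quotient.mk _ r) = Ideal.Quotient.mk _ a → γ r = γA a) ∧
      Nonempty (GrRing (FiltBl.IdealFiltration.adic (maximalIdeal R)) ≃+*
        GrRing (FiltBl.IdealFiltration.adic m)) := by
  classical
  have hNoeth : IsNoetherianRing Λ := hΛ.1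
  have hγ : RingHom.ker γ = maximalIdeal R :=
    IsLocalRing.eq_maximalIdeal (RingHom.ker_isMaximal_of_surjective γ.toRingHom hγs)
  obtain ⟨σ, _, ρ, π, hρ, hπ, hm, hker, hγπ⟩ := ArtinPres.exists_pres Λ k R γ hγs
  let P := MvPolynomial σ Λ
  let m₀ : Ideal P := RingHom.ker ρ
  let Ph := AdicCompletion m₀ P
  have hfg : m₀.FG := IsNoetherian.noetherian _
  haveI : m₀.IsMaximal := K725.Completion.ker_isMaximal_of_surj ρ hρ
  haveI : IsNoetherianRing Ph := (K725.Completion.cpl ρ hρ hfg).isNoetherianRing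
  have hhat : ∀ n, hat m₀ n = (m₀.map (algebraMap P Ph)) ^ n := Pres.hat_eq_pow m₀ hfg
  have hG : CAlg.IsGRing P := Groth.Agent.S0599.result Λ hΛ P
  -- a presentation of `R` over the completion, with syzygies
  obtain ⟨r, fe, hfe⟩ := Submodule.fg_iff_exists_fin_generating_family.1 (IsNoetherian.noetherian (RingHom.ker π))
  obtain ⟨s, Me, hMe⟩ := Submodule.fg_iff_exists_fin_generating_family.1
    (IsNoetherian.noetherian (LinearMap.ker (Fintype.linearCombination Ph fe)))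
  have hfe' : ∀ l, π (fe l) = 0 := fun l => by
    have : fe l ∈ RingHom.ker π := by rw [← hfe]; exact Submodule.subset_span ⟨l, rfl⟩
    exact this
  have hMe' : ∀ q, ∑ l, Me q l * fe l = 0 := fun q => by
    have : Me q ∈ LinearMap.ker (Fintype.linearCombination Ph fe) := by
      rw [← hMe]; exact Submodule.subset_span ⟨q, rfl⟩
    exact this
  obtain ⟨c₁, h₁⟩ := exists_AR (m₀.map (algebraMap P Ph)) (Fintype.linearCombination Ph fe)
  obtain ⟨c₂, h₂⟩ := exists_AR (m₀.map (algebraMap P Ph)) (Fintype.linearCombination Ph Me)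
  obtain ⟨c, hc₁, hc₂⟩ : ∃ c, c₁ ≤ c ∧ c₂ ≤ c := ⟨max c₁ c₂, le_max_left _ _, le_max_right _ _⟩
  obtain ⟨N', hN₁, hN₂⟩ : ∃ N', c + 1 ≤ N' ∧ N + 1 ≤ N' := ⟨max (c + 1) (N + 1), le_max_left _ _, le_max_right _ _⟩
  -- a presentation of `B₀`
  obtain ⟨t, p, hp, G, hGk⟩ := (inferInstance : Algebra.FinitePresentation Λ B₀).out
  choose z hz using fun i : Fin t => hπ (β (p (MvPolynomial.X i)))
  have hz' : ∀ g : MvPolynomial (Fin t) Λ, π (MvPolynomial.aeval z g) = β (p g) := by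
    intro g
    have : (π.comp (MvPolynomial.aeval z) : MvPolynomial (Fin t) Λ →ₐ[Λ] R) = β.comp p := by
      apply MvPolynomial.algHom_ext
      intro i
      rw [AlgHom.comp_apply, MvPolynomial.aeval_X, hz]
      rfl
    exact DFunLike.congr_fun this g
  have hcf : ∀ g : G, ∃ u : Fin r → Ph, ∑ l, u l * fe l = MvPolynomial.aeval z g.1 := by
    intro g
    have h1 : g.1 ∈ RingHom.ker p := by
      have h2 : (g : MvPolynomial (Fin t) Λ) ∈ Ideal.span (G : Set (MvPolynomial (Fin t) Λ)) := Ideal.subset_span g.2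
      rw [hGk] at h2
      exact h2
    have h2 : MvPolynomial.aeval z g.1 ∈ RingHom.ker π := by
      rw [RingHom.mem_ker, hz', show p g.1 = 0 from h1, map_zero]
    rw [← hfe] at h2
    obtain ⟨u, hu⟩ := Submodule.mem_span_range_iff_exists_fun Ph |>.1 h2
    exact ⟨u, hu⟩
  choose cf hcf using hcf
  -- the finitely generated subalgebra
  let S : Set Ph := Set.range z ∪ Set.range fe ∪ Set.range (fun q : Fin s × Fin r => Me q.1 q.2) ∪
    Set.range (fun q : G × Fin r => cf q.1 q.2)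
  have hSfin : S.Finite := (((Set.finite_range _).union (Set.finite_range _)).union (Set.finite_range _)).union
    (Set.finite_range _)
  let Q : Subalgebra P Ph := Algebra.adjoin P S
  have hft : Algebra.FiniteType P Q := (Subalgebra.fg_iff_finiteType _).mp (Subalgebra.fg_def.2 ⟨S, hSfin, rfl⟩)
  have hfp : Algebra.FinitePresentation P Q := Algebra.FinitePresentation.of_finiteType.mp hft
  have hzQ : ∀ i, z i ∈ Q := fun i => Algebra.subset_adjoin (Or.inl (Or.inl (Or.inl ⟨i, rfl⟩)))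
  have hfQ : ∀ l, fe l ∈ Q := fun l => Algebra.subset_adjoin (Or.inl (Or.inl (Or.inr ⟨l, rfl⟩)))
  have hMQ : ∀ q l, Me q l ∈ Q := fun q l => Algebra.subset_adjoin (Or.inl (Or.inr ⟨(q, l), rfl⟩))
  have hcQ : ∀ g l, cf g l ∈ Q := fun g l => Algebra.subset_adjoin (Or.inr ⟨(g, l), rfl⟩)
  obtain ⟨E, _, _, _, α, θ, hαθ⟩ := EtApprox.exists_etale_approx m₀ hG Q.val N'
  have hαθ' : ∀ x : Q, θ (α x) - x.1 ∈ hat m₀ N' := fun x => by
    rw [mem_hat, map_sub, hαθ, sub_eq_zero]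
    rfl
  let zE : Fin t → E := fun i => α ⟨z i, hzQ i⟩
  let fE : Fin r → E := fun l => α ⟨fe l, hfQ l⟩
  let ME : Fin s → Fin r → E := fun q l => α ⟨Me q l, hMQ q l⟩
  have hMfE : ∀ q, ∑ l, ME q l * fE l = 0 := by
    intro q
    have h1 : (∑ l, (⟨Me q l, hMQ q l⟩ : Q) * ⟨fe l, hfQ l⟩ : Q) = 0 := by
      apply Subtype.ext
      rw [AddSubmonoidClass.coe_finsetSum]
      exact hMe' q
    rw [← map_zero α, ← h1, map_sum]
    exact Finset.sum_congr rfl fun l _ => (map_mul α _ _).symm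
  -- the approximating algebra
  letI : Algebra Λ E := ((algebraMap P E).comp (algebraMap Λ P)).toAlgebra
  haveI : IsScalarTower Λ P E := IsScalarTower.of_algebraMap_eq fun _ => rfl
  let J : Ideal E := Ideal.span (Set.range fE)
  let A := E ⧸ J
  let m : Ideal A := (mE m₀ θ).map (Ideal.Quotient.mk J)
  let g₂ : P →ₐ[Λ] A := (Ideal.Quotient.mkₐ Λ J).comp (IsScalarTower.toAlgHom Λ P E)
  have hg₂ : ∀ a, g₂ a = Ideal.Quotient.mk J (algebraMap P E a) := fun _ => rfl
  let g₁ : P →ₐ[Λ] R := π.comp (IsScalarTower.toAlgHom Λ P Ph)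
  have hg₁ : ∀ a, g₁ a = π (algebraMap P Ph a) := fun _ => rfl
  have hm' : m₀.map g₁.toRingHom = maximalIdeal R := hm
  have hI₀ : (m₀.map (algebraMap P Ph)).map π.toRingHom = maximalIdeal R := by
    rw [← hm, ← Ideal.map_map]
  -- membership criteria
  have hC2 : ∀ n a, g₁ a ∈ maximalIdeal R ^ n ↔ algebraMap P Ph a ∈ hat m₀ n ⊔ Ideal.span (Set.range fe) := by
    intro n a
    have h1 := map_mem_pow_iff π.toRingHom hπ (m₀.map (algebraMap P Ph)) n (algebraMap P Ph a)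
    rw [hI₀, ← hhat] at h1
    refine h1.trans ?_
    have h2 : Ideal.span (Set.range fe) = RingHom.ker π.toRingHom := hfe
    rw [h2]
  have hC3 : ∀ n a, g₂ a ∈ m ^ n ↔ algebraMap P Ph a ∈ hat m₀ n ⊔ Ideal.span (Set.range fun l => θ (fE l)) :=
    fun n a => quot_mem_iff m₀ θ fE n a
  have hcongr : hat m₀ (N + 1) ⊔ Ideal.span (Set.range fe) =
      hat m₀ (N + 1) ⊔ Ideal.span (Set.range fun l => θ (fE l)) :=
    sup_eq_of_congr m₀ fe _ (N + 1) fun l => hat_anti m₀ hN₂ (hαθ' ⟨fe l, hfQ l⟩)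
  have hJle : J ≤ mE m₀ θ := by
    rw [Ideal.span_le]
    rintro _ ⟨l, rfl⟩
    have h1 : θ (fE l) = (θ (fE l) - fe l) + fe l := by ring
    change θ (fE l) ∈ hat m₀ 1
    rw [h1]
    exact Ideal.add_mem _ (hat_anti m₀ (by omega) (hαθ' ⟨fe l, hfQ l⟩)) (hker (hfe' l))
  -- residue field
  let res : Ph →ₐ[Λ] k := K725.Completion.cplRes ρ hρ
  have hres : ∀ x, x ∈ hat m₀ 1 ↔ res x = 0 := by
    intro x
    have h1 := K725.Completion.ker_cplRes ρ hρ hfg
    rw [hhat, pow_one]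
    change x ∈ m₀.map (algebraMap P Ph) ↔ x ∈ RingHom.ker (K725.Completion.cplRes ρ hρ)
    rw [h1]
  have hresP : ∀ a : P, res (algebraMap P Ph a) = ρ a := fun a =>
    DFunLike.congr_fun (K725.Completion.cplRes_comp ρ hρ) a
  let γE : E →ₐ[Λ] k :=
    { (res.toRingHom.comp θ.toRingHom) with
      commutes' := fun c => by
        change res (θ (algebraMap P E (algebraMap Λ P c))) = _
        rw [θ.commutes, hresP, AlgHom.commutes] }
  have hγE : ∀ x, γE x = res (θ x) := fun _ => rfl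
  have hγEJ : ∀ x ∈ J, γE x = 0 := fun x hx => (hres _).1 (hJle hx)
  let γA : A →ₐ[Λ] k := Ideal.Quotient.liftₐ J γE hγEJ
  have hγA : ∀ x, γA (Ideal.Quotient.mk J x) = res (θ x) := fun _ => rfl
  have hγAs : Function.Surjective γA := by
    intro c
    obtain ⟨q, hq⟩ := hρ c
    refine ⟨g₂ q, ?_⟩
    rw [hg₂, hγA, θ.commutes, hresP, hq]
  have hγAm : RingHom.ker γA = m := by
    ext x
    obtain ⟨x, rfl⟩ := Ideal.Quotient.mk_surjective x
    rw [RingHom.mem_ker, hγA, ← hres]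
    change x ∈ mE m₀ θ ↔ _
    have h1 := map_mem_pow_iff (Ideal.Quotient.mk J) Ideal.Quotient.mk_surjective (mE m₀ θ) 1 x
    rw [pow_one, pow_one, Ideal.mk_ker, sup_eq_left.2 hJle] at h1
    exact h1.symm
  -- finite type
  haveI : Algebra.FiniteType P E := inferInstance
  haveI : Algebra.FiniteType Λ E := Algebra.FiniteType.trans (S := P) inferInstance inferInstance
  haveI : Algebra.FiniteType Λ A := inferInstance
  -- the map from `B₀`
  let q₀ : MvPolynomial (Fin t) Λ →ₐ[Λ] A := MvPolynomial.aeval fun i => Ideal.Quotient.mk J (zE i)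
  have hq₀ : ∀ g, p g = 0 → q₀ g = 0 := by
    have h1 : RingHom.ker p.toRingHom ≤ RingHom.ker q₀ := by
      have h0 : RingHom.ker p.toRingHom = Ideal.span (G : Set (MvPolynomial (Fin t) Λ)) := hGk.symm
      rw [h0, Ideal.span_le]
      intro g hg
      let αk : Q →ₐ[Λ] E := α.restrictScalars Λ
      let zQ : Fin t → Q := fun i => ⟨z i, hzQ i⟩
      have h2 : (MvPolynomial.aeval zQ g : Q) = ∑ l, (⟨cf ⟨g, hg⟩ l, hcQ _ l⟩ : Q) * ⟨fe l, hfQ l⟩ := by
        apply Subtype.ext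
        rw [AddSubmonoidClass.coe_finsetSum]
        refine Eq.trans ?_ (hcf ⟨g, hg⟩).symm
        have h3 : (Q.val.restrictScalars Λ).comp (MvPolynomial.aeval zQ) = MvPolynomial.aeval z := by
          apply MvPolynomial.algHom_ext
          intro i
          rw [AlgHom.comp_apply, MvPolynomial.aeval_X, MvPolynomial.aeval_X]
          rfl
        exact DFunLike.congr_fun h3 g
      have h4 : q₀ g = Ideal.Quotient.mk J (α (MvPolynomial.aeval zQ g)) := by
        have h5 : q₀ = ((Ideal.Quotient.mkₐ Λ J).comp αk).comp (MvPolynomial.aeval zQ) := by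
          apply MvPolynomial.algHom_ext
          intro i
          rw [AlgHom.comp_apply, MvPolynomial.aeval_X, MvPolynomial.aeval_X]
          rfl
        exact DFunLike.congr_fun h5 g
      change q₀ g = 0
      rw [h4, h2, map_sum, Ideal.Quotient.eq_zero_iff_mem]
      refine Ideal.sum_mem _ fun l _ => ?_
      rw [map_mul]
      exact Ideal.mul_mem_left _ _ (Ideal.subset_span ⟨l, rfl⟩)
    exact fun g hg => h1 hg
  obtain ⟨β', hβ'⟩ := exists_lift_of_surjective p hp q₀ hq₀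
  -- the isomorphism of truncations
  let u₁ : P →ₐ[Λ] R ⧸ maximalIdeal R ^ (N + 1) := (Ideal.Quotient.mkₐ Λ _).comp g₁
  let u₂ : P →ₐ[Λ] A ⧸ m ^ (N + 1) := (Ideal.Quotient.mkₐ Λ _).comp g₂
  have hu₁ : Function.Surjective u₁ := by
    intro x
    obtain ⟨x, rfl⟩ := Ideal.Quotient.mk_surjective x
    obtain ⟨y, rfl⟩ := hπ x
    obtain ⟨a, ha⟩ := exists_sub_mem_hat m₀ (N + 1) y
    refine ⟨a, ?_⟩
    change Ideal.Quotient.mk _ (g₁ a) = _
    symm
    rw [Ideal.Quotient.eq, hg₁, ← map_sub, ← hI₀]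
    change π.toRingHom _ ∈ _
    rw [← Ideal.map_pow]
    apply Ideal.mem_map_of_mem
    rw [← hhat]
    exact ha
  have hu₂ : Function.Surjective u₂ := by
    intro x
    obtain ⟨x, rfl⟩ := Ideal.Quotient.mk_surjective x
    obtain ⟨x, rfl⟩ := Ideal.Quotient.mk_surjective x
    obtain ⟨a, ha⟩ := exists_sub_mem_pow m₀ θ (N + 1) x
    refine ⟨a, ?_⟩
    change Ideal.Quotient.mk _ (g₂ a) = _
    symm
    rw [Ideal.Quotient.eq, hg₂, ← map_sub, ← Ideal.map_pow]
    exact Ideal.mem_map_of_mem _ ha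
  obtain ⟨φ, hφ⟩ := exists_algEquiv u₁ hu₁ u₂ hu₂ fun a => by
    change Ideal.Quotient.mk _ (g₁ a) = 0 ↔ Ideal.Quotient.mk _ (g₂ a) = 0
    rw [Ideal.Quotient.eq_zero_iff_mem, Ideal.Quotient.eq_zero_iff_mem, hC2, hC3, hcongr]
  refine ⟨A, inferInstance, inferInstance, inferInstance, m, γA, hγAs, hγAm, β', φ, ?_, ?_, ?_⟩
  · apply AlgHom.ext
    intro b
    obtain ⟨g, rfl⟩ := hp b
    have h1 : ((φ.toAlgHom.comp (Ideal.Quotient.mkₐ Λ (maximalIdeal R ^ (N + 1)))).comp β).comp p =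
        ((Ideal.Quotient.mkₐ Λ (m ^ (N + 1))).comp β').comp p := by
      apply MvPolynomial.algHom_ext
      intro i
      change φ (Ideal.Quotient.mk _ (β (p (MvPolynomial.X i)))) = Ideal.Quotient.mk _ (β' (p (MvPolynomial.X i)))
      obtain ⟨a, ha⟩ := exists_sub_mem_hat m₀ (N + 1) (z i)
      have h2 : Ideal.Quotient.mk (maximalIdeal R ^ (N + 1)) (β (p (MvPolynomial.X i))) = u₁ a := by
        change _ = Ideal.Quotient.mk _ (g₁ a)
        rw [Ideal.Quotient.eq, ← hz, hg₁, ← map_sub, ← hI₀]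
        change π.toRingHom _ ∈ _
        rw [← Ideal.map_pow]
        apply Ideal.mem_map_of_mem
        rw [← hhat]
        exact ha
      rw [h2, hφ, hβ']
      have h3 : q₀ (MvPolynomial.X i) = Ideal.Quotient.mk J (zE i) := MvPolynomial.aeval_X _ _
      rw [h3]
      change Ideal.Quotient.mk _ (g₂ a) = _
      rw [Ideal.Quotient.eq, hg₂, ← map_sub, ← Ideal.map_pow]
      apply Ideal.mem_map_of_mem
      rw [← mem_hat_iff, map_sub, θ.commutes]
      have h4 : algebraMap P Ph a - θ (zE i) = -(θ (zE i) - z i) - (z i - algebraMap P Ph a) := by ring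
      rw [h4]
      exact Ideal.sub_mem _ ((Ideal.neg_mem_iff _).2 (hat_anti m₀ hN₂ (hαθ' ⟨z i, hzQ i⟩))) ha
    exact DFunLike.congr_fun h1 g
  · intro r a hra
    obtain ⟨q, hq⟩ := hu₁ (Ideal.Quotient.mk _ r)
    rw [← hq, hφ] at hra
    have h1 : r - g₁ q ∈ maximalIdeal R := by
      have h2 : Ideal.Quotient.mk (maximalIdeal R ^ (N + 1)) r = Ideal.Quotient.mk _ (g₁ q) := hq.symm
      rw [Ideal.Quotient.eq] at h2
      exact Ideal.pow_le_self (by omega) h2
    have h3 : g₂ q - a ∈ m := by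
      have h2 : Ideal.Quotient.mk (m ^ (N + 1)) (g₂ q) = Ideal.Quotient.mk _ a := hra
      rw [Ideal.Quotient.eq] at h2
      exact Ideal.pow_le_self (by omega) h2
    rw [← hγ, RingHom.mem_ker, map_sub, sub_eq_zero] at h1
    rw [← hγAm, RingHom.mem_ker, map_sub, sub_eq_zero] at h3
    have h4 : γ (g₁ q) = ρ q := by rw [hg₁]; exact hγπ q
    have h5 : γA (g₂ q) = ρ q := by rw [hg₂, hγA, θ.commutes, hresP]
    rw [h1, ← h3, h4, h5]
  · have hφ₁ : m₀.map g₁.toRingHom ≤ maximalIdeal R := hm'.le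
    have hφ₂ : m₀.map g₂.toRingHom ≤ m := by
      rw [Ideal.map_le_iff_le_comap]
      intro a ha
      rw [Ideal.mem_comap]
      apply Ideal.mem_map_of_mem
      change algebraMap P E a ∈ _
      rw [algebraMap_mem_mE_iff]
      exact ha
    have hs₁ : ∀ (n : ℕ), ∀ b ∈ maximalIdeal R ^ n, ∃ a ∈ m₀ ^ n, b - g₁.toRingHom a ∈ maximalIdeal R ^ (n + 1) := by
      rw [← hm']
      apply K724.Approx.exists_of_mem_pow
      intro b
      obtain ⟨y, rfl⟩ := hπ b
      obtain ⟨a, ha⟩ := exists_sub_mem_hat m₀ 1 y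
      refine ⟨a, ?_⟩
      rw [hm', ← hI₀]
      change π y - g₁ a ∈ _
      rw [hg₁, ← map_sub]
      change π.toRingHom _ ∈ _
      apply Ideal.mem_map_of_mem
      rw [← pow_one (m₀.map _), ← hhat]
      exact ha
    obtain ⟨e, -⟩ := GrEquiv.exists_equiv hφ₁ hφ₂ hs₁ (quot_exists_of_mem_pow m₀ θ · J) (fun n a ha => by
      change g₁ a ∈ _ ↔ g₂ a ∈ _
      rw [hC2, hC3]
      exact core m₀ θ fe Me (h₁.mono _ hc₁) (h₂.mono _ hc₂) (by
          rw [Fintype.range_linearCombination, hMe]) fE ME hMfE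
        (fun l => hat_anti m₀ hN₁ (hαθ' ⟨fe l, hfQ l⟩)) (fun q l => hat_anti m₀ hN₁ (hαθ' ⟨Me q l, hMQ q l⟩)) n a ha)
    exact ⟨e⟩

end K607.ArtinApprox
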