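import Groth.Agent.Algz.K724.GrGen
import Groth.Agent.Algz.K724.Approx0
import Groth.Agent.ArtFun.K724.Complete

/-!
Truncations of an algebra at a point with residue field `k`, and compatible systems of maps from a complete local
algebra to the truncations of an algebra with isomorphic graded ring (after `Groth.Agent.Algz.K724.AlgIso`, helper724)
(helper607).
-/

set_option autoImplicit false
set_option linter.style.haveILetI false
universe u v w

namespace K607.ArtinTrunc

open IsLocalRing K724.EtNbd AssocGr K724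

variable {Λ : Type u} [CommRing Λ] {k : Type u} [Field k] [Algebra Λ k] {A : Type u} [CommRing A] [Algebra Λ A]
  {m : Ideal A}

/-- The augmentation of a truncation. -/
noncomputable def resT (γ : A →ₐ[Λ] k) (hγ : RingHom.ker γ = m) (n : ℕ) (hn : n ≠ 0) : (A ⧸ m ^ n) →ₐ[Λ] k :=
  Ideal.Quotient.liftₐ (m ^ n) γ fun a ha => by
    have h1 : a ∈ m := Ideal.pow_le_self hn ha
    rw [← hγ] at h1
    exact h1

variable (γ : A →ₐ[Λ] k) (hγs : Function.Surjective γ) (hγ : RingHom.ker γ = m) (n : ℕ) (hn : n ≠ 0)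

lemma resT_mk (a : A) : resT γ hγ n hn (Ideal.Quotient.mk _ a) = γ a := rfl

include hγs in
lemma resT_surjective : Function.Surjective (resT γ hγ n hn) := fun c => by
  obtain ⟨a, ha⟩ := hγs c
  exact ⟨Ideal.Quotient.mk _ a, ha⟩

include hγ in
lemma mem_iff (a : A) : a ∈ m ↔ γ a = 0 := by
  rw [← hγ]; rfl

lemma isNilpotent_of_resT (x : A ⧸ m ^ n) (hx : resT γ hγ n hn x = 0) : IsNilpotent x := by
  obtain ⟨a, rfl⟩ := Ideal.Quotient.mk_surjective x
  rw [resT_mk] at hx
  refine ⟨n, ?_⟩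
  rw [← map_pow, Ideal.Quotient.eq_zero_iff_mem]
  exact Ideal.pow_mem_pow ((mem_iff γ hγ a).2 hx) n

include hγs hγ hn in
lemma isLocalRing_trunc : IsLocalRing (A ⧸ m ^ n) :=
  K724.Basic.isLocalRing_of_nil (resT γ hγ n hn) (resT_surjective γ hγs hγ n hn) (isNilpotent_of_resT γ hγ n hn)

include hγs hγ hn in
lemma isArtinianRing_trunc [IsNoetherianRing A] : IsArtinianRing (A ⧸ m ^ n) :=
  K724.Basic.isArtinianRing_of_nil (resT γ hγ n hn) (resT_surjective γ hγs hγ n hn) (isNilpotent_of_resT γ hγ n hn)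

include hγs hγ hn in
lemma mem_maximalIdeal_trunc [IsLocalRing (A ⧸ m ^ n)] (a : A) :
    Ideal.Quotient.mk (m ^ n) a ∈ maximalIdeal (A ⧸ m ^ n) ↔ a ∈ m := by
  rw [K724.Basic.mem_maximalIdeal_iff' (resT γ hγ n hn) (resT_surjective γ hγs hγ n hn), resT_mk, mem_iff γ hγ]

include hγs hγ hn in
lemma maximalIdeal_trunc [IsLocalRing (A ⧸ m ^ n)] :
    maximalIdeal (A ⧸ m ^ n) = m.map (Ideal.Quotient.mk (m ^ n)) := by
  ext x
  obtain ⟨a, rfl⟩ := Ideal.Quotient.mk_surjective x
  rw [mem_maximalIdeal_trunc γ hγs hγ n hn]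
  refine ⟨fun h => Ideal.mem_map_of_mem _ h, fun h => ?_⟩
  obtain ⟨b, hb, hab⟩ := (Ideal.mem_map_iff_of_surjective _ Ideal.Quotient.mk_surjective).1 h
  rw [Ideal.Quotient.eq] at hab
  have := m.sub_mem hb (Ideal.pow_le_self hn hab)
  rwa [sub_sub_cancel] at this

variable {R : Type u} [CommRing R] [Algebra Λ R] [IsLocalRing R] [IsNoetherianRing R]
  [IsAdicComplete (maximalIdeal R) R]

lemma factor_mk {i j : ℕ} (h : m ^ j ≤ m ^ i) (a : A) :
    Ideal.Quotient.factorₐ Λ h (Ideal.Quotient.mk _ a) = Ideal.Quotient.mk _ a := rfl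

lemma resT_factor {i j : ℕ} (h : m ^ j ≤ m ^ i) (hi : i ≠ 0) (hj : j ≠ 0) :
    (resT γ hγ i hi).comp (Ideal.Quotient.factorₐ Λ h) = resT γ hγ j hj := by
  apply AlgHom.ext
  intro x
  obtain ⟨a, rfl⟩ := Ideal.Quotient.mk_surjective x
  rw [AlgHom.comp_apply, factor_mk, resT_mk, resT_mk]

/-- A compatible system of maps from `R` to the truncations of `A`, `R` and `A` having isomorphic graded rings, is an
isomorphism on truncations. -/
theorem ker_eq [IsNoetherianRing A] (γR : R →ₐ[Λ] k) (hγRs : Function.Surjective γR)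
    (γ : A →ₐ[Λ] k) (hγs : Function.Surjective γ) (hγ : RingHom.ker γ = m)
    (g : ∀ n : ℕ, R →ₐ[Λ] A ⧸ m ^ (n + 2))
    (hg : ∀ n, (Ideal.Quotient.factorₐ Λ (Ideal.pow_le_pow_right (Nat.le_succ (n + 2)))).comp (g (n + 1)) = g n)
    (hg0 : Function.Surjective (g 0))
    (hres : ∀ x a, g 0 x = Ideal.Quotient.mk _ a → γR x = γ a)
    (e : GrRing (FiltBl.IdealFiltration.adic (maximalIdeal R)) ≃+* GrRing (FiltBl.IdealFiltration.adic m)) (n : ℕ) :
    Function.Surjective (g n) ∧ RingHom.ker (g n) = maximalIdeal R ^ (n + 2) := by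
  have hγR : RingHom.ker γR = maximalIdeal R :=
    IsLocalRing.eq_maximalIdeal (RingHom.ker_isMaximal_of_surjective γR.toRingHom hγRs)
  -- the transition maps
  have hfac : ∀ i j (h : i ≤ j), (Ideal.Quotient.factorₐ Λ (Ideal.pow_le_pow_right
      (Nat.add_le_add_right h 2))).comp (g j) = g i := by
    intro i j h
    induction j, h using Nat.le_induction with
    | base =>
      ext x
      obtain ⟨a, ha⟩ := Ideal.Quotient.mk_surjective (g i x)
      rw [AlgHom.comp_apply, ← ha, factor_mk]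
    | succ j hj ih =>
      rw [← ih]
      ext x
      have h1 : g j x = Ideal.Quotient.factorₐ Λ (Ideal.pow_le_pow_right (Nat.le_succ (j + 2))) (g (j + 1) x) :=
        (DFunLike.congr_fun (hg j) x).symm
      rw [AlgHom.comp_apply, AlgHom.comp_apply, h1]
      obtain ⟨a, ha⟩ := Ideal.Quotient.mk_surjective (g (j + 1) x)
      rw [← ha, factor_mk, factor_mk, factor_mk]
  let f : ∀ n, R →ₐ[Λ] A ⧸ m ^ n := fun n =>
    (Ideal.Quotient.factorₐ Λ (Ideal.pow_le_pow_right (Nat.le_add_right n 2))).comp (g n)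
  have hf : ∀ {i j : ℕ} (h : i ≤ j), (Ideal.Quotient.factorₐ Λ (Ideal.pow_le_pow_right h)).comp (f j) = f i := by
    intro i j h
    ext x
    have h1 : g i x = Ideal.Quotient.factorₐ Λ (Ideal.pow_le_pow_right (Nat.add_le_add_right h 2)) (g j x) :=
      (DFunLike.congr_fun (hfac i j h) x).symm
    change Ideal.Quotient.factorₐ Λ (Ideal.pow_le_pow_right h)
      (Ideal.Quotient.factorₐ Λ (Ideal.pow_le_pow_right (Nat.le_add_right j 2)) (g j x)) =
      Ideal.Quotient.factorₐ Λ (Ideal.pow_le_pow_right (Nat.le_add_right i 2)) (g i x)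
    rw [h1]
    obtain ⟨a, ha⟩ := Ideal.Quotient.mk_surjective (g j x)
    rw [← ha, factor_mk, factor_mk, factor_mk, factor_mk]
  have hfg : ∀ n, f (n + 2) = g n := fun n => hfac n (n + 2) (Nat.le_add_right n 2)
  let G : R →ₐ[Λ] AdicCompletion m A := AdicCompletion.liftAlgHom m f hf
  have hG : ∀ n x, AdicCompletion.evalₐ m n (G x) = f n x := fun n x => AdicCompletion.evalₐ_liftAlgHom m f hf n x
  -- compatibility with the residue maps
  have hresn : ∀ n (hn : n ≠ 0) (x : R) (a : A), f n x = Ideal.Quotient.mk _ a → γR x = γ a := by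
    intro n hn x a h
    obtain ⟨b, hb⟩ := Ideal.Quotient.mk_surjective (g n x)
    have h1 : Ideal.Quotient.mk (m ^ n) b = Ideal.Quotient.mk _ a := by
      rw [← h]
      change _ = Ideal.Quotient.factorₐ Λ (Ideal.pow_le_pow_right (Nat.le_add_right n 2)) (g n x)
      rw [← hb]
      rfl
    rw [Ideal.Quotient.eq] at h1
    have h2 : b - a ∈ m := Ideal.pow_le_self hn h1
    rw [mem_iff γ hγ, map_sub, sub_eq_zero] at h2
    rw [← h2]
    apply hres
    rw [← hfac 0 n (Nat.zero_le _), AlgHom.comp_apply, ← hb]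
    rfl
  -- locality
  have hloc : ∀ n (_ : n ≠ 0) (x : R) (a : A), f n x = Ideal.Quotient.mk _ a → (a ∈ m ↔ x ∈ maximalIdeal R) := by
    intro n hn x a h
    rw [mem_iff γ hγ, ← hγR, RingHom.mem_ker, hresn n hn x a h]
  -- surjectivity
  have hfac0 : ∀ n (x : R) (a : A), f (n + 2) x = Ideal.Quotient.mk _ a → f 2 x = Ideal.Quotient.mk _ a := by
    intro n x a h
    rw [← DFunLike.congr_fun (hf (show 2 ≤ n + 2 by omega)) x, AlgHom.comp_apply, h, factor_mk]
  have hsurj2 : ∀ n, Function.Surjective (f (n + 2)) := by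
    intro n
    haveI := isLocalRing_trunc γ hγs hγ (n + 2) (by omega)
    have hmax := maximalIdeal_trunc γ hγs hγ (n + 2) (by omega)
    refine K724.Complete.surjective_of_cotangent (f (n + 2)).toRingHom (fun s => ?_) ?_
    · obtain ⟨a, rfl⟩ := Ideal.Quotient.mk_surjective s
      obtain ⟨x, hx⟩ := hg0 (Ideal.Quotient.mk _ a)
      refine ⟨x, ?_⟩
      change _ - f (n + 2) x ∈ _
      obtain ⟨b, hb⟩ := Ideal.Quotient.mk_surjective (f (n + 2) x)
      have h1 := hfac0 n x b hb.symm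
      rw [show f 2 = g 0 from hfg 0, hx, Ideal.Quotient.eq] at h1
      rw [← hb, ← map_sub, mem_maximalIdeal_trunc γ hγs hγ (n + 2) (by omega)]
      exact Ideal.pow_le_self (by omega) h1
    · apply le_antisymm
      · refine sup_le ?_ (Ideal.pow_le_self two_ne_zero)
        rw [Ideal.map_le_iff_le_comap]
        intro x hx
        obtain ⟨a, ha⟩ := Ideal.Quotient.mk_surjective (f (n + 2) x)
        rw [Ideal.mem_comap]
        change f (n + 2) x ∈ _
        rw [← ha, mem_maximalIdeal_trunc γ hγs hγ (n + 2) (by omega)]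
        exact (hloc (n + 2) (by omega) x a ha.symm).2 hx
      · intro s hs
        obtain ⟨a, rfl⟩ := Ideal.Quotient.mk_surjective s
        rw [mem_maximalIdeal_trunc γ hγs hγ (n + 2) (by omega)] at hs
        obtain ⟨r, hr⟩ := hg0 (Ideal.Quotient.mk _ a)
        rw [← hfg 0] at hr
        have hrm : r ∈ maximalIdeal R := (hloc 2 (by omega) r a hr).1 hs
        obtain ⟨b, hb⟩ := Ideal.Quotient.mk_surjective (f (n + 2) r)
        have h1 := hfac0 n r b hb.symm
        have h2 : b - a ∈ m ^ 2 := by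
          rw [← Ideal.Quotient.eq, ← h1]
          exact hr
        have h3 : Ideal.Quotient.mk (m ^ (n + 2)) a = f (n + 2) r - Ideal.Quotient.mk _ (b - a) := by
          rw [← hb, map_sub]; ring
        rw [h3]
        refine Ideal.sub_mem _ (Ideal.mem_sup_left (Ideal.mem_map_of_mem _ hrm)) (Ideal.mem_sup_right ?_)
        rw [hmax, ← Ideal.map_pow]
        exact Ideal.mem_map_of_mem _ h2
  have hsurj : ∀ n, Function.Surjective (f n) := by
    intro n y
    obtain ⟨a, rfl⟩ := Ideal.Quotient.mk_surjective y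
    obtain ⟨x, hx⟩ := hsurj2 n (Ideal.Quotient.mk _ a)
    refine ⟨x, ?_⟩
    rw [← DFunLike.congr_fun (hf (show n ≤ n + 2 by omega)) x, AlgHom.comp_apply, hx, factor_mk]
  -- the image of the maximal ideal
  have hmapm : ∀ n (_ : n ≠ 0), (maximalIdeal R).map (f n).toRingHom = m.map (Ideal.Quotient.mk (m ^ n)) := by
    intro n hn
    apply le_antisymm
    · rw [Ideal.map_le_iff_le_comap]
      intro x hx
      obtain ⟨a, ha⟩ := Ideal.Quotient.mk_surjective (f n x)
      rw [Ideal.mem_comap]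
      change f n x ∈ _
      rw [← ha]
      exact Ideal.mem_map_of_mem _ ((hloc n hn x a ha.symm).2 hx)
    · rw [Ideal.map_le_iff_le_comap]
      intro a ha
      obtain ⟨x, hx⟩ := hsurj n (Ideal.Quotient.mk _ a)
      rw [Ideal.mem_comap, ← hx]
      exact Ideal.mem_map_of_mem _ ((hloc n hn x a hx).1 ha)
  have hGf : IsFiltHom G.toRingHom (FiltBl.IdealFiltration.adic (maximalIdeal R)) (kerFilt m) := by
    rw [isFiltHom_iff]
    intro n a ha
    rcases Nat.eq_zero_or_pos n with rfl | hn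
    · rw [(kerFilt m).zero_eq]; exact Submodule.mem_top
    rw [mem_kerFilt_iff]
    change AdicCompletion.evalₐ m n (G a) = 0
    rw [hG]
    have h1 : f n a ∈ ((maximalIdeal R) ^ n).map (f n).toRingHom := Ideal.mem_map_of_mem _ ha
    rw [Ideal.map_pow, hmapm n hn.ne', ← Ideal.map_pow, Ideal.map_quotient_self] at h1
    exact h1
  have hs : ∀ (n : ℕ), ∀ b ∈ (kerFilt m).F n, ∃ a ∈ maximalIdeal R ^ n, b - G.toRingHom a ∈ (kerFilt m).F (n + 1) := by
    intro n b hb
    obtain ⟨b₀, hb₀⟩ := exists_sub_mem_hat m (n + 1) b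
    have h2 : b ∈ hat m n := hb
    have h3 := (hat m n).sub_mem h2 (hat_anti m (Nat.le_succ n) hb₀)
    rw [sub_sub_cancel, algebraMap_mem_hat] at h3
    have h4 : Ideal.Quotient.mk (m ^ (n + 1)) b₀ ∈ ((maximalIdeal R) ^ n).map (f (n + 1)).toRingHom := by
      rw [Ideal.map_pow, hmapm (n + 1) (by omega), ← Ideal.map_pow]
      exact Ideal.mem_map_of_mem _ h3
    obtain ⟨a, ha, hab⟩ := (Ideal.mem_map_iff_of_surjective _ (hsurj (n + 1))).1 h4
    refine ⟨a, ha, ?_⟩
    rw [mem_kerFilt_iff, map_sub]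
    change _ - AdicCompletion.evalₐ m (n + 1) (G a) = 0
    rw [hG]
    rw [mem_hat, map_sub, eval_algebraMap, sub_eq_zero] at hb₀
    rw [hb₀, sub_eq_zero]
    exact hab.symm
  have hker : ∀ n a, G a ∈ (kerFilt m).F n → a ∈ maximalIdeal R ^ n := by
    intro n
    induction n with
    | zero => intro a _; rw [pow_zero, Ideal.one_eq_top]; exact Submodule.mem_top
    | succ n ih =>
      intro a ha
      exact GrGen.mem_of_equiv (maximalIdeal R) m G.toRingHom hGf hs e n a
        (ih a ((kerFilt m).antitone (Nat.le_succ n) ha)) ha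
  refine ⟨by rw [← hfg]; exact hsurj (n + 2), ?_⟩
  ext x
  rw [RingHom.mem_ker, ← hfg, ← hG]
  constructor
  · intro h
    exact hker _ _ h
  · intro h
    exact hGf.apply_mem h

end K607.ArtinTrunc
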