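import Groth.Agent.AlgSp.K607.ArtinForm
import Groth.Agent.AlgSp.K607.ArtinApprox
import Groth.Agent.AlgSp.K607.ArtinTrunc

/-!
# Algebraization of versal objects (helper607)
-/

set_option autoImplicit false
set_option linter.unusedSectionVars false

universe w v u

open CategoryTheory CategoryTheory.Limits AlgebraicGeometry Opposite
open ArtFun ArtFun.Art K724.Basic

namespace K607.Artin

variable {Λ : Type u} [CommRing Λ] {𝒳 : BasedCategory.{v, w} (Over (Spec (CommRingCat.of Λ)))}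
variable {k : Type u} [Field k] [Algebra Λ k]

/-- The truncation `A / m^(n+2)` as an object of `Art Λ k`. -/
noncomputable def truncA {A : Type u} [CommRing A] [Algebra Λ A] [IsNoetherianRing A] {m : Ideal A} (γ : A →ₐ[Λ] k)
    (hγs : Function.Surjective γ) (hγ : RingHom.ker γ = m) (n : ℕ) : Art Λ k :=
  { carrier := A ⧸ m ^ (n + 2)
    isLocalRing := ArtinTrunc.isLocalRing_trunc γ hγs hγ (n + 2) (by omega)
    isArtinianRing := ArtinTrunc.isArtinianRing_trunc γ hγs hγ (n + 2) (by omega)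
    res := ArtinTrunc.resT γ hγ (n + 2) (by omega)
    res_surjective := ArtinTrunc.resT_surjective γ hγs hγ (n + 2) (by omega) }

/-- The transition map. -/
noncomputable def truncAMap {A : Type u} [CommRing A] [Algebra Λ A] [IsNoetherianRing A] {m : Ideal A} (γ : A →ₐ[Λ] k)
    (hγs : Function.Surjective γ) (hγ : RingHom.ker γ = m) (n : ℕ) :
    truncA γ hγs hγ (n + 1) ⟶ truncA γ hγs hγ n :=
  ⟨Ideal.Quotient.factorₐ Λ (Ideal.pow_le_pow_right (Nat.le_succ (n + 2))),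
    ArtinTrunc.resT_factor γ hγ _ (by omega) (by omega)⟩

/-- Maps to Artinian algebras compatible with the residue maps kill large powers. -/
lemma exists_pow_le {A : Type u} [CommRing A] [Algebra Λ A] (γ : A →ₐ[Λ] k) (B : Art Λ k) (α : A →ₐ[Λ] B)
    (h : B.res.comp α = γ) : ∃ N, ∀ n, N ≤ n → ∀ a ∈ (RingHom.ker γ) ^ n, α a = 0 := by
  obtain ⟨N, hN⟩ := K724.Formal.exists_pow_le_ker B (⟨α, h⟩ : HomSet A γ B)
  exact ⟨N + 1, fun n hn a ha => hN (Ideal.pow_le_pow_right hn ha)⟩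

variable [hfg : FibCat.IsFibGrpd 𝒳.p] {x₀ : 𝒳.obj}

/-- Versality can be transported along a tower of truncations. -/
theorem vers_of_tower {R : CRing Λ k} {x : 𝒳.obj} {i₀ : x₀ ⟶ x} (hi₀ : Li R.res i₀) (hv : Vers k i₀)
    {A : Type u} [CommRing A] [Algebra Λ A] {m : Ideal A} (γ : A →ₐ[Λ] k) (hγ : RingHom.ker γ = m)
    {ξ : 𝒳.obj} {i : x₀ ⟶ ξ} (hi : Li γ i)
    (T : ℕ → Art Λ k) (pr : ∀ n, A →ₐ[Λ] T n) (hprs : ∀ n, Function.Surjective (pr n))
    (hprk : ∀ n, RingHom.ker (pr n) = m ^ (n + 2)) (hprres : ∀ n, (T n).res.comp (pr n) = γ)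
    (tr : ∀ n, T (n + 1) ⟶ T n) (htrpr : ∀ n, (tr n).toAlgHom.comp (pr (n + 1)) = pr n)
    (g₀ : R.carrier →ₐ[Λ] T 0)
    (hstart : ∀ {X : 𝒳.obj} (p : X ⟶ ξ) (j : x₀ ⟶ X), Li (pr 0) p → Li (T 0).res j → j ≫ p = i →
      ∃ f₀ : X ⟶ x, Li g₀ f₀ ∧ j ≫ f₀ = i₀)
    (hker : ∀ g : ∀ n, R.carrier →ₐ[Λ] T n, (∀ n, (tr n).toAlgHom.comp (g (n + 1)) = g n) → g 0 = g₀ →
      ∀ n, Function.Surjective (g n) ∧ RingHom.ker (g n) = IsLocalRing.maximalIdeal R.carrier ^ (n + 2)) :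
    Vers k i := by
  choose X p hp using fun n => Li.exists_lift hi.tgt (pr n)
  choose s hs hsp using fun n => Li.exists_factor (hp n) (hp (n + 1)) (tr n).toAlgHom (htrpr n)
  choose j hj hjp using fun n => Li.exists_factor hi (hp n) (T n).res (hprres n)
  have hjs : ∀ n, j n ≫ s n = j (n + 1) := fun n => by
    refine Li.uniq' (χ := (T (n + 1)).res) (b := p (n + 1)) ?_ (hj (n + 1)) ?_
    · have := (hs n).comp (hj n)
      rwa [(tr n).res_comp] at this
    · rw [Category.assoc, hsp, hjp, hjp]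
  obtain ⟨f₀, hf₀, hjf₀⟩ := hstart (p 0) (j 0) (hp 0) (hj 0) (hjp 0)
  -- the induction
  have step : ∀ n (f : {f : X n ⟶ x // j n ≫ f = i₀}), ∃ f' : {f : X (n + 1) ⟶ x // j (n + 1) ≫ f = i₀},
      s n ≫ f'.1 = f.1 := by
    intro n f
    obtain ⟨f', hf'⟩ := hv (tr n) (fun y => by
      obtain ⟨a, rfl⟩ := hprs n y
      exact ⟨pr (n + 1) a, DFunLike.congr_fun (htrpr n) a⟩) (j n) (s n) f.1 (hj n) (hs n) f.2
    exact ⟨⟨f', by rw [← hjs, Category.assoc, hf', f.2]⟩, hf'⟩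
  choose nx hnx using step
  let ff : ∀ n, {f : X n ⟶ x // j n ≫ f = i₀} := fun n => Nat.rec ⟨f₀, hjf₀⟩ (fun n f => nx n f) n
  have hff : ∀ n, s n ≫ (ff (n + 1)).1 = (ff n).1 := fun n => hnx n (ff n)
  have hff0 : (ff 0).1 = f₀ := rfl
  clear_value ff
  choose g hg using fun n => Li.exists (hp n).src hi₀.tgt (ff n).1
  have hg0 : g 0 = g₀ := (hg 0).unique (hff0 ▸ hf₀)
  have hgg : ∀ n, (tr n).toAlgHom.comp (g (n + 1)) = g n := fun n => by
    refine Li.unique ((hg (n + 1)).comp (hs n)) ?_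
    rw [hff]
    exact hg n
  replace hker := hker g hgg hg0
  -- versality
  intro B D μ hμ z x' jz b a hjz hb hja
  obtain ⟨α, hα⟩ := Li.exists hjz.tgt hi.tgt a
  have hαres : B.res.comp α = γ := (hα.comp hjz).unique (hja ▸ hi)
  obtain ⟨N, hN⟩ := exists_pow_le γ B α hαres
  -- a first choice of a level, for the target `D`
  obtain ⟨M, hM⟩ := (isArtinianRing_iff_isNilpotent_maximalIdeal D).1 inferInstance
  obtain ⟨n, hnN, hnM⟩ : ∃ n, N ≤ n + 2 ∧ M ≤ n + 2 :=
    ⟨max N M, (le_max_left N M).trans (Nat.le_add_right _ _), (le_max_right N M).trans (Nat.le_add_right _ _)⟩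
  have hαn : ∀ r, pr n r = 0 → α r = 0 := by
    intro r hr
    refine hN (n + 2) hnN r ?_
    rw [hγ, ← hprk n]
    exact hr
  obtain ⟨αn, hαn'⟩ := K724.Approx.exists_lift_of_surjective (pr n) (hprs n) α hαn
  have hαnp : αn.comp (pr n) = α := AlgHom.ext hαn'
  obtain ⟨an, han, hanp⟩ := Li.exists_factor hα (hp n) αn hαnp
  have hαnres : B.res.comp αn = (T n).res := by
    apply AlgHom.ext
    intro r
    obtain ⟨r, rfl⟩ := hprs n r
    have h1 := DFunLike.congr_fun hαnp r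
    rw [AlgHom.comp_apply] at h1
    rw [AlgHom.comp_apply, h1]
    exact (DFunLike.congr_fun hαres r).trans (DFunLike.congr_fun (hprres n) r).symm
  have hjan : jz ≫ an = j n := by
    refine Li.uniq' (χ := (T n).res) (b := p n) ?_ (hj n) ?_
    · have := han.comp hjz
      rwa [hαnres] at this
    · rw [Category.assoc, hanp, hja, hjp]
  obtain ⟨h, hbh⟩ := hv μ hμ jz b (an ≫ (ff n).1) hjz hb (by rw [← Category.assoc, hjan, (ff n).2])
  obtain ⟨ψ, hψ⟩ := Li.exists hb.tgt hi₀.tgt h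
  have hψres : D.res.comp ψ = R.res := by
    have h1 : Li ((B.res.comp μ.toAlgHom).comp ψ) (jz ≫ b ≫ h) := (hψ.comp hb).comp hjz
    rw [μ.res_comp, hbh, ← Category.assoc, hjan, (ff n).2] at h1
    exact h1.unique hi₀
  have hψn : ∀ r ∈ RingHom.ker (g n), ψ r = 0 := by
    intro r hr
    rw [(hker n).2] at hr
    have h1 : IsLocalRing.maximalIdeal R.carrier ≤ (IsLocalRing.maximalIdeal D).comap ψ := by
      intro r hr
      rw [Ideal.mem_comap, mem_maximalIdeal_iff]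
      exact (DFunLike.congr_fun hψres r).trans ((CRing.mem_maximalIdeal_iff R r).1 hr)
    have h2 : IsLocalRing.maximalIdeal R.carrier ^ (n + 2) ≤ RingHom.ker ψ := by
      calc IsLocalRing.maximalIdeal R.carrier ^ (n + 2) ≤ ((IsLocalRing.maximalIdeal D).comap ψ) ^ (n + 2) :=
            Ideal.pow_right_mono h1 _
        _ ≤ ((IsLocalRing.maximalIdeal D) ^ (n + 2)).comap ψ := Ideal.le_comap_pow _ _
        _ ≤ ((IsLocalRing.maximalIdeal D) ^ M).comap ψ :=
            Ideal.comap_mono (Ideal.pow_le_pow_right hnM)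
        _ = RingHom.ker ψ := by
          rw [hM]
          rfl
    exact h2 hr
  obtain ⟨ψn, hψn'⟩ := K724.Approx.exists_lift_of_surjective (g n) (hker n).1 ψ hψn
  obtain ⟨hn, hhn, hhnf⟩ := Li.exists_factor hψ (hg n) ψn (AlgHom.ext hψn')
  refine ⟨hn ≫ p n, ?_⟩
  rw [← Category.assoc, ← hanp]
  congr 1
  refine Li.uniq_of_surjective (hker n).1 (hg n) hb.src ?_
  rw [Category.assoc, hhnf, hbh]

/-- **Algebraization of versal objects.** -/
theorem exists_versal (hΛ : CAlg.IsGRing Λ) [Finite k] (hlp : LP 𝒳) (hse : SE 𝒳) (hrs : RSobj 𝒳) (hrh : RShom 𝒳)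
    (hfa : FA 𝒳) (hx₀ : Ov k x₀) :
    ∃ (A : Type u) (_ : CommRing A) (_ : Algebra Λ A) (_ : Algebra.FiniteType Λ A) (γ : A →ₐ[Λ] k) (ξ : 𝒳.obj)
      (i : x₀ ⟶ ξ), Function.Surjective γ ∧ Li γ i ∧ Vers k i := by
  have hNoeth : IsNoetherianRing Λ := hΛ.1
  have hkfin : Module.Finite Λ k := ⟨⟨Set.Finite.toFinset (Set.toFinite (Set.univ : Set k)), by
    rw [Set.Finite.coe_toFinset]; exact Submodule.span_univ⟩⟩
  obtain ⟨R, x, i₀, hi₀, hv⟩ := exists_formal hlp hse hrs hrh hfa hx₀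
  have hRc := R.isAdicComplete
  obtain ⟨C, _, _, _, φ, y, ex, hex⟩ := hlp R.carrier x hi₀.tgt
  have hex' : Li φ ex := hex
  have hfp : Algebra.FinitePresentation Λ C := Algebra.FinitePresentation.of_finiteType.mp inferInstance
  obtain ⟨A, _, _, _, m, γ, hγs, hγ, β', Φ, hβ, hΦres, ⟨e⟩⟩ :=
    ArtinApprox.exists_approx Λ k R.carrier R.res hΛ R.res_surjective φ 1
  have hAn : IsNoetherianRing A := Algebra.FiniteType.isNoetherianRing Λ A
  -- the object over `A`
  obtain ⟨ξ, eξ, heξ⟩ := Li.exists_lift hex'.tgt β'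
  have hres₁ : γ.comp β' = R.res.comp φ := by
    apply AlgHom.ext
    intro c
    exact (hΦres (φ c) (β' c) (DFunLike.congr_fun hβ c)).symm
  obtain ⟨i, hi, hie⟩ := Li.exists_factor (hex'.comp hi₀) heξ γ hres₁
  refine ⟨A, inferInstance, inferInstance, inferInstance, γ, ξ, i, hγs, hi, ?_⟩
  -- the truncations
  refine vers_of_tower hi₀ hv γ hγ hi (truncA γ hγs hγ) (fun n => Ideal.Quotient.mkₐ Λ (m ^ (n + 2)))
    (fun n => Ideal.Quotient.mk_surjective) (fun n => ?_) (fun n => AlgHom.ext fun _ => rfl)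
    (truncAMap γ hγs hγ) (fun n => AlgHom.ext fun _ => rfl)
    (Φ.toAlgHom.comp (Ideal.Quotient.mkₐ Λ _)) ?_ ?_
  · exact Ideal.mk_ker
  · intro X p j hp hj hjp
    obtain ⟨f₀, hf₀, hf₀e⟩ := Li.exists_factor (heξ.comp hp) hex' (Φ.toAlgHom.comp (Ideal.Quotient.mkₐ Λ _)) hβ
    refine ⟨f₀, hf₀, ?_⟩
    refine Li.uniq' (χ := R.res) (b := ex) ?_ hi₀ ?_
    · have h1 := hf₀.comp hj
      refine h1.congr ?_
      apply AlgHom.ext
      intro r
      obtain ⟨a, ha⟩ := Ideal.Quotient.mk_surjective (Φ (Ideal.Quotient.mk _ r))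
      refine Eq.trans ?_ (hΦres r a ha.symm).symm
      refine (congrArg (ArtinTrunc.resT γ hγ (0 + 2) (by omega)) ha.symm).trans ?_
      rfl
    · rw [Category.assoc, hf₀e, ← Category.assoc, hjp, hie]
  · intro g hgg hg0
    refine ArtinTrunc.ker_eq R.res R.res_surjective γ hγs hγ g hgg (by
      rw [hg0]
      exact Φ.surjective.comp Ideal.Quotient.mk_surjective) (by
      rw [hg0]
      exact fun x a h => hΦres x a h) e

end K607.Artin
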