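import Groth.Agent.AlgSp.K607.ArtinOpen2
import Groth.Agent.AlgSp.K607.ArtinAlg
import Groth.Agent.AlgSp.K607.ArtinEV
import Groth.Agent.CAlg.K71.HensGRing
import Mathlib.RingTheory.Localization.Away.Basic
import Mathlib.Data.Finsupp.Encodable

/-!
# Existence of local charts (helper607)
-/

set_option autoImplicit false
set_option linter.unusedSectionVars false

universe w v u

open CategoryTheory CategoryTheory.Limits AlgebraicGeometry Opposite

namespace K607.Artin

lemma countable_mvPolynomial (n : ℕ) (R : Type*) [CommRing R] [Countable R] : Countable (MvPolynomial (Fin n) R) := by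
  have h : Function.Injective (fun p : MvPolynomial (Fin n) R => (AddMonoidAlgebra.coeff p : (Fin n →₀ ℕ) →₀ R)) := by
    intro p q h
    cases p
    cases q
    exact congrArg _ h
  exact h.countable

lemma countable_of_finiteType (R : Type*) (A : Type u) [CommRing R] [CommRing A] [Algebra R A] [Countable R]
    [Algebra.FiniteType R A] : Countable A := by
  obtain ⟨n, f, hf⟩ := (Algebra.FiniteType.iff_quotient_mvPolynomial'' (R := R) (S := A)).mp inferInstance
  have := countable_mvPolynomial n R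
  exact hf.countable

variable {Λ : Type u} [CommRing Λ] {𝒳 : BasedCategory.{v, w} (Over (Spec (CommRingCat.of Λ)))}
variable [hfg : FibCat.IsFibGrpd 𝒳.p]

theorem evCharts [Algebra.FiniteType ℤ Λ] (hlp : LP 𝒳) (hse : SE 𝒳) (hrs : RSobj 𝒳) (hrh : RShom 𝒳) (hfa : FA 𝒳)
    (hpr : PR 𝒳) : EVCharts 𝒳 := by
  intro k _ _ _ x₀ hx₀
  have hΛ := K71.HensGRing.isGRing_of_finiteType_int Λ
  have hNoeth : IsNoetherianRing Λ := hΛ.1
  have hΛc : Countable Λ := countable_of_finiteType ℤ Λ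
  obtain ⟨A, _, _, _, γ, ξ, i, hγ, hi, hv⟩ := exists_versal hΛ hlp hse hrs hrh hfa hx₀
  have hAc : Countable A := countable_of_finiteType Λ A
  obtain ⟨f, hf, hD⟩ := exists_open_versal hlp hse hrs hpr hγ hi hv
  let L := Localization.Away f
  let loc : A →ₐ[Λ] L := IsScalarTower.toAlgHom Λ A L
  obtain ⟨ξf, ι, hι⟩ := Li.exists_lift hi.tgt loc
  have hlift : ∀ {E : Type u} [CommRing E] [Algebra Λ E] (φ : A →ₐ[Λ] E), IsUnit (φ f) →
      ∃ ψ : L →ₐ[Λ] E, ψ.comp loc = φ := by
    intro E _ _ φ hφ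
    refine ⟨IsLocalization.liftAlgHom (M := Submonoid.powers f) (f := φ) ?_, ?_⟩
    · rintro ⟨_, n, rfl⟩
      rw [map_pow]
      exact hφ.pow n
    · apply AlgHom.ext
      intro a
      exact IsLocalization.lift_eq _ a
  have hext : ∀ {E : Type u} [CommRing E] [Algebra Λ E] (φ ψ : L →ₐ[Λ] E), φ.comp loc = ψ.comp loc → φ = ψ := by
    intro E _ _ φ ψ h
    apply AlgHom.coe_ringHom_injective
    refine IsLocalization.ringHom_ext (Submonoid.powers f) ?_
    exact congrArg (fun t : A →ₐ[Λ] E => (t : A →+* E)) h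
  obtain ⟨γf, hγf⟩ := hlift γ (isUnit_iff_ne_zero.2 hf)
  obtain ⟨iF, hiF, hiFe⟩ := Li.exists_factor hi hι γf hγf
  have hLft : Algebra.FiniteType Λ L := Algebra.FiniteType.trans (S := A) inferInstance inferInstance
  refine ⟨L, inferInstance, inferInstance, hLft, γf, ξf, iF, hiF, ?_⟩
  intro B C _ _ _ _ _ _ _ μ hμ z x' b a hb
  have hCa : IsArtinianRing C := inferInstance
  have hnil : IsNilpotent (RingHom.ker μ) := by
    have h1 : RingHom.ker μ ≤ IsLocalRing.maximalIdeal C := IsLocalRing.le_maximalIdeal (RingHom.ker_ne_top μ.toRingHom)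
    obtain ⟨n, hn⟩ := (isArtinianRing_iff_isNilpotent_maximalIdeal C).1 hCa
    refine ⟨n, ?_⟩
    rw [Ideal.zero_eq_bot, ← le_bot_iff]
    exact (Ideal.pow_right_mono h1 n).trans hn.le
  obtain ⟨φf, hφf⟩ := Li.exists hb.src hι.src a
  have ha := hι.comp hφf
  have hu : IsUnit ((φf.comp loc) f) := by
    have h1 : IsUnit (loc f) := IsLocalization.Away.algebraMap_isUnit f
    exact h1.map φf
  obtain ⟨a₀, ha₀⟩ := hD ⟨B, C, μ, hμ, hnil, z, x', b, a ≫ ι, φf.comp loc, hb, ha⟩ ‹_› ‹_› hu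
  obtain ⟨χ, hχ⟩ := Li.exists hb.tgt hi.tgt a₀
  have hμχ : μ.comp χ = φf.comp loc := by
    have h1 := hχ.comp hb
    rw [show b ≫ a₀ = a ≫ ι from ha₀] at h1
    exact h1.unique ha
  have hμl : IsLocalHom μ.toRingHom := IsLocalHom.of_surjective μ.toRingHom hμ
  have huχ : IsUnit (χ f) := by
    refine hμl.map_nonunit _ ?_
    have h1 : μ.toRingHom (χ f) = (φf.comp loc) f := DFunLike.congr_fun hμχ f
    rw [h1]
    exact hu
  obtain ⟨χf, hχf⟩ := hlift χ huχ
  obtain ⟨a', ha', ha'e⟩ := Li.exists_factor hχ hι χf hχf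
  refine ⟨a', ?_⟩
  have h2 : μ.comp χf = φf := by
    refine hext _ _ ?_
    rw [AlgHom.comp_assoc, hχf, hμχ]
  refine Li.uniq' (χ := φf) (b := ι) ?_ hφf ?_
  · have h3 := ha'.comp hb
    rwa [h2] at h3
  · rw [Category.assoc, ha'e]
    exact ha₀

theorem Axioms.evCharts [Algebra.FiniteType ℤ Λ] (h : Axioms 𝒳) : EVCharts 𝒳 :=
  K607.Artin.evCharts h.lp h.se h.rsObj h.rsHom h.fa h.pr

end K607.Artin
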