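import Groth.Agent.AlgSp.K607.ArtinLi
import Groth.Agent.ArtFun.K724.Basic
import Groth.Prelude.Def_ArtFun2

/-!
# The deformation functor of an object over a field (helper607)
-/

set_option autoImplicit false
set_option linter.unusedSectionVars false

universe w v u

open CategoryTheory CategoryTheory.Limits AlgebraicGeometry Opposite
open ArtFun ArtFun.Art

namespace K607.Artin

variable {Λ : Type u} [CommRing Λ] {𝒳 : BasedCategory.{v, w} (Over (Spec (CommRingCat.of Λ)))}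
variable {k : Type u} [Field k] [Algebra Λ k]

/-- Fibre products of Artinian algebras are fibre products of algebras. -/
lemma isFib_of_isFibreProd {B A A' A'' : Art Λ k} {p' : B ⟶ A'} {p'' : B ⟶ A''} {f' : A' ⟶ A} {f'' : A'' ⟶ A}
    (h : IsFibreProd p' p'' f' f'') : IsFib f'.toAlgHom f''.toAlgHom p'.toAlgHom p''.toAlgHom where
  w := AlgHom.ext fun x => h.w_apply x
  inj := h.inj
  surj := h.surj

/-- The kernel of a map of objects of `Art Λ k` is nilpotent. -/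
lemma isNilpotent_ker {A B : Art Λ k} (f : A ⟶ B) : IsNilpotent (RingHom.ker f.toAlgHom) := by
  obtain ⟨N, hN⟩ := (isArtinianRing_iff_isNilpotent_maximalIdeal A).1 inferInstance
  refine ⟨N, ?_⟩
  have h1 : RingHom.ker f.toAlgHom ≤ IsLocalRing.maximalIdeal A := by
    intro a ha
    rw [Art.mem_maximalIdeal_iff, ← Art.res_app f]
    have : f.toAlgHom a = 0 := ha
    change B.res (f.toAlgHom a) = 0
    rw [this, map_zero]
  have h2 := Ideal.pow_right_mono h1 N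
  rw [hN] at h2
  exact le_antisymm h2 bot_le

/-- A deformation of `x₀` over `B`. -/
structure Def0 (x₀ : 𝒳.obj) (B : Art Λ k) where
  /-- the deformation -/
  obj : 𝒳.obj
  /-- the arrow from `x₀` -/
  i : x₀ ⟶ obj
  li : Li B.res i

namespace Def0

variable {x₀ : 𝒳.obj}

/-- `d'` is the restriction of `d` along `f`. -/
def Rel {A B : Art Λ k} (f : A ⟶ B) (d : Def0 x₀ A) (d' : Def0 x₀ B) : Prop :=
  ∃ c : d'.obj ⟶ d.obj, Li f.toAlgHom c ∧ d'.i ≫ c = d.i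

lemma Rel.comp {A B C : Art Λ k} {f : A ⟶ B} {g : B ⟶ C} {d : Def0 x₀ A} {d' : Def0 x₀ B} {d'' : Def0 x₀ C}
    (h : Rel f d d') (h' : Rel g d' d'') : Rel (f ≫ g) d d'' := by
  obtain ⟨c, hc, hi⟩ := h
  obtain ⟨c', hc', hi'⟩ := h'
  exact ⟨c' ≫ c, hc.comp hc', by rw [← Category.assoc, hi', hi]⟩

lemma Rel.refl {A : Art Λ k} (d : Def0 x₀ A) : Rel (𝟙 A) d d :=
  ⟨𝟙 _, (Li.id (d.li.tgt) : Li (AlgHom.id Λ A) (𝟙 d.obj)), Category.comp_id _⟩

variable [hfg : FibCat.IsFibGrpd 𝒳.p]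

lemma Rel.exists {A B : Art Λ k} (f : A ⟶ B) (d : Def0 x₀ A) : ∃ d' : Def0 x₀ B, Rel f d d' := by
  obtain ⟨y, c, hc⟩ := Li.exists_lift d.li.tgt f.toAlgHom
  obtain ⟨i', hi', hc'⟩ := Li.exists_factor d.li hc B.res f.res_comp
  exact ⟨⟨y, i', hi'⟩, c, hc, hc'⟩

lemma Rel.factor {A B C : Art Λ k} {f : A ⟶ B} {g : B ⟶ C} {h : A ⟶ C} (e : f ≫ g = h) {d : Def0 x₀ A}
    {d' : Def0 x₀ B} {d'' : Def0 x₀ C} (h1 : Rel h d d'') (h2 : Rel f d d') : Rel g d' d'' := by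
  obtain ⟨c, hc, hi⟩ := h1
  obtain ⟨c', hc', hi'⟩ := h2
  obtain ⟨a, ha, hac⟩ := Li.exists_factor hc hc' g.toAlgHom (by rw [← e]; rfl)
  refine ⟨a, ha, ?_⟩
  refine Li.uniq' (χ := B.res) (b := c') ?_ d'.li ?_
  · have := ha.comp d''.li
    rw [g.res_comp] at this
    exact this
  · rw [Category.assoc, hac, hi, hi']

lemma Rel.symm {A : Art Λ k} {d d' : Def0 x₀ A} (h : Rel (𝟙 A) d d') : Rel (𝟙 A) d' d :=
  Rel.factor (Category.comp_id _) (Rel.refl d) h

lemma Rel.trans_id {A B : Art Λ k} {f : A ⟶ B} {d : Def0 x₀ A} {d' d'' : Def0 x₀ B} (h : Rel f d d')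
    (h' : Rel (𝟙 B) d' d'') : Rel f d d'' := by
  have := h.comp h'
  rwa [Category.comp_id] at this

variable (x₀) in
/-- Isomorphism of deformations. -/
def setoid (A : Art Λ k) : Setoid (Def0 x₀ A) where
  r := Rel (𝟙 A)
  iseqv := ⟨Rel.refl, Rel.symm, fun h h' => h.trans_id h'⟩

variable (x₀) in
/-- Isomorphism classes of deformations. -/
def Cl (A : Art Λ k) : Type (max v w) := Quotient (setoid x₀ A)

/-- The class of a deformation. -/
def cl {A : Art Λ k} (d : Def0 x₀ A) : Cl x₀ A := Quotient.mk (setoid x₀ A) d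

lemma cl_eq_iff {A : Art Λ k} {d d' : Def0 x₀ A} : cl d = cl d' ↔ Rel (𝟙 A) d d' :=
  ⟨fun h => Quotient.exact (s := setoid x₀ A) h, fun h => Quotient.sound (s := setoid x₀ A) h⟩

lemma cl_surjective {A : Art Λ k} (c : Cl x₀ A) : ∃ d : Def0 x₀ A, cl d = c :=
  Quotient.exists_rep (s := setoid x₀ A) c

/-- Restriction of classes. -/
noncomputable def Cl.map {A B : Art Λ k} (f : A ⟶ B) : Cl x₀ A → Cl x₀ B :=
  Quotient.lift (s := setoid x₀ A) (fun d => cl (Rel.exists f d).choose) (fun d d' h => by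
    rw [cl_eq_iff]
    have h1 := (Rel.exists f d).choose_spec
    have h2 := (Rel.exists f d').choose_spec
    have h3 : Rel f d (Rel.exists f d').choose := by
      have := Rel.comp (show Rel (𝟙 A) d d' from h) h2
      rwa [Category.id_comp] at this
    exact Rel.factor (Category.comp_id _) h3 h1)

lemma Cl.map_cl {A B : Art Λ k} {f : A ⟶ B} {d : Def0 x₀ A} {d' : Def0 x₀ B} (h : Rel f d d') :
    Cl.map f (cl d) = cl d' := by
  change cl (Rel.exists f d).choose = cl d'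
  rw [cl_eq_iff]
  exact Rel.factor (Category.comp_id _) h (Rel.exists f d).choose_spec

lemma Cl.map_cl_iff {A B : Art Λ k} {f : A ⟶ B} {d : Def0 x₀ A} {d' : Def0 x₀ B} :
    Cl.map f (cl d) = cl d' ↔ Rel f d d' := by
  refine ⟨fun h => ?_, Cl.map_cl⟩
  have h1 := (Rel.exists f d).choose_spec
  have h2 : cl (Rel.exists f d).choose = cl d' := h
  rw [cl_eq_iff] at h2
  exact h1.trans_id h2

variable (x₀) in
/-- The deformation functor of `x₀` (isomorphism classes). -/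
noncomputable def F : Art Λ k ⥤ Type (max v w) where
  obj A := Cl x₀ A
  map {A B} f := ↾(Cl.map f : Cl x₀ A → Cl x₀ B)
  map_id A := by
    ext c
    obtain ⟨d, rfl⟩ := cl_surjective c
    exact Cl.map_cl (Rel.refl d)
  map_comp f g := by
    ext c
    obtain ⟨d, rfl⟩ := cl_surjective c
    obtain ⟨d', h'⟩ := Rel.exists f d
    obtain ⟨d'', h''⟩ := Rel.exists g d'
    change Cl.map (f ≫ g) (cl d) = Cl.map g (Cl.map f (cl d))
    rw [Cl.map_cl h', Cl.map_cl h'', Cl.map_cl (h'.comp h'')]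

lemma F_map {A B : Art Λ k} (f : A ⟶ B) (c : (F x₀).obj A) : (F x₀).map f c = Cl.map f c := rfl

lemma F_map_cl_iff {A B : Art Λ k} {f : A ⟶ B} {d : Def0 x₀ A} {d' : Def0 x₀ B} :
    (F x₀).map f (cl d) = cl d' ↔ Rel f d d' := Cl.map_cl_iff

/-- The trivial deformation over the residue field. -/
noncomputable def triv (hx₀ : Ov k x₀) : Def0 x₀ (base Λ k) := ⟨x₀, 𝟙 x₀, (Li.id hx₀ : Li (AlgHom.id Λ k) (𝟙 x₀))⟩

lemma rel_triv (hx₀ : Ov k x₀) {A : Art Λ k} (d : Def0 x₀ A) : Rel (toBase A) d (triv hx₀) :=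
  ⟨d.i, d.li, Category.id_comp _⟩

lemma h0 (hx₀ : Ov k x₀) : H0 (F (k := k) x₀) := by
  constructor
  · exact ⟨cl (⟨x₀, 𝟙 x₀, Li.id hx₀⟩ : Def0 x₀ (base Λ k))⟩
  · constructor
    intro c c'
    have key : ∀ c : (F x₀).obj (base Λ k), c = cl (⟨x₀, 𝟙 x₀, Li.id hx₀⟩ : Def0 x₀ (base Λ k)) := by
      intro c
      obtain ⟨d, rfl⟩ := cl_surjective c
      refine cl_eq_iff.2 ?_
      exact ⟨d.i, d.li, Category.id_comp _⟩
    rw [key c, key c']

lemma s1 (hrs : RSobj 𝒳) : S1 (F (k := k) x₀) := by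
  intro B A A' A'' p' p'' f' f'' h hs
  rintro ⟨⟨c1, c2⟩, hc⟩
  obtain ⟨d1, rfl⟩ := cl_surjective c1
  obtain ⟨d2, rfl⟩ := cl_surjective c2
  obtain ⟨e, he⟩ := Rel.exists f' d1
  have h1 : (F x₀).map f' (cl d1) = cl e := F_map_cl_iff.2 he
  have h2 : (F x₀).map f'' (cl d2) = cl e := hc.symm.trans h1
  have he2 : Rel f'' d2 e := F_map_cl_iff.1 h2
  obtain ⟨a1, ha1, hi1⟩ := he
  obtain ⟨a2, ha2, hi2⟩ := he2
  obtain ⟨w, b1, b2, hb1, hb2, hab⟩ := hrs f'.toAlgHom f''.toAlgHom p'.toAlgHom p''.toAlgHom (isFib_of_isFibreProd h) hs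
    (isNilpotent_ker f'') a1 a2 ha1 ha2
  have hli : Li B.res (d1.i ≫ b1) := by
    have := Li.comp hb1 d1.li
    rwa [p'.res_comp] at this
  let d : Def0 x₀ B := ⟨w, d1.i ≫ b1, hli⟩
  refine ⟨cl d, ?_⟩
  apply FibProd.ext
  · exact F_map_cl_iff.2 ⟨b1, hb1, rfl⟩
  · refine F_map_cl_iff.2 ⟨b2, hb2, ?_⟩
    change d2.i ≫ b2 = d1.i ≫ b1
    rw [← hi2, ← hi1, Category.assoc, Category.assoc, hab]

/-- Deformations over a fibre product over the residue field are determined by their restrictions. -/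
lemma cl_eq_of_isFibreProd (hrh : RShom 𝒳) {B A' A'' : Art Λ k} (p' : B ⟶ A') (p'' : B ⟶ A'')
    (h : IsFibreProd p' p'' (toBase A') (toBase A'')) {d d' : Def0 x₀ B}
    (h1 : (F x₀).map p' (cl d) = (F x₀).map p' (cl d')) (h2 : (F x₀).map p'' (cl d) = (F x₀).map p'' (cl d')) :
    cl d = cl d' := by
  obtain ⟨e1, he1⟩ := Rel.exists p' d'
  obtain ⟨e2, he2⟩ := Rel.exists p'' d'
  rw [F_map_cl_iff.2 he1, F_map_cl_iff] at h1
  rw [F_map_cl_iff.2 he2, F_map_cl_iff] at h2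
  obtain ⟨c1, hc1, hi1⟩ := h1
  obtain ⟨c2, hc2, hi2⟩ := h2
  obtain ⟨c1', hc1', hi1'⟩ := he1
  obtain ⟨c2', hc2', hi2'⟩ := he2
  obtain ⟨e, ⟨hea, heb⟩, -⟩ := hrh (D := B) (toBase A').toAlgHom (toBase A'').toAlgHom p'.toAlgHom p''.toAlgHom
    (isFib_of_isFibreProd h) (A''.res_surjective) (isNilpotent_ker _) e1.i e2.i c1 c2 e1.li e2.li hc1 hc2
    (hi1.trans hi2.symm) d'.li.tgt c1' c2' (hi1'.trans hi2'.symm)
  obtain ⟨φ, hφ⟩ := Li.exists d.li.tgt d'.li.tgt e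
  have h3 : p'.toAlgHom.comp φ = p'.toAlgHom := (hφ.comp hc1).unique (hea ▸ hc1')
  have h4 : p''.toAlgHom.comp φ = p''.toAlgHom := (hφ.comp hc2).unique (heb ▸ hc2')
  have h5 : φ = AlgHom.id Λ B := by
    apply AlgHom.ext
    intro x
    exact h.inj _ _ (DFunLike.congr_fun h3 x) (DFunLike.congr_fun h4 x)
  rw [h5] at hφ
  refine (cl_eq_iff.2 ?_).symm
  refine ⟨e, hφ, ?_⟩
  rw [← hi1, Category.assoc, hea, hi1']

lemma heps (hrs : RSobj 𝒳) (hrh : RShom 𝒳) : Heps (F (k := k) x₀) := by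
  intro B A' p' p'' h
  constructor
  · intro c c' hcc
    obtain ⟨d, rfl⟩ := cl_surjective c
    obtain ⟨d', rfl⟩ := cl_surjective c'
    exact cl_eq_of_isFibreProd hrh p' p'' h (congrArg (fun t => t.1.1) hcc) (congrArg (fun t => t.1.2) hcc)
  · exact s1 hrs p' p'' _ _ h (dual Λ k).res_surjective

end Def0

end K607.Artin
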