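import Groth.Prelude.Def_AlgSt2
import Groth.Prelude.Def_FlatCA
import Mathlib.AlgebraicGeometry.Morphisms.FiniteType
import Mathlib.RingTheory.FiniteType

/-!
# The axioms of Artin's representability theorem, for categories over `(Sch/Spec Λ)` (helper607)

`Λ` will be a ring of finite type over `ℤ`.  Objects "over the `Λ`-algebra `A`" are objects `x` of `𝒳` with
`𝒳.p.obj x = sp Λ A`, in practice the sources and targets of morphisms lying over `spMap φ`.
-/

set_option autoImplicit false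

universe w v u

open CategoryTheory CategoryTheory.Limits AlgebraicGeometry Opposite

namespace K607.Artin

section Base

variable (Λ : Type u) [CommRing Λ]

/-- `Spec A` as a scheme over `Spec Λ`. -/
noncomputable abbrev sp (A : Type u) [CommRing A] [Algebra Λ A] : Over (Spec (CommRingCat.of Λ)) :=
  Over.mk (Spec.map (CommRingCat.ofHom (algebraMap Λ A)))

variable {Λ}

/-- `Spec B ⟶ Spec A` over `Spec Λ` for a map `A → B` of `Λ`-algebras. -/
noncomputable def spMap {A B : Type u} [CommRing A] [CommRing B] [Algebra Λ A] [Algebra Λ B] (φ : A →ₐ[Λ] B) :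
    sp Λ B ⟶ sp Λ A :=
  Over.homMk (Spec.map (CommRingCat.ofHom φ.toRingHom)) (by
    dsimp only [Over.mk_hom]
    rw [← Spec.map_comp, ← CommRingCat.ofHom_comp]
    congr 2
    exact φ.comp_algebraMap)

/-- The square of `Λ`-algebras `P → A`, `P → B'` over `A → B ← B'` is a fibre product. -/
structure IsFib {A B B' P : Type u} [CommRing A] [CommRing B] [CommRing B'] [CommRing P] [Algebra Λ A] [Algebra Λ B]
    [Algebra Λ B'] [Algebra Λ P] (f : A →ₐ[Λ] B) (g : B' →ₐ[Λ] B) (p : P →ₐ[Λ] A) (q : P →ₐ[Λ] B') : Prop where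
  w : f.comp p = g.comp q
  inj : ∀ x y : P, p x = p y → q x = q y → x = y
  surj : ∀ (a : A) (b : B'), f a = g b → ∃ x, p x = a ∧ q x = b

end Base

section Axioms

variable {Λ : Type u} [CommRing Λ] (𝒳 : BasedCategory.{v, w} (Over (Spec (CommRingCat.of Λ))))

/-- Limit preservation on objects: every object over an affine scheme comes from an object over the spectrum of an
algebra of finite type. -/
def LP : Prop :=
  ∀ (A : Type u) [CommRing A] [Algebra Λ A] (x : 𝒳.obj), 𝒳.p.obj x = sp Λ A →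
    ∃ (C : Type u) (_ : CommRing C) (_ : Algebra Λ C) (_ : Algebra.FiniteType Λ C) (φ : C →ₐ[Λ] A)
      (y : 𝒳.obj) (a : x ⟶ y), 𝒳.p.IsHomLift (spMap φ) a

/-- Strong formal effectiveness (weak form, on objects, no compatibility of the isomorphisms `c n` is asked): `R'` is
the limit of `… → R 1 → R 0` with surjective transition maps whose kernels consist of nilpotent elements. -/
def SE : Prop :=
  ∀ (R : ℕ → Type u) [∀ n, CommRing (R n)] [∀ n, Algebra Λ (R n)] (t : ∀ n, R (n + 1) →ₐ[Λ] R n)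
    (_ : ∀ n, Function.Surjective (t n)) (_ : ∀ n, ∀ r ∈ RingHom.ker (t n), IsNilpotent r)
    (R' : Type u) [CommRing R'] [Algebra Λ R'] (π : ∀ n, R' →ₐ[Λ] R n)
    (_ : FlatCA.IsRingLimit R' R (fun n => (t n).toRingHom) (fun n => (π n).toRingHom))
    (x : ℕ → 𝒳.obj) (a : ∀ n, x n ⟶ x (n + 1)) (_ : ∀ n, 𝒳.p.IsHomLift (spMap (t n)) (a n)),
    ∃ x' : 𝒳.obj, ∀ n, ∃ c : x n ⟶ x', 𝒳.p.IsHomLift (spMap (π n)) c

/-- Gluing of objects along fibre products `P = A ×_B B'`, `B' → B` surjective with nilpotent kernel. -/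
def RSobj : Prop :=
  ∀ {A B B' P : Type u} [CommRing A] [CommRing B] [CommRing B'] [CommRing P] [Algebra Λ A] [Algebra Λ B]
    [Algebra Λ B'] [Algebra Λ P] (f : A →ₐ[Λ] B) (g : B' →ₐ[Λ] B) (p : P →ₐ[Λ] A) (q : P →ₐ[Λ] B')
    (_ : IsFib f g p q) (_ : Function.Surjective g) (_ : IsNilpotent (RingHom.ker g))
    {z x x' : 𝒳.obj} (a : z ⟶ x) (b : z ⟶ x') (_ : 𝒳.p.IsHomLift (spMap f) a) (_ : 𝒳.p.IsHomLift (spMap g) b),
    ∃ (w : 𝒳.obj) (c : x ⟶ w) (d : x' ⟶ w), 𝒳.p.IsHomLift (spMap p) c ∧ 𝒳.p.IsHomLift (spMap q) d ∧ a ≫ c = b ≫ d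

/-- Gluing of morphisms along fibre products `P = A ×_B B'`, `B' → B` surjective with nilpotent kernel (into objects
over affine schemes). -/
def RShom : Prop :=
  ∀ {A B B' P D : Type u} [CommRing A] [CommRing B] [CommRing B'] [CommRing P] [CommRing D] [Algebra Λ A]
    [Algebra Λ B] [Algebra Λ B'] [Algebra Λ P] [Algebra Λ D] (f : A →ₐ[Λ] B) (g : B' →ₐ[Λ] B) (p : P →ₐ[Λ] A)
    (q : P →ₐ[Λ] B') (_ : IsFib f g p q) (_ : Function.Surjective g) (_ : IsNilpotent (RingHom.ker g))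
    {z x x' w y : 𝒳.obj} (a : z ⟶ x) (b : z ⟶ x') (c : x ⟶ w) (d : x' ⟶ w)
    (_ : 𝒳.p.IsHomLift (spMap f) a) (_ : 𝒳.p.IsHomLift (spMap g) b) (_ : 𝒳.p.IsHomLift (spMap p) c)
    (_ : 𝒳.p.IsHomLift (spMap q) d) (_ : a ≫ c = b ≫ d) (_ : 𝒳.p.obj y = sp Λ D)
    (c' : x ⟶ y) (d' : x' ⟶ y), a ≫ c' = b ≫ d' → ∃! e : w ⟶ y, c ≫ e = c' ∧ d ≫ e = d'

/-- Automorphism groups of objects over finite rings are finite. -/
def FA : Prop :=
  ∀ (A : Type u) [CommRing A] [Algebra Λ A] [Finite A] (x : 𝒳.obj), 𝒳.p.obj x = sp Λ A →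
    Finite {e : x ⟶ x // 𝒳.p.map e = 𝟙 _}

/-- The isomorphism classes of objects over finite fields form a set in `Type u`. -/
def SM : Prop :=
  ∀ (k : Type u) [Field k] [Algebra Λ k] [Finite k],
    ∃ (ι : Type u) (x : ι → 𝒳.obj), ∀ y : 𝒳.obj, 𝒳.p.obj y = sp Λ k →
      ∃ (i : ι) (e : y ⟶ x i), 𝒳.p.IsHomLift (𝟙 (sp Λ k)) e

/-- Binary products exist in the category `𝒳` (over schemes): this is the representability of the diagonal by
SCHEMES, `w` is the object over the scheme `W = Isom(pr₁^* x, pr₂^* y)` over `X ×_S Y`; moreover `W ⟶ X ×_S Y` is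
locally of finite type. -/
def PR : Prop :=
  ∀ x y : 𝒳.obj, ∃ (w : 𝒳.obj) (p : w ⟶ x) (q : w ⟶ y),
    (∀ (z : 𝒳.obj) (a : z ⟶ x) (b : z ⟶ y), ∃! c : z ⟶ w, c ≫ p = a ∧ c ≫ q = b) ∧
      LocallyOfFiniteType (pullback.lift (𝒳.p.map p).left (𝒳.p.map q).left
        ((Over.w (𝒳.p.map p)).trans (Over.w (𝒳.p.map q)).symm) :
          (𝒳.p.obj w).left ⟶ pullback (𝒳.p.obj x).hom (𝒳.p.obj y).hom)

/-- The axioms. -/
structure Axioms : Prop where
  isStack : Stk.IsStack (QuotSh.J Scheme.fppfPrecoverage (Spec (CommRingCat.of Λ))) 𝒳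
  lp : LP 𝒳
  se : SE 𝒳
  rsObj : RSobj 𝒳
  rsHom : RShom 𝒳
  fa : FA 𝒳
  sm : SM 𝒳
  pr : PR 𝒳

end Axioms

section Functor

variable {Λ : Type u} [CommRing Λ] (F : (Over (Spec (CommRingCat.of Λ)))ᵒᵖ ⥤ Type w)

/-- The axioms for a presheaf of sets. -/
structure FAxioms : Prop where
  /-- limit preservation, surjectivity only -/
  lp : ∀ (A : Type u) [CommRing A] [Algebra Λ A] (x : F.obj (op (sp Λ A))),
    ∃ (C : Type u) (_ : CommRing C) (_ : Algebra Λ C) (_ : Algebra.FiniteType Λ C) (φ : C →ₐ[Λ] A)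
      (y : F.obj (op (sp Λ C))), F.map (spMap φ).op y = x
  /-- strong formal effectiveness, surjectivity only -/
  se : ∀ (R : ℕ → Type u) [∀ n, CommRing (R n)] [∀ n, Algebra Λ (R n)] (t : ∀ n, R (n + 1) →ₐ[Λ] R n)
    (_ : ∀ n, Function.Surjective (t n)) (_ : ∀ n, ∀ r ∈ RingHom.ker (t n), IsNilpotent r)
    (R' : Type u) [CommRing R'] [Algebra Λ R'] (π : ∀ n, R' →ₐ[Λ] R n)
    (_ : FlatCA.IsRingLimit R' R (fun n => (t n).toRingHom) (fun n => (π n).toRingHom))
    (x : ∀ n, F.obj (op (sp Λ (R n)))), (∀ n, F.map (spMap (t n)).op (x (n + 1)) = x n) →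
    ∃ x' : F.obj (op (sp Λ R')), ∀ n, F.map (spMap (π n)).op x' = x n
  /-- `F(A ×_B B') = F(A) ×_{F(B)} F(B')`, `B' → B` surjective with nilpotent kernel -/
  rs : ∀ {A B B' P : Type u} [CommRing A] [CommRing B] [CommRing B'] [CommRing P] [Algebra Λ A] [Algebra Λ B]
    [Algebra Λ B'] [Algebra Λ P] (f : A →ₐ[Λ] B) (g : B' →ₐ[Λ] B) (p : P →ₐ[Λ] A) (q : P →ₐ[Λ] B')
    (_ : IsFib f g p q) (_ : Function.Surjective g) (_ : IsNilpotent (RingHom.ker g))
    (x : F.obj (op (sp Λ A))) (x' : F.obj (op (sp Λ B'))), F.map (spMap f).op x = F.map (spMap g).op x' →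
    ∃! w : F.obj (op (sp Λ P)), F.map (spMap p).op w = x ∧ F.map (spMap q).op w = x'
  /-- values at finite fields are small -/
  sm : ∀ (k : Type u) [Field k] [Algebra Λ k] [Finite k], Small.{u} (F.obj (op (sp Λ k)))
  /-- the diagonal is representable by schemes, locally of finite type -/
  pr : ∀ (X Y : Over (Spec (CommRingCat.of Λ))) (x : F.obj (op X)) (y : F.obj (op Y)),
    ∃ (W : Over (Spec (CommRingCat.of Λ))) (p : W ⟶ X) (q : W ⟶ Y), F.map p.op x = F.map q.op y ∧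
      (∀ (Z : Over (Spec (CommRingCat.of Λ))) (a : Z ⟶ X) (b : Z ⟶ Y), F.map a.op x = F.map b.op y →
        ∃! c : Z ⟶ W, c ≫ p = a ∧ c ≫ q = b) ∧
      LocallyOfFiniteType (pullback.lift p.left q.left ((Over.w p).trans (Over.w q).symm) :
        W.left ⟶ pullback X.hom Y.hom)

end Functor

end K607.Artin
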