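import Groth.Agent.AlgSp.K607.ArtinVers
import Mathlib.RingTheory.FiniteType
import Mathlib.LinearAlgebra.FreeModule.Finite.Basic

/-!
# Finiteness of the tangent space from strong formal effectiveness and limit preservation (helper607)
-/

set_option autoImplicit false
set_option linter.unusedSectionVars false

universe w v u

open CategoryTheory CategoryTheory.Limits AlgebraicGeometry Opposite
open ArtFun ArtFun.Art K724.Basic

namespace K607.Artin

variable {Λ : Type u} [CommRing Λ] {𝒳 : BasedCategory.{v, w} (Over (Spec (CommRingCat.of Λ)))}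
variable {k : Type u} [Field k] [Algebra Λ k]

lemma Def0.exists_glue [hfg : FibCat.IsFibGrpd 𝒳.p] {x₀ : 𝒳.obj} (hrs : RSobj 𝒳) {B A A' A'' : Art Λ k}
    {p' : B ⟶ A'} {p'' : B ⟶ A''} {f' : A' ⟶ A} {f'' : A'' ⟶ A} (h : IsFibreProd p' p'' f' f'')
    (hs : Function.Surjective f'') {d₁ : Def0 x₀ A'} {d₂ : Def0 x₀ A''} {e : Def0 x₀ A}
    (h₁ : Def0.Rel f' d₁ e) (h₂ : Def0.Rel f'' d₂ e) : ∃ d : Def0 x₀ B, Def0.Rel p' d d₁ ∧ Def0.Rel p'' d d₂ := by
  obtain ⟨c, hc⟩ := Def0.s1 hrs p' p'' f' f'' h hs ⟨(Def0.cl d₁, Def0.cl d₂), by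
    rw [Def0.F_map_cl_iff.2 h₁, Def0.F_map_cl_iff.2 h₂]⟩
  obtain ⟨d, rfl⟩ := Def0.cl_surjective c
  exact ⟨d, Def0.F_map_cl_iff.1 (congrArg (fun t => t.1.1) hc), Def0.F_map_cl_iff.1 (congrArg (fun t => t.1.2) hc)⟩

section Rings

variable (Λ k)

/-- `k ⊕ kⁿ`. -/
noncomputable def TE (n : ℕ) : Art Λ k :=
  { carrier := TrivSqZeroExt k (Fin n → k)
    isLocalRing := isLocalRing_tsze k (Fin n → k)
    isArtinianRing := isArtinianRing_tsze k (Fin n → k)
    res := TrivSqZeroExt.fstHom Λ k (Fin n → k)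
    res_surjective := fun a => ⟨TrivSqZeroExt.inl a, rfl⟩ }

/-- Restriction `k ⊕ kⁿ⁺¹ → k ⊕ kⁿ`. -/
noncomputable def trE (n : ℕ) : TE Λ k (n + 1) ⟶ TE Λ k n :=
  ⟨tszeMap (LinearMap.funLeft k k (Fin.castSucc : Fin n → Fin (n + 1))), AlgHom.ext fun _ => rfl⟩

/-- The last coordinate. -/
noncomputable def lastE (n : ℕ) : TE Λ k (n + 1) ⟶ dual Λ k :=
  ⟨tszeMap (LinearMap.proj (Fin.last n)), AlgHom.ext fun _ => rfl⟩

lemma isFibreProd_TE (n : ℕ) : IsFibreProd (trE Λ k n) (lastE Λ k n) (toBase _) (toBase _) where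
  w := by rw [eq_toBase (trE Λ k n ≫ _), eq_toBase (lastE Λ k n ≫ _)]
  inj x y h1 h2 := by
    have e₁ : x.fst = y.fst := by have e := congrArg TrivSqZeroExt.fst h1; exact e
    have e₂ : ∀ i : Fin n, x.snd i.castSucc = y.snd i.castSucc := fun i => by
      have e := congrFun (congrArg TrivSqZeroExt.snd h1) i; exact e
    have e₃ : x.snd (Fin.last n) = y.snd (Fin.last n) := by have e := congrArg TrivSqZeroExt.snd h2; exact e
    refine TrivSqZeroExt.ext e₁ ?_
    funext i
    exact Fin.lastCases e₃ e₂ i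
  surj a' a'' h := by
    have h' : a'.fst = a''.fst := h
    refine ⟨(a'.fst, (Fin.snoc a'.snd a''.snd : Fin (n + 1) → k)), TrivSqZeroExt.ext rfl ?_, TrivSqZeroExt.ext h' ?_⟩
    · funext i
      exact Fin.snoc_castSucc (α := fun _ => k) _ _ i
    · exact Fin.snoc_last (α := fun _ => k) _ _

/-- `k ⊕ k^ℕ`. -/
abbrev TI := TrivSqZeroExt k (ℕ → k)

/-- The projection `k ⊕ k^ℕ → k ⊕ kⁿ`. -/
noncomputable def prI (n : ℕ) : TI k →ₐ[Λ] TrivSqZeroExt k (Fin n → k) :=
  tszeMap (LinearMap.funLeft k k (fun i : Fin n => (i : ℕ)))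

lemma isRingLimit_TI : FlatCA.IsRingLimit (TI k) (fun n => (TE Λ k n).carrier)
    (fun n => (trE Λ k n).toAlgHom.toRingHom) (fun n => (prI Λ k n).toRingHom) := by
  refine ⟨fun n => ?_, fun a b h => ?_, fun x hx => ?_⟩
  · apply RingHom.ext
    intro x
    refine TrivSqZeroExt.ext rfl ?_
    funext i
    rfl
  · refine TrivSqZeroExt.ext ?_ ?_
    · have e := congrArg TrivSqZeroExt.fst (h 0)
      exact e
    · funext i
      have e := congrFun (congrArg TrivSqZeroExt.snd (h (i + 1))) (Fin.last i)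
      exact e
  · have h1 : ∀ n, (x n).fst = (x 0).fst := by
      intro n
      induction n with
      | zero => rfl
      | succ n ih =>
        rw [← ih, ← hx n]
        rfl
    have h2 : ∀ n (i : Fin n), (x (n + 1)).snd i.castSucc = (x n).snd i := by
      intro n i
      conv_rhs => rw [← hx n]
      rfl
    have h3 : ∀ n (i : Fin n), (x n).snd i = (x (i + 1)).snd (Fin.last i) := by
      intro n
      induction n with
      | zero => exact fun i => i.elim0
      | succ n ih =>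
        intro i
        refine Fin.lastCases ?_ (fun j => ?_) i
        · rfl
        · rw [h2, ih j]
          rfl
    refine ⟨((x 0).fst, fun i => (x (i + 1)).snd (Fin.last i)), fun n => ?_⟩
    refine TrivSqZeroExt.ext (h1 n).symm ?_
    funext i
    exact (h3 n i).symm

end Rings

section Main

variable [hfg : FibCat.IsFibGrpd 𝒳.p]

/-- The image of an algebra of finite type in `k ⊕ k^ℕ` is finite, `k` being a finite field. -/
lemma finite_range [Finite k] {C : Type u} [CommRing C] [Algebra Λ C] [Algebra.FiniteType Λ C]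
    (φ : C →ₐ[Λ] TI k) : Finite φ.range := by
  classical
  obtain ⟨s, hs⟩ := (inferInstance : Algebra.FiniteType Λ C).out
  let W : Submodule k (ℕ → k) := Submodule.span k ((fun c => (φ c).snd) '' (s : Set C))
  have hW : W.FG := ⟨(s.image (fun c => (φ c).snd) : Finset (ℕ → k)), by rw [Finset.coe_image]⟩
  have hWf : Module.Finite k W := Module.Finite.iff_fg.2 hW
  have hWfin : Finite W := Module.finite_of_finite k
  let T : Subalgebra Λ (TI k) :=
    { carrier := {x | x.snd ∈ W}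
      mul_mem' := by
        intro a b ha hb
        change (a * b).snd ∈ W
        rw [TrivSqZeroExt.snd_mul]
        refine W.add_mem (W.smul_mem _ hb) ?_
        rw [op_smul_eq_smul]
        exact W.smul_mem _ ha
      add_mem' := by
        intro a b ha hb
        exact W.add_mem ha hb
      algebraMap_mem' := by
        intro r
        change (algebraMap Λ (TI k) r).snd ∈ W
        rw [TrivSqZeroExt.algebraMap_eq_inl', TrivSqZeroExt.snd_inl]
        exact W.zero_mem }
  have hle : φ.range ≤ T := by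
    rw [← Algebra.map_top, ← hs, AlgHom.map_adjoin, Algebra.adjoin_le_iff]
    rintro _ ⟨c, hc, rfl⟩
    exact Submodule.subset_span ⟨c, hc, rfl⟩
  have hT : Finite T := by
    refine Finite.of_injective (fun x : T => ((x.1.fst, ⟨x.1.snd, x.2⟩) : k × W)) ?_
    intro x y hxy
    apply Subtype.ext
    refine TrivSqZeroExt.ext ?_ ?_
    · have e := congrArg Prod.fst hxy
      exact e
    · have e := congrArg (fun p : k × W => p.2.1) hxy
      exact e
  exact Finite.of_injective (Subalgebra.inclusion hle) (Subalgebra.inclusion_injective hle)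

/-- The tangent space is finite. -/
theorem finite_tangent [Finite k] (hlp : LP 𝒳) (hse : SE 𝒳) (hrs : RSobj 𝒳) (hfa : FA 𝒳) {x₀ : 𝒳.obj}
    (hx₀ : Ov k x₀) : Finite ((Def0.F x₀).obj (dual Λ k)) := by
  by_contra hinf
  rw [not_finite_iff_infinite] at hinf
  let τ : ℕ ↪ (Def0.F x₀).obj (dual Λ k) := Infinite.natEmbedding _
  choose t ht using fun n => Def0.cl_surjective (x₀ := x₀) (A := dual Λ k) (τ n)
  -- the tower
  have hnext : ∀ (n : ℕ) (d : Def0 x₀ (TE Λ k n)), ∃ d' : Def0 x₀ (TE Λ k (n + 1)),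
      Def0.Rel (trE Λ k n) d' d ∧ Def0.Rel (lastE Λ k n) d' (t n) := fun n d =>
    Def0.exists_glue hrs (isFibreProd_TE Λ k n) (toBase_surjective _) (Def0.rel_triv hx₀ d) (Def0.rel_triv hx₀ (t n))
  choose nx hnx₁ hnx₂ using hnext
  obtain ⟨d₀⟩ : Nonempty (Def0 x₀ (TE Λ k 0)) := by
    obtain ⟨y, c, hc⟩ := Li.exists_lift hx₀ (TrivSqZeroExt.inlAlgHom Λ k (Fin 0 → k))
    obtain ⟨i, hi, -⟩ := Li.exists_factor (Li.id hx₀) hc (TE Λ k 0).res (AlgHom.ext fun _ => rfl)
    exact ⟨⟨y, i, hi⟩⟩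
  let D : ∀ n, Def0 x₀ (TE Λ k n) := fun n => Nat.rec d₀ (fun n d => nx n d) n
  have hD₁ : ∀ n, Def0.Rel (trE Λ k n) (D (n + 1)) (D n) := fun n => hnx₁ n (D n)
  have hD₂ : ∀ n, Def0.Rel (lastE Λ k n) (D (n + 1)) (t n) := fun n => hnx₂ n (D n)
  choose a ha hai using hD₁
  choose l hl hli using hD₂
  obtain ⟨x, hx⟩ := hse (fun n => (TE Λ k n).carrier) (fun n => (trE Λ k n).toAlgHom)
    (fun n => IsFibreProd.surjective_fst (isFibreProd_TE Λ k n) (toBase_surjective _))
    (fun n r hr => (isNilpotent_ker (trE Λ k n)).elim fun N hN => ⟨N, by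
      have := Ideal.pow_mem_pow hr N
      rw [hN] at this
      exact this⟩) (TI k) (fun n => prI Λ k n) (isRingLimit_TI Λ k) (fun n => (D n).obj) a ha
  choose c hc using hx
  have hc' : ∀ n, Li (A := TI k) (B := TE Λ k n) (prI Λ k n) (c n) := hc
  have hxO : Ov (TI k) x := (hc' 0).tgt
  obtain ⟨C, _, _, _, φ, y, b, hb⟩ := hlp (TI k) x hxO
  have hb' : Li φ b := hb
  -- the finite subalgebra
  have hS : Finite φ.range := finite_range φ
  obtain ⟨y₀, e, he⟩ := Li.exists_lift hb'.tgt φ.rangeRestrict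
  obtain ⟨f, hf, hfe⟩ := Li.exists_factor hb' he φ.range.val (AlgHom.ext fun _ => rfl)
  -- the two finite invariants
  let lam : ℕ → (φ.range →ₐ[Λ] dual Λ k) := fun j =>
    ((lastE Λ k j).toAlgHom.comp (prI Λ k (j + 1))).comp φ.range.val
  let η : φ.range →ₐ[Λ] k := ((TE Λ k 0).res.comp (prI Λ k 0)).comp φ.range.val
  have hη : ∀ j, (dual Λ k).res.comp (lam j) = η := fun j => AlgHom.ext fun _ => rfl
  let uu : ∀ j, (t j).obj ⟶ y₀ := fun j => l j ≫ c (j + 1) ≫ f
  have huu : ∀ j, Li (lam j) (uu j) := fun j => by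
    have := (hf.comp (hc' (j + 1))).comp (hl j)
    exact this
  let hh : ∀ j, x₀ ⟶ y₀ := fun j => (t j).i ≫ uu j
  have hhh : ∀ j, Li η (hh j) := fun j => by
    have := (huu j).comp (t j).li
    rwa [hη] at this
  choose g hg hgh using fun j => Li.exists_factor (hhh j) (hhh 0) (AlgHom.id Λ k) (AlgHom.id_comp η)
  have hgm : ∀ j, 𝒳.p.map (g j) = 𝟙 _ := fun j => by
    rw [(hg j).map_eq (Li.id hx₀), 𝒳.p.map_id]
  have hfin := hfa k x₀ hx₀
  have hfin2 : Finite (φ.range →ₐ[Λ] dual Λ k) := by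
    have : Finite (dual Λ k).carrier := inferInstanceAs (Finite (k × k))
    exact Finite.of_injective (fun f : φ.range →ₐ[Λ] dual Λ k => (f : φ.range → dual Λ k)) DFunLike.coe_injective
  obtain ⟨j, j', hne, hjj⟩ := Finite.exists_ne_map_eq_of_infinite
    (fun j => ((lam j, ⟨g j, hgm j⟩) : (φ.range →ₐ[Λ] dual Λ k) × {e : x₀ ⟶ x₀ // 𝒳.p.map e = 𝟙 _}))
  have e1 : lam j = lam j' := congrArg Prod.fst hjj
  have e2 : g j = g j' := congrArg (fun p : (φ.range →ₐ[Λ] dual Λ k) × {e : x₀ ⟶ x₀ // 𝒳.p.map e = 𝟙 _} => p.2.1) hjj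
  have e3 : hh j = hh j' := by rw [← hgh j, ← hgh j', e2]
  obtain ⟨v, hv, hvu⟩ := Li.exists_factor (huu j) (huu j') (AlgHom.id Λ _) ((AlgHom.id_comp _).trans e1.symm)
  have e4 : (t j).i ≫ v = (t j').i := by
    refine Li.uniq' (χ := (dual Λ k).res) (b := uu j') ?_ (t j').li ?_
    · have := hv.comp (t j).li
      rwa [AlgHom.comp_id] at this
    · rw [Category.assoc, hvu]
      exact e3
  have e5 : Def0.cl (t j') = Def0.cl (t j) := Def0.cl_eq_iff.2 ⟨v, hv, e4⟩
  have e6 : τ j' = τ j := (ht j').symm.trans (e5.trans (ht j))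
  exact hne (τ.injective e6.symm)

end Main

end K607.Artin
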