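import Groth.Agent.AlgSp.K607.ArtinFin
import Groth.Agent.ArtFun.K724.Formal
import Groth.Agent.ArtFun.K724.HullExist
import Groth.Agent.ArtFun.K724.Tangent
import Mathlib.RingTheory.Ideal.Quotient.Index
import Mathlib.CategoryTheory.CofilteredSystem
import Mathlib.CategoryTheory.Functor.OfSequence

/-!
# Versal objects over complete local algebras (helper607)
-/

set_option autoImplicit false
set_option linter.unusedSectionVars false

universe w v u

open CategoryTheory CategoryTheory.Limits AlgebraicGeometry Opposite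
open ArtFun ArtFun.Art K724.Basic

namespace K607.Artin

variable {Λ : Type u} [CommRing Λ] {𝒳 : BasedCategory.{v, w} (Over (Spec (CommRingCat.of Λ)))}
variable {k : Type u} [Field k] [Algebra Λ k]

/-- Artinian local rings with finite residue field are finite. -/
lemma finite_art [Finite k] (B : Art Λ k) : Finite B := by
  obtain ⟨N, hN⟩ := (isArtinianRing_iff_isNilpotent_maximalIdeal B).1 inferInstance
  have h1 : Finite (B ⧸ IsLocalRing.maximalIdeal B) := by
    have hker : RingHom.ker B.res = IsLocalRing.maximalIdeal B := by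
      ext a
      rw [RingHom.mem_ker, mem_maximalIdeal_iff]
    rw [← hker]
    exact Finite.of_injective _ (Ideal.quotientKerAlgEquivOfSurjective B.res_surjective).injective
  have h2 := Ideal.finite_quotient_pow (IsNoetherian.noetherian (IsLocalRing.maximalIdeal B)) N
  rw [hN] at h2
  refine Finite.of_injective (Ideal.Quotient.mk (0 : Ideal B)) ?_
  intro a b hab
  rw [Ideal.Quotient.eq, Ideal.zero_eq_bot, Ideal.mem_bot, sub_eq_zero] at hab
  exact hab

section Form

variable [hfg : FibCat.IsFibGrpd 𝒳.p] {x₀ : 𝒳.obj}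

lemma isRingLimit_trunc (R : CRing Λ k) : FlatCA.IsRingLimit R.carrier (fun n => (R.trunc n).carrier)
    (fun n => (R.truncMap n).toAlgHom.toRingHom) (fun n => (R.truncHom n).1.toRingHom) := by
  have := R.isAdicComplete
  refine ⟨fun n => ?_, fun a b h => ?_, fun x hx => ?_⟩
  · exact congrArg AlgHom.toRingHom (congrArg Subtype.val (R.truncMap_truncHom n))
  · refine IsHausdorff.eq_iff_smodEq (I := IsLocalRing.maximalIdeal R.carrier) |>.2 fun n => ?_
    rw [SModEq.sub_mem, smul_eq_mul, Ideal.mul_top]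
    have h1 : (R.truncHom n).1 a = (R.truncHom n).1 b := h n
    have h2 : a - b ∈ IsLocalRing.maximalIdeal R.carrier ^ (n + 1) := by
      rw [← K724.Formal.ker_truncHom, RingHom.mem_ker, map_sub, h1, sub_self]
    exact Ideal.pow_le_pow_right (Nat.le_succ n) h2
  · choose r hr using fun n => K724.Formal.truncHom_surjective R n (x n)
    have hstep : ∀ n, (R.truncHom n).1 (r (n + 1)) = x n := by
      intro n
      rw [← hx n, ← hr (n + 1)]
      exact (DFunLike.congr_fun (congrArg Subtype.val (R.truncMap_truncHom n)) _).symm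
    have hmem : ∀ n, r n - r (n + 1) ∈ IsLocalRing.maximalIdeal R.carrier ^ (n + 1) := by
      intro n
      rw [← K724.Formal.ker_truncHom, RingHom.mem_ker, map_sub, hr, hstep, sub_self]
    have hmem2 : ∀ m n, m ≤ n → r m - r n ∈ IsLocalRing.maximalIdeal R.carrier ^ (m + 1) := by
      intro m n hmn
      induction n, hmn using Nat.le_induction with
      | base => rw [sub_self]; exact Submodule.zero_mem _
      | succ n hn ih =>
        have := Ideal.add_mem _ ih (Ideal.pow_le_pow_right (Nat.succ_le_succ hn) (hmem n))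
        rwa [sub_add_sub_cancel] at this
    obtain ⟨L, hL⟩ := IsPrecomplete.prec (I := IsLocalRing.maximalIdeal R.carrier) (M := R.carrier) inferInstance
      (f := r) (by
        intro i j hij
        rw [SModEq.sub_mem, smul_eq_mul, Ideal.mul_top]
        exact Ideal.pow_le_pow_right (Nat.le_succ i) (hmem2 i j hij))
    refine ⟨L, fun n => ?_⟩
    have h1 := hL (n + 1)
    rw [SModEq.sub_mem, smul_eq_mul, Ideal.mul_top] at h1
    have h2 : (R.truncHom n).1 (r (n + 1)) = (R.truncHom n).1 L := by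
      rw [← sub_eq_zero, ← map_sub, ← RingHom.mem_ker, K724.Formal.ker_truncHom]
      exact h1
    exact h2.symm.trans (hstep n)

/-- A compatible system of arrows to an effective object. -/
lemma exists_compatible [Finite k] (hfa : FA 𝒳) (R : CRing Λ k) (X : ℕ → 𝒳.obj) (a : ∀ n, X n ⟶ X (n + 1))
    (ha : ∀ n, Li (R.truncMap n).toAlgHom (a n)) (x : 𝒳.obj)
    (h : ∀ n, ∃ c : X n ⟶ x, Li (R.truncHom n).1 c) :
    ∃ c : ∀ n, X n ⟶ x, (∀ n, Li (R.truncHom n).1 (c n)) ∧ ∀ n, a n ≫ c (n + 1) = c n := by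
  let I : ℕ → Type v := fun n => {c : X n ⟶ x // Li (R.truncHom n).1 c}
  have hcomp : ∀ n, (R.truncMap n).toAlgHom.comp (R.truncHom (n + 1)).1 = (R.truncHom n).1 := fun n =>
    congrArg Subtype.val (R.truncMap_truncHom n)
  let f : ∀ n, I (n + 1) → I n := fun n c => ⟨a n ≫ c.1, by
    have := c.2.comp (ha n)
    rwa [hcomp] at this⟩
  have hne : ∀ n, Nonempty (I n) := fun n => by
    obtain ⟨c, hc⟩ := h n
    exact ⟨⟨c, hc⟩⟩
  have hfin : ∀ n, Finite (I n) := fun n => by
    obtain ⟨c₀, hc₀⟩ := h n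
    have h1 : Finite (R.trunc n).carrier := finite_art (R.trunc n)
    have h2 := hfa (R.trunc n).carrier (X n) hc₀.src
    have h3 : ∀ c : I n, ∃ e : X n ⟶ X n, 𝒳.p.map e = 𝟙 _ ∧ e ≫ c₀ = c.1 := by
      intro c
      obtain ⟨e, he, hec⟩ := Li.exists_factor c.2 hc₀ (AlgHom.id Λ _) (AlgHom.id_comp _)
      exact ⟨e, by rw [he.map_eq (Li.id hc₀.src), 𝒳.p.map_id], hec⟩
    choose e he hec using h3
    refine Finite.of_injective (fun c => (⟨e c, he c⟩ : {e : X n ⟶ X n // 𝒳.p.map e = 𝟙 _})) ?_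
    intro c c' hcc
    apply Subtype.ext
    rw [← hec, ← hec]
    exact congrArg (fun t => t.1 ≫ c₀) hcc
  let G : ℕᵒᵖ ⥤ Type v := Functor.ofOpSequence (X := I) (fun n => ↾(f n))
  have hG1 : ∀ j : ℕᵒᵖ, Finite (G.obj j) := fun j => hfin j.unop
  have hG2 : ∀ j : ℕᵒᵖ, Nonempty (G.obj j) := fun j => hne j.unop
  obtain ⟨s, hs⟩ := nonempty_sections_of_finite_inverse_system G
  refine ⟨fun n => (s (op n) : I n).1, fun n => (s (op n) : I n).2, fun n => ?_⟩
  have h1 := hs (homOfLE (Nat.le_succ n)).op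
  have h2 : G.map (homOfLE (Nat.le_succ n)).op = ↾(f n) := Functor.ofOpSequence_map_homOfLE_succ _ n
  rw [h2] at h1
  exact congrArg Subtype.val h1

/-- **Existence of versal objects over complete local rings.** -/
theorem exists_formal [IsNoetherianRing Λ] [Finite k] (hlp : LP 𝒳) (hse : SE 𝒳) (hrs : RSobj 𝒳) (hrh : RShom 𝒳)
    (hfa : FA 𝒳) (hx₀ : Ov k x₀) :
    ∃ (R : CRing Λ k) (x : 𝒳.obj) (i : x₀ ⟶ x), Li R.res i ∧ Vers k i := by
  have hkfin : Module.Finite Λ k := ⟨⟨Set.Finite.toFinset (Set.toFinite (Set.univ : Set k)), by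
    rw [Set.Finite.coe_toFinset]; exact Submodule.span_univ⟩⟩
  have hH0 := Def0.h0 (k := k) hx₀
  have hS1 := Def0.s1 (k := k) (x₀ := x₀) hrs
  have hHe := Def0.heps (k := k) (x₀ := x₀) hrs hrh
  letI : TangentStr (Def0.F (k := k) x₀) := K724.Tangent.tangentStr hH0 hHe
  have hft : Finite (TangentSpace (Def0.F (k := k) x₀)) := finite_tangent hlp hse hrs hfa hx₀
  have hHf : Hfin (Def0.F (k := k) x₀) := ⟨⟨Set.Finite.toFinset (Set.toFinite Set.univ), by
    rw [Set.Finite.coe_toFinset]; exact Submodule.span_univ⟩⟩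
  obtain ⟨⟨R, η, hη⟩⟩ := K724.HullExist.hasVersal (Def0.F (k := k) x₀) hH0 hS1 hHe hHf
  choose D hD using fun n => Def0.cl_surjective (x₀ := x₀) (η.toFormalElt.elt n)
  have hrel : ∀ n, Def0.Rel (R.truncMap n) (D (n + 1)) (D n) := fun n => by
    rw [← Def0.F_map_cl_iff, hD, hD]
    exact η.toFormalElt.compat n
  choose a ha hai using hrel
  obtain ⟨x, hx⟩ := hse (fun n => (R.trunc n).carrier) (fun n => (R.truncMap n).toAlgHom)
    (fun n y => by
      obtain ⟨r, hr⟩ := K724.Formal.truncHom_surjective R n y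
      exact ⟨(R.truncHom (n + 1)).1 r, (DFunLike.congr_fun (congrArg Subtype.val (R.truncMap_truncHom n)) r).trans hr⟩)
    (fun n r hr => (isNilpotent_ker (R.truncMap n)).elim fun N hN => ⟨N, by
      have := Ideal.pow_mem_pow hr N
      rw [hN] at this
      exact this⟩) R.carrier (fun n => (R.truncHom n).1) (isRingLimit_trunc R) (fun n => (D n).obj) a ha
  obtain ⟨c, hc, hac⟩ := exists_compatible hfa R (fun n => (D n).obj) a ha x hx
  let i : x₀ ⟶ x := (D 0).i ≫ c 0
  have hres : ∀ n, (R.trunc n).res.comp (R.truncHom n).1 = R.res := fun n => (R.truncHom n).2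
  have hi : Li R.res i := by
    have := (hc 0).comp (D 0).li
    rwa [hres 0] at this
  have hin : ∀ n, (D n).i ≫ c n = i := by
    intro n
    induction n with
    | zero => rfl
    | succ n ih => rw [← ih, ← hac n, ← Category.assoc, hai n]
  refine ⟨R, x, i, hi, SVers.vers R.res hrs hrh hi ?_⟩
  -- the class of a restriction
  have key : ∀ (B : Art Λ k) (φ : HomSet R.carrier R.res B) (d : Def0 x₀ B) (e : d.obj ⟶ x), Li φ.1 e → d.i ≫ e = i →
      Def0.cl d = η.app B φ := by
    intro B φ d e he hie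
    obtain ⟨n, hn⟩ := K724.Formal.exists_pow_le_ker B φ
    obtain ⟨g, hg⟩ := K724.Formal.exists_factor (R.truncHom n) (K724.Formal.truncHom_surjective R n) φ (by
      rw [K724.Formal.ker_truncHom, ← K724.Formal.ker_res_eq]
      exact hn)
    have h1 : g.toAlgHom.comp (R.truncHom n).1 = φ.1 := congrArg Subtype.val hg
    obtain ⟨f, hf, hfe⟩ := Li.exists_factor he (hc n) g.toAlgHom h1
    rw [← hg, η.natural]
    have h2 : Def0.Rel g (D n) d := by
      refine ⟨f, hf, ?_⟩
      refine Li.uniq' (χ := (R.trunc n).res) (b := c n) ?_ (D n).li ?_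
      · have := hf.comp d.li
        rwa [g.res_comp] at this
      · rw [Category.assoc, hfe, hie, hin]
    have h3 := Def0.F_map_cl_iff.2 h2
    rw [hD] at h3
    exact h3.symm
  intro B C μ hμ d d' hdd φ e he hie
  have hφ : B.res.comp φ = R.res := (he.comp d.li).unique (hie ▸ hi)
  have h1 := key B ⟨φ, hφ⟩ d e he hie
  obtain ⟨ψ, hψ1, hψ2⟩ := hη μ hμ ⟨φ, hφ⟩ (Def0.cl d') (by rw [← h1]; exact Def0.F_map_cl_iff.2 hdd)
  obtain ⟨y, e', he'⟩ := Li.exists_lift hi.tgt ψ.1
  obtain ⟨i', hi', hie'⟩ := Li.exists_factor hi he' C.res ψ.2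
  have h2 := key C ψ ⟨y, i', hi'⟩ e' he' hie'
  have h3 : Def0.cl (⟨y, i', hi'⟩ : Def0 x₀ C) = Def0.cl d' := h2.trans hψ2
  obtain ⟨f, hf, hfi⟩ := Def0.cl_eq_iff.1 h3
  refine ⟨ψ.1, f ≫ e', congrArg Subtype.val hψ1, ?_, ?_⟩
  · have := he'.comp hf
    exact this
  · rw [← Category.assoc, hfi]
    exact hie'

end Form

end K607.Artin
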