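import Groth.Agent.AlgSp.K607.ArtinLi

/-!
# Calculus of lifts in a category fibred in groupoids (helper607)
-/

set_option autoImplicit false
set_option linter.unusedSectionVars false

universe w v u u'

open CategoryTheory CategoryTheory.Limits

namespace K607.Artin.Gen

variable {S : Type u} [Category.{u'} S] {𝒳 : BasedCategory.{v, w} S}

section NoFib

variable {x y z : 𝒳.obj} {U V W : S}

lemma src {f : U ⟶ V} {a : x ⟶ y} (h : 𝒳.p.IsHomLift f a) : 𝒳.p.obj x = U :=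
  @IsHomLift.domain_eq _ _ _ _ 𝒳.p _ _ _ _ f a h

lemma tgt {f : U ⟶ V} {a : x ⟶ y} (h : 𝒳.p.IsHomLift f a) : 𝒳.p.obj y = V :=
  @IsHomLift.codomain_eq _ _ _ _ 𝒳.p _ _ _ _ f a h

lemma comp {f : U ⟶ V} {g : V ⟶ W} {a : x ⟶ y} {b : y ⟶ z} (ha : 𝒳.p.IsHomLift f a) (hb : 𝒳.p.IsHomLift g b) :
    𝒳.p.IsHomLift (f ≫ g) (a ≫ b) := inferInstance

lemma exists_base (hx : 𝒳.p.obj x = U) (hy : 𝒳.p.obj y = V) (a : x ⟶ y) : ∃ f : U ⟶ V, 𝒳.p.IsHomLift f a :=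
  ⟨eqToHom hx.symm ≫ 𝒳.p.map a ≫ eqToHom hy, IsHomLift.of_fac (p := 𝒳.p) _ a hx hy rfl⟩

lemma unique {f g : U ⟶ V} {a : x ⟶ y} (h : 𝒳.p.IsHomLift f a) (h' : 𝒳.p.IsHomLift g a) : f = g := by
  rw [IsHomLift.fac 𝒳.p f a, IsHomLift.fac 𝒳.p g a]

lemma map_eq {f : U ⟶ V} {a b : x ⟶ y} (h : 𝒳.p.IsHomLift f a) (h' : 𝒳.p.IsHomLift f b) :
    𝒳.p.map a = 𝒳.p.map b := by
  rw [IsHomLift.fac' 𝒳.p f a, IsHomLift.fac' 𝒳.p f b]

end NoFib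

variable [hfg : FibCat.IsFibGrpd 𝒳.p] {x y z : 𝒳.obj} {U V W : S}

lemma ex_lift (hy : 𝒳.p.obj y = V) (f : U ⟶ V) : ∃ (x : 𝒳.obj) (a : x ⟶ y), 𝒳.p.IsHomLift f a := by
  subst hy
  exact hfg.exists_lift f

lemma ex_factor {f : U ⟶ W} {g : V ⟶ W} {a : z ⟶ y} {b : x ⟶ y} (ha : 𝒳.p.IsHomLift f a)
    (hb : 𝒳.p.IsHomLift g b) (h : U ⟶ V) (e : h ≫ g = f) : ∃ c : z ⟶ x, 𝒳.p.IsHomLift h c ∧ c ≫ b = a := by
  have hc : 𝒳.p.IsStronglyCartesian g b := by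
    have h1 := hfg.isStronglyCartesian b
    have e := IsHomLift.fac' 𝒳.p g b
    have hx : 𝒳.p.obj x = V := src hb
    have hy : 𝒳.p.obj y = W := tgt hb
    subst hx
    subst hy
    simp only [eqToHom_refl, Category.comp_id, Category.id_comp] at e
    rw [← e]
    exact h1
  obtain ⟨c, ⟨hc1, hc2⟩, -⟩ := Functor.IsStronglyCartesian.universal_property (p := 𝒳.p) (f := g) (φ := b)
    h f e.symm a
  exact ⟨c, hc1, hc2⟩

lemma uniqL {h : U ⟶ V} {b : x ⟶ y} {c c' : z ⟶ x} (hc : 𝒳.p.IsHomLift h c) (hc' : 𝒳.p.IsHomLift h c')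
    (e : c ≫ b = c' ≫ b) : c = c' := by
  have h1 := hfg.isStronglyCartesian b
  have h3 : 𝒳.p.IsHomLift (𝒳.p.map c) c' := by rw [map_eq hc hc']; infer_instance
  exact Functor.IsStronglyCartesian.ext (p := 𝒳.p) (f := 𝒳.p.map b) b (𝒳.p.map c) (ψ := c) (ψ' := c') e

end K607.Artin.Gen
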