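import Groth.Agent.AlgSp.K607.ArtinDefs

/-!
# Calculus of arrows over maps of `Λ`-algebras in a category fibred in groupoids over `(Sch/Spec Λ)` (helper607)
-/

set_option autoImplicit false
set_option linter.unusedSectionVars false

universe w v u

open CategoryTheory CategoryTheory.Limits AlgebraicGeometry Opposite

namespace K607.Artin

section Base

variable {Λ : Type u} [CommRing Λ]
variable {A B C : Type u} [CommRing A] [CommRing B] [CommRing C] [Algebra Λ A] [Algebra Λ B] [Algebra Λ C]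

lemma spMap_id : spMap (AlgHom.id Λ A) = 𝟙 (sp Λ A) := by
  apply Over.OverMorphism.ext
  change Spec.map (CommRingCat.ofHom (RingHom.id A)) = 𝟙 _
  exact Spec.map_id _

lemma spMap_comp (φ : A →ₐ[Λ] B) (ψ : B →ₐ[Λ] C) : spMap (ψ.comp φ) = spMap ψ ≫ spMap φ := by
  apply Over.OverMorphism.ext
  change Spec.map (CommRingCat.ofHom (ψ.comp φ).toRingHom) =
    Spec.map (CommRingCat.ofHom ψ.toRingHom) ≫ Spec.map (CommRingCat.ofHom φ.toRingHom)
  rw [← Spec.map_comp]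
  rfl

lemma spMap_injective {φ ψ : A →ₐ[Λ] B} (h : spMap φ = spMap ψ) : φ = ψ := by
  have h1 : Spec.map (CommRingCat.ofHom φ.toRingHom) = Spec.map (CommRingCat.ofHom ψ.toRingHom) :=
    congrArg (fun f => CommaMorphism.left f) h
  have h2 := Spec.map_injective h1
  have h3 : φ.toRingHom = ψ.toRingHom := congrArg CommRingCat.Hom.hom h2
  exact AlgHom.ext fun x => DFunLike.congr_fun h3 x

lemma exists_spMap (f : sp Λ B ⟶ sp Λ A) : ∃ φ : A →ₐ[Λ] B, spMap φ = f := by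
  obtain ⟨g, hg⟩ := Spec.map_surjective f.left
  have hw : f.left ≫ Spec.map (CommRingCat.ofHom (algebraMap Λ A)) = Spec.map (CommRingCat.ofHom (algebraMap Λ B)) :=
    Over.w f
  rw [← hg, ← Spec.map_comp] at hw
  have h2 := Spec.map_injective hw
  have h3 : g.hom.comp (algebraMap Λ A) = algebraMap Λ B := by
    have := congrArg CommRingCat.Hom.hom h2
    exact this
  refine ⟨⟨g.hom, fun c => DFunLike.congr_fun h3 c⟩, ?_⟩
  apply Over.OverMorphism.ext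
  rw [← hg]
  rfl

end Base

section Li

variable {Λ : Type u} [CommRing Λ] {𝒳 : BasedCategory.{v, w} (Over (Spec (CommRingCat.of Λ)))}

/-- The arrow `a` lies over `Spec` of the map `φ` of `Λ`-algebras. -/
def Li {A B : Type u} [CommRing A] [CommRing B] [Algebra Λ A] [Algebra Λ B] (φ : A →ₐ[Λ] B) {x y : 𝒳.obj}
    (a : x ⟶ y) : Prop := 𝒳.p.IsHomLift (spMap φ) a

/-- The object `x` lies over `Spec A`. -/
def Ov (A : Type u) [CommRing A] [Algebra Λ A] (x : 𝒳.obj) : Prop := 𝒳.p.obj x = sp Λ A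

variable {A B C : Type u} [CommRing A] [CommRing B] [CommRing C] [Algebra Λ A] [Algebra Λ B] [Algebra Λ C]
  {x y z t : 𝒳.obj}

lemma Li.src {φ : A →ₐ[Λ] B} {a : x ⟶ y} (h : Li φ a) : Ov B x :=
  @IsHomLift.domain_eq _ _ _ _ 𝒳.p _ _ _ _ (spMap φ) a h

lemma Li.tgt {φ : A →ₐ[Λ] B} {a : x ⟶ y} (h : Li φ a) : Ov A y :=
  @IsHomLift.codomain_eq _ _ _ _ 𝒳.p _ _ _ _ (spMap φ) a h

lemma Li.id (hx : Ov A x) : Li (AlgHom.id Λ A) (𝟙 x) := by
  unfold Li
  rw [spMap_id]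
  exact IsHomLift.id hx

lemma Li.comp {φ : A →ₐ[Λ] B} {ψ : B →ₐ[Λ] C} {a : x ⟶ y} {b : z ⟶ x} (ha : Li φ a) (hb : Li ψ b) :
    Li (ψ.comp φ) (b ≫ a) := by
  unfold Li at *
  rw [spMap_comp]
  infer_instance

lemma Li.congr {φ ψ : A →ₐ[Λ] B} {a : x ⟶ y} (h : Li φ a) (e : φ = ψ) : Li ψ a := e ▸ h

/-- Every arrow between objects over affine schemes lies over a unique map. -/
lemma Li.exists (hx : Ov B x) (hy : Ov A y) (a : x ⟶ y) : ∃ φ : A →ₐ[Λ] B, Li φ a := by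
  unfold Ov at hx hy
  obtain ⟨φ, hφ⟩ := exists_spMap (eqToHom hx.symm ≫ 𝒳.p.map a ≫ eqToHom hy)
  exact ⟨φ, IsHomLift.of_fac (p := 𝒳.p) (spMap φ) a hx hy hφ⟩

lemma Li.unique {φ ψ : A →ₐ[Λ] B} {a : x ⟶ y} (h : Li φ a) (h' : Li ψ a) : φ = ψ := by
  apply spMap_injective
  unfold Li at h h'
  rw [IsHomLift.fac 𝒳.p (spMap φ) a, IsHomLift.fac 𝒳.p (spMap ψ) a]

/-- Two arrows lie over the same map if and only if they have the same image in the base. -/
lemma Li.map_eq {φ : A →ₐ[Λ] B} {a b : x ⟶ y} (h : Li φ a) (h' : Li φ b) : 𝒳.p.map a = 𝒳.p.map b := by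
  unfold Li at h h'
  rw [IsHomLift.fac' 𝒳.p (spMap φ) a, IsHomLift.fac' 𝒳.p (spMap φ) b]

lemma Li.of_map_eq {φ : A →ₐ[Λ] B} {a b : x ⟶ y} (h : Li φ a) (e : 𝒳.p.map a = 𝒳.p.map b) : Li φ b := by
  have h1 := h.src
  have h2 := h.tgt
  unfold Li Ov at *
  refine IsHomLift.of_fac' (p := 𝒳.p) (spMap φ) b h1 h2 ?_
  rw [← e]
  exact IsHomLift.fac' 𝒳.p (spMap φ) a

variable [hfg : FibCat.IsFibGrpd 𝒳.p]

/-- Pull-backs exist. -/
lemma Li.exists_lift (hy : Ov A y) (φ : A →ₐ[Λ] B) : ∃ (x : 𝒳.obj) (a : x ⟶ y), Li φ a := by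
  unfold Ov at hy
  have key : ∀ {U : Over (Spec (CommRingCat.of Λ))} (h : 𝒳.p.obj y = U) (f : sp Λ B ⟶ U),
      ∃ (x : 𝒳.obj) (a : x ⟶ y), 𝒳.p.IsHomLift f a := by
    intro U h f
    subst h
    exact hfg.exists_lift f
  exact key hy (spMap φ)

/-- Every arrow is cartesian: existence part. -/
lemma Li.exists_factor {φ : A →ₐ[Λ] C} {ψ : A →ₐ[Λ] B} {a : z ⟶ y} {b : x ⟶ y} (ha : Li φ a) (hb : Li ψ b)
    (χ : B →ₐ[Λ] C) (h : χ.comp ψ = φ) : ∃ c : z ⟶ x, Li χ c ∧ c ≫ b = a := by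
  unfold Li at *
  have hc : 𝒳.p.IsStronglyCartesian (spMap ψ) b := by
    have h1 := hfg.isStronglyCartesian b
    have e := IsHomLift.fac' 𝒳.p (spMap ψ) b
    have hx : 𝒳.p.obj x = sp Λ B := IsHomLift.domain_eq 𝒳.p (spMap ψ) b
    have hy : 𝒳.p.obj y = sp Λ A := IsHomLift.codomain_eq 𝒳.p (spMap ψ) b
    have key : ∀ {U V : Over (Spec (CommRingCat.of Λ))} (hU : 𝒳.p.obj x = U) (hV : 𝒳.p.obj y = V) (f : U ⟶ V),
        𝒳.p.map b = eqToHom hU ≫ f ≫ eqToHom hV.symm → 𝒳.p.IsStronglyCartesian f b := by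
      intro U V hU hV f hf
      subst hU
      subst hV
      simp only [eqToHom_refl, Category.comp_id, Category.id_comp] at hf
      rw [← hf]
      exact h1
    exact key hx hy (spMap ψ) e
  have h2 : spMap φ = spMap χ ≫ spMap ψ := by rw [← h, spMap_comp]
  obtain ⟨c, ⟨hc1, hc2⟩, -⟩ := Functor.IsStronglyCartesian.universal_property (p := 𝒳.p) (f := spMap ψ) (φ := b)
    (spMap χ) (spMap φ) h2 a
  exact ⟨c, hc1, hc2⟩

/-- Every arrow is cartesian: uniqueness part, the two arrows having the same image in the base. -/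
lemma Li.uniq {b : x ⟶ y} {c c' : z ⟶ x} (h : c ≫ b = c' ≫ b) (hm : 𝒳.p.map c = 𝒳.p.map c') : c = c' := by
  have h1 := hfg.isStronglyCartesian b
  have h3 : 𝒳.p.IsHomLift (𝒳.p.map c) c' := by rw [hm]; infer_instance
  exact Functor.IsStronglyCartesian.ext (p := 𝒳.p) (f := 𝒳.p.map b) b (𝒳.p.map c) (ψ := c) (ψ' := c') h

/-- Every arrow is cartesian: uniqueness part. -/
lemma Li.uniq' {χ : B →ₐ[Λ] C} {b : x ⟶ y} {c c' : z ⟶ x} (hc : Li χ c) (hc' : Li χ c')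
    (h : c ≫ b = c' ≫ b) : c = c' := Li.uniq h (hc.map_eq hc')

/-- If `ψ` is surjective there is no condition: arrows to `x` factoring an arrow to `y`. -/
lemma Li.uniq_of_surjective {φ : A →ₐ[Λ] B} (hφ : Function.Surjective φ) {b : x ⟶ y} (hb : Li φ b) {c c' : z ⟶ x}
    (hz : Ov C z) (h : c ≫ b = c' ≫ b) : c = c' := by
  obtain ⟨χ, hχ⟩ := Li.exists hz hb.src c
  obtain ⟨χ', hχ'⟩ := Li.exists hz hb.src c'
  have e : χ = χ' := by
    have h1 := (hb.comp hχ).unique ((h ▸ hb.comp hχ' : Li (χ'.comp φ) (c ≫ b)))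
    apply AlgHom.ext
    intro r
    obtain ⟨s, rfl⟩ := hφ r
    exact DFunLike.congr_fun h1 s
  subst e
  exact Li.uniq' hχ hχ' h

/-- An arrow over an isomorphism is an isomorphism. -/
lemma Li.isIso {φ : A →ₐ[Λ] B} (hφ : Function.Bijective φ) {a : x ⟶ y} (ha : Li φ a) : IsIso a := by
  let e := AlgEquiv.ofBijective φ hφ
  have h1 : e.symm.toAlgHom.comp φ = AlgHom.id Λ A := by
    apply AlgHom.ext
    intro r
    exact e.symm_apply_apply r
  have h2 : φ.comp e.symm.toAlgHom = AlgHom.id Λ B := by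
    apply AlgHom.ext
    intro r
    exact e.apply_symm_apply r
  obtain ⟨b, hb, hba⟩ := Li.exists_factor (Li.id ha.tgt) ha e.symm.toAlgHom h1
  refine ⟨b, ?_, hba⟩
  refine Li.uniq' (χ := AlgHom.id Λ B) (b := a) ?_ (Li.id ha.src) ?_
  · have := hb.comp ha
    rw [h2] at this
    exact this
  · rw [Category.assoc, hba, Category.comp_id, Category.id_comp]

lemma Li.isIso_id {a : x ⟶ y} (ha : Li (AlgHom.id Λ A) a) : IsIso a :=
  ha.isIso Function.bijective_id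

lemma Li.inv' {φ : A →ₐ[Λ] B} (hφ : Function.Bijective φ) {a : x ⟶ y} [IsIso a] (ha : Li φ a) :
    Li (AlgEquiv.ofBijective φ hφ).symm.toAlgHom (CategoryTheory.inv a) := by
  obtain ⟨ψ, hψ⟩ := Li.exists ha.tgt ha.src (CategoryTheory.inv a)
  have h1 : Li (ψ.comp φ) (CategoryTheory.inv a ≫ a) := ha.comp hψ
  rw [IsIso.inv_hom_id] at h1
  have h2 := h1.unique (Li.id ha.tgt)
  have h3 : ψ = (AlgEquiv.ofBijective φ hφ).symm.toAlgHom := by
    apply AlgHom.ext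
    intro r
    obtain ⟨s, rfl⟩ := hφ.2 r
    change ψ (φ s) = (AlgEquiv.ofBijective φ hφ).symm ((AlgEquiv.ofBijective φ hφ) s)
    rw [AlgEquiv.symm_apply_apply]
    exact DFunLike.congr_fun h2 s
  rw [← h3]
  exact hψ

lemma Li.inv_id {a : x ⟶ y} [IsIso a] (ha : Li (AlgHom.id Λ A) a) : Li (AlgHom.id Λ A) (CategoryTheory.inv a) := by
  obtain ⟨ψ, hψ⟩ := Li.exists ha.tgt ha.src (CategoryTheory.inv a)
  have h1 : Li (ψ.comp (AlgHom.id Λ A)) (CategoryTheory.inv a ≫ a) := ha.comp hψ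
  rw [IsIso.inv_hom_id] at h1
  have h2 := h1.unique (Li.id ha.tgt)
  rw [AlgHom.comp_id] at h2
  rw [← h2]
  exact hψ

end Li

end K607.Artin
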