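import Groth.Agent.AlgSp.K607.ArtinCh
import Groth.Agent.AlgSt.K744.ArtD.Main
import Groth.Agent.AlgSp.K145.SmoothRep
import Groth.Agent.AlgSp.K627.ArtinFun

/-!
# Artin's representability theorem (helper607, with helper145, helper744, helper627)

`Λ` is a ring of finite type over `ℤ`.

* `K607.Artin.isAlgStack` (morphisms in `Type (u + 1)`), `K607.Artin.isAlgStack₀` (morphisms in `Type u`): a category
  fibred in groupoids over `(Sch/Spec Λ)` which satisfies `K607.Artin.Axioms` is an algebraic stack.
* `K607.Artin.isAlgSpace`: a sheaf of sets which satisfies `K607.Artin.FAxioms` is an algebraic space.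
-/

set_option autoImplicit false

universe w v u

open CategoryTheory CategoryTheory.Limits AlgebraicGeometry Opposite

namespace K607.Artin

variable {Λ : Type u} [CommRing Λ] [Algebra.FiniteType ℤ Λ]

theorem smChart {𝒳 : BasedCategory.{v, w} (Over (Spec (CommRingCat.of Λ)))} (h : Axioms 𝒳) : K744.ArtD.SmChart 𝒳 :=
  fun hf A _ _ _ ξ hξ he => K145.SmoothChart.smooth_chart Λ 𝒳 h hf A ξ hξ he

/-- **Artin's representability theorem** for stacks (morphisms in `Type (u + 1)`). -/
theorem isAlgStack {𝒳 : BasedCategory.{u + 1, w} (Over (Spec (CommRingCat.of Λ)))} (h : Axioms 𝒳) :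
    AlgSt.IsAlgStack Scheme.fppfPrecoverage 𝒳 := by
  have hfg : FibCat.IsFibGrpd 𝒳.p := h.isStack.1
  exact K744.ArtD.isAlgStack_of_charts Λ 𝒳 h h.evCharts (smChart h)

/-- **Artin's representability theorem** for stacks (morphisms in `Type u`). -/
theorem isAlgStack₀ {𝒳 : BasedCategory.{u, w} (Over (Spec (CommRingCat.of Λ)))} (h : Axioms 𝒳) :
    AlgSt.IsAlgStack Scheme.fppfPrecoverage 𝒳 := by
  have hfg : FibCat.IsFibGrpd 𝒳.p := h.isStack.1
  exact K744.ArtD.isAlgStack₀_of_charts Λ 𝒳 h h.evCharts (smChart h)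

/-- **Artin's representability theorem** for functors. -/
theorem isAlgSpace (F : AlgSp.Sp (Spec (CommRingCat.of Λ))) (h : FAxioms F.obj) : AlgSp.IsAlgSpace F :=
  K627.ArtinFun.isAlgSpace F (fun _ h' => isAlgStack₀ h') h

end K607.Artin
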