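import Groth.Agent.S2793
import Mathlib.AlgebraicGeometry.ResidueField

/-!
# Smoothness at a point by lifting of Artinian points (helper607)
-/

set_option autoImplicit false
set_option linter.unusedSectionVars false

universe u

open CategoryTheory CategoryTheory.Limits AlgebraicGeometry Opposite IsLocalRing

namespace K607.ArtinSm

lemma exists_stalk_of_eq {X : Scheme.{u}} {R : CommRingCat.{u}} [IsLocalRing R] (γ : Spec R ⟶ X) {x : X}
    (h : γ (closedPoint R) = x) : ∃ g : X.presheaf.stalk x ⟶ R, Spec.map g ≫ X.fromSpecStalk x = γ := by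
  subst h
  exact ⟨Scheme.stalkClosedPointTo γ, Scheme.Spec_stalkClosedPointTo_fromSpecStalk _⟩

lemma surjective_of_eq {A k : Type u} [CommRing A] [Field k] (γ₀ : A →+* k) (hγ₀ : Function.Surjective γ₀)
    (f : Spec (.of k) ⟶ Spec (.of A)) (hf : f = Spec.map (CommRingCat.ofHom γ₀)) :
    Function.Surjective (Scheme.stalkClosedPointTo f) := by
  subst hf
  have h := Scheme.germ_stalkClosedPointTo_Spec (CommRingCat.ofHom γ₀)
  intro c
  obtain ⟨a, ha⟩ := hγ₀ c
  refine ⟨(Spec (.of A)).presheaf.germ ⊤ _ trivial ((Scheme.ΓSpecIso (.of A)).inv a), ?_⟩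
  have h1 := ConcreteCategory.congr_hom h ((Scheme.ΓSpecIso (.of A)).inv a)
  rw [CommRingCat.comp_apply, CommRingCat.comp_apply] at h1
  refine h1.trans ?_
  rw [← CommRingCat.comp_apply (Scheme.ΓSpecIso (.of A)).inv, Iso.inv_hom_id]
  exact ha

lemma surjective_stalk {X : Scheme.{u}} {A k : Type u} [CommRing A] [Field k] (xb : Spec (.of k) ⟶ X)
    (p : X ⟶ Spec (.of A)) (γ₀ : A →+* k) (hγ₀ : Function.Surjective γ₀)
    (h : xb ≫ p = Spec.map (CommRingCat.ofHom γ₀)) : Function.Surjective (Scheme.stalkClosedPointTo xb) := by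
  have h1 := surjective_of_eq γ₀ hγ₀ _ h
  rw [Scheme.stalkClosedPointTo_comp] at h1
  intro c
  obtain ⟨s, hs⟩ := h1 c
  exact ⟨p.stalkMap _ s, hs⟩

/-- Smoothness at the image of a point `xb : Spec k ⟶ X`, `Spec k ⟶ Spec A` being closed immersion. -/
theorem smooth_at {X Y : Scheme.{u}} (f : X ⟶ Y) [LocallyOfFiniteType f] [IsLocallyNoetherian Y]
    {A k : Type u} [CommRing A] [Field k] (xb : Spec (.of k) ⟶ X)
    (p : X ⟶ Spec (.of A)) (γ₀ : A →+* k) (hγ₀ : Function.Surjective γ₀)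
    (hp : xb ≫ p = Spec.map (CommRingCat.ofHom γ₀))
    (h : ∀ (A' : Type u) [CommRing A'] [IsLocalRing A'] [IsArtinianRing A'] (I : Ideal A') (_ : I ≠ ⊤)
      (_ : I * maximalIdeal A' = ⊥) (ρ : A' ⧸ I →+* k) (_ : Function.Surjective ρ)
      (α : Spec (.of (A' ⧸ I)) ⟶ X) (β : Spec (.of A') ⟶ Y),
      Spec.map (CommRingCat.ofHom (Ideal.Quotient.mk I)) ≫ β = α ≫ f → Spec.map (CommRingCat.ofHom ρ) ≫ α = xb →
        ∃ γ : Spec (.of A') ⟶ X, Spec.map (CommRingCat.ofHom (Ideal.Quotient.mk I)) ≫ γ = α ∧ γ ≫ f = β) :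
    ∃ U : X.Opens, xb (closedPoint k) ∈ U ∧ Smooth (U.ι ≫ f) := by
  rw [Groth.Agent.S2793.result]
  intro A' _ _ _ h' hh' I hI hIm g₀ hg₀ hg₀m hg₀s
  have hk := surjective_stalk xb p γ₀ hγ₀ hp
  have hnt : Nontrivial (A' ⧸ I) := Ideal.Quotient.nontrivial_iff.2 hI
  have hlr : IsLocalRing (A' ⧸ I) := IsLocalRing.of_surjective' (Ideal.Quotient.mk I) Ideal.Quotient.mk_surjective
  have hmle : (maximalIdeal A').map (Ideal.Quotient.mk I) ≤ maximalIdeal (A' ⧸ I) := by
    rw [Ideal.map_le_iff_le_comap]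
    intro a ha
    rw [Ideal.mem_comap, mem_maximalIdeal, mem_nonunits_iff]
    intro hu
    obtain ⟨b, hb⟩ := hu.exists_right_inv
    obtain ⟨b, rfl⟩ := Ideal.Quotient.mk_surjective b
    rw [← map_mul, ← map_one (Ideal.Quotient.mk I), Ideal.Quotient.eq] at hb
    have h1 : a * b - 1 ∈ maximalIdeal A' := IsLocalRing.le_maximalIdeal hI hb
    have h2 : (1 : A') ∈ maximalIdeal A' := by
      have := (maximalIdeal A').sub_mem (Ideal.mul_mem_right b _ ha) h1
      rwa [sub_sub_cancel] at this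
    exact (maximalIdeal.isMaximal A').ne_top ((Ideal.eq_top_iff_one _).2 h2)
  let sk : X.presheaf.stalk (xb (closedPoint k)) →+* k := (Scheme.stalkClosedPointTo xb).hom
  have hskl : IsLocalHom sk := inferInstanceAs (IsLocalHom (Scheme.stalkClosedPointTo xb).hom)
  let κ : A' ⧸ I →+* ResidueField (A' ⧸ I) := residue (A' ⧸ I)
  have hκs : Function.Surjective (κ.comp g₀) := by
    intro c
    obtain ⟨a, rfl⟩ := residue_surjective c
    obtain ⟨a, rfl⟩ := Ideal.Quotient.mk_surjective a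
    obtain ⟨b, hb⟩ := hg₀s a
    refine ⟨b, ?_⟩
    have h1 := hmle hb
    rw [← residue_eq_zero_iff, map_sub, sub_eq_zero] at h1
    exact h1
  have hker : RingHom.ker (κ.comp g₀) ≤ RingHom.ker sk := by
    intro b hb
    by_contra hb'
    have hu : IsUnit b := by
      by_contra hu
      have h1 : b ∈ maximalIdeal (X.presheaf.stalk (xb (closedPoint k))) := hu
      have h2 : sk b ≠ 0 := hb'
      exact hu (hskl.map_nonunit b (isUnit_iff_ne_zero.2 h2))
    have h3 : κ (g₀ b) = 0 := hb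
    have h4 : IsUnit (κ (g₀ b)) := (hu.map g₀).map κ
    rw [h3] at h4
    exact not_isUnit_zero h4
  let lam : ResidueField (A' ⧸ I) →+* k :=
    RingHom.liftOfRightInverse (κ.comp g₀) (Function.surjInv hκs) (Function.rightInverse_surjInv hκs) ⟨sk, hker⟩
  have hlam : lam.comp (κ.comp g₀) = sk := RingHom.liftOfRightInverse_comp _ _ _ _
  let ρ : A' ⧸ I →+* k := lam.comp κ
  have hρ : ρ.comp g₀ = sk := hlam
  have hρs : Function.Surjective ρ := fun c => by
    obtain ⟨s, hs⟩ := hk c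
    refine ⟨g₀ s, ?_⟩
    rw [← hs]
    exact DFunLike.congr_fun hρ s
  let x := xb (closedPoint k)
  have h1 : Spec.map (CommRingCat.ofHom ρ) ≫ Spec.map (CommRingCat.ofHom g₀) ≫ X.fromSpecStalk x = xb := by
    rw [← Category.assoc, ← Spec.map_comp, ← CommRingCat.ofHom_comp, hρ]
    exact Scheme.Spec_stalkClosedPointTo_fromSpecStalk xb
  have h2 : Spec.map (CommRingCat.ofHom (Ideal.Quotient.mk I)) ≫ Spec.map (CommRingCat.ofHom h') ≫
      Y.fromSpecStalk (f x) = (Spec.map (CommRingCat.ofHom g₀) ≫ X.fromSpecStalk x) ≫ f := by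
    rw [← Category.assoc, ← Spec.map_comp, ← CommRingCat.ofHom_comp, ← hg₀, CommRingCat.ofHom_comp, Spec.map_comp,
      Category.assoc, Category.assoc, CommRingCat.ofHom_hom, Scheme.SpecMap_stalkMap_fromSpecStalk]
  obtain ⟨γ, hγ1, hγ2⟩ := h A' I hI hIm ρ hρs _ _ h2 h1
  have hmkl : IsLocalHom (CommRingCat.ofHom (Ideal.Quotient.mk I)).hom :=
    IsLocalHom.of_surjective (Ideal.Quotient.mk I) Ideal.Quotient.mk_surjective
  have hg₀l : IsLocalHom (CommRingCat.ofHom g₀).hom := by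
    refine ⟨fun b hb => ?_⟩
    by_contra hu
    have h1 : g₀ b ∈ maximalIdeal (A' ⧸ I) := hmle (hg₀m b hu)
    exact h1 hb
  have hγx : γ (closedPoint A') = x := by
    have h3 : (Spec.map (CommRingCat.ofHom (Ideal.Quotient.mk I)) ≫ γ) (closedPoint (A' ⧸ I)) =
      (Spec.map (CommRingCat.ofHom g₀) ≫ X.fromSpecStalk x) (closedPoint (A' ⧸ I)) := by rw [hγ1]
    rw [Scheme.Hom.comp_apply, Scheme.Hom.comp_apply] at h3
    have h4 : (Spec.map (CommRingCat.ofHom (Ideal.Quotient.mk I))) (closedPoint (A' ⧸ I)) = closedPoint A' :=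
      Spec_closedPoint
    have h5 : (Spec.map (CommRingCat.ofHom g₀)) (closedPoint (A' ⧸ I)) = closedPoint (X.presheaf.stalk x) :=
      Spec_closedPoint
    rw [h4, h5, Scheme.fromSpecStalk_closedPoint] at h3
    exact h3
  obtain ⟨g, hg⟩ := exists_stalk_of_eq (R := CommRingCat.of A') γ hγx
  have e1 : g ≫ CommRingCat.ofHom (Ideal.Quotient.mk I) = CommRingCat.ofHom g₀ := by
    apply Spec.map_injective
    rw [Spec.map_comp, ← cancel_mono (X.fromSpecStalk x), Category.assoc, hg, hγ1]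
  have e2 : f.stalkMap x ≫ g = CommRingCat.ofHom h' := by
    apply Spec.map_injective
    rw [Spec.map_comp, ← cancel_mono (Y.fromSpecStalk (f x)), Category.assoc, Scheme.SpecMap_stalkMap_fromSpecStalk,
      ← Category.assoc, hg, hγ2]
  exact ⟨g.hom, congrArg CommRingCat.Hom.hom e2, congrArg CommRingCat.Hom.hom e1⟩

end K607.ArtinSm
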