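import Groth.Agent.AlgSp.K607.ArtinVers
import Groth.Agent.AlgSp.K607.ArtinGen
import Groth.Agent.AlgSp.K607.ArtinSm

/-!
# Versality implies smoothness at the point of the projections from products (helper607)
-/

set_option autoImplicit false
set_option linter.unusedSectionVars false

universe w v u

open CategoryTheory CategoryTheory.Limits AlgebraicGeometry Opposite
open ArtFun ArtFun.Art K724.Basic

namespace K607.Artin

variable {Λ : Type u} [CommRing Λ] {𝒳 : BasedCategory.{v, w} (Over (Spec (CommRingCat.of Λ)))}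
variable {k : Type u} [Field k] [Algebra Λ k] [hfg : FibCat.IsFibGrpd 𝒳.p]

/-- The projection `V = ξ × y ⟶ y` is smooth at the points over which `ξ` is versal. -/
theorem smooth_at_versal [IsNoetherianRing Λ] {A : Type u} [CommRing A] [Algebra Λ A] {γ : A →ₐ[Λ] k}
    (hγ : Function.Surjective γ) {x₀ ξ : 𝒳.obj} {i : x₀ ⟶ ξ} (hi : Li γ i) (hv : Vers k i)
    {C : Type u} [CommRing C] [Algebra Λ C] [Algebra.FiniteType Λ C] {y V : 𝒳.obj} (hy : Ov C y)
    (p : V ⟶ ξ) (q : V ⟶ y) (hV : ∀ (z : 𝒳.obj) (a : z ⟶ ξ) (b : z ⟶ y), ∃! c : z ⟶ V, c ≫ p = a ∧ c ≫ q = b)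
    {P : Over (Spec (CommRingCat.of Λ))} (fp : P ⟶ sp Λ A) (fq : P ⟶ sp Λ C) (hfp : 𝒳.p.IsHomLift fp p)
    (hfq : 𝒳.p.IsHomLift fq q) [LocallyOfFiniteType fq.left] (s : x₀ ⟶ V) (hs : s ≫ p = i) (sb : sp Λ k ⟶ P)
    (hsb : 𝒳.p.IsHomLift sb s) :
    ∃ O : P.left.Opens, sb.left (IsLocalRing.closedPoint k) ∈ O ∧ Smooth (O.ι ≫ fq.left) := by
  have hCn : IsNoetherianRing C := Algebra.FiniteType.isNoetherianRing Λ C
  have hP : 𝒳.p.obj V = P := Gen.src hfp
  have hbase : sb.left ≫ fp.left = Spec.map (CommRingCat.ofHom γ.toRingHom) := by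
    have h1 : 𝒳.p.IsHomLift (sb ≫ fp) (s ≫ p) := Gen.comp hsb hfp
    rw [hs] at h1
    have h2 : sb ≫ fp = spMap γ := Gen.unique h1 hi
    exact congrArg CommaMorphism.left h2
  refine ArtinSm.smooth_at (X := P.left) (Y := Spec (.of C)) fq.left sb.left fp.left γ.toRingHom hγ hbase ?_
  intro A' _ _ _ I hI hIm ρ hρ α β h1 h2
  have hnt : Nontrivial (A' ⧸ I) := Ideal.Quotient.nontrivial_iff.2 hI
  have hlr : IsLocalRing (A' ⧸ I) := IsLocalRing.of_surjective' (Ideal.Quotient.mk I) Ideal.Quotient.mk_surjective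
  have har : IsArtinianRing (A' ⧸ I) := inferInstance
  obtain ⟨ψ, rfl⟩ := Spec.map_surjective β
  let _ : Algebra Λ A' := (ψ.hom.comp (algebraMap Λ C)).toAlgebra
  let βA : C →ₐ[Λ] A' := { ψ.hom with commutes' := fun _ => rfl }
  have hβA : Spec.map (CommRingCat.ofHom βA.toRingHom) = Spec.map ψ := rfl
  have hwα : α ≫ P.hom = Spec.map (CommRingCat.ofHom (algebraMap Λ (A' ⧸ I))) := by
    have h3 : fq.left ≫ Spec.map (CommRingCat.ofHom (algebraMap Λ C)) = P.hom := Over.w fq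
    rw [← h3, ← Category.assoc, ← h1, Category.assoc, ← Spec.map_comp, ← Spec.map_comp]
    rfl
  let αO : sp Λ (A' ⧸ I) ⟶ P := Over.homMk α hwα
  have hρc : ∀ r : Λ, ρ (algebraMap Λ (A' ⧸ I) r) = algebraMap Λ k r := by
    have h3 : sb.left ≫ P.hom = Spec.map (CommRingCat.ofHom (algebraMap Λ k)) := Over.w sb
    rw [← h2, Category.assoc, hwα, ← Spec.map_comp] at h3
    have h4 := Spec.map_injective h3
    intro r
    exact ConcreteCategory.congr_hom h4 r
  let ρA : (A' ⧸ I) →ₐ[Λ] k := { ρ with commutes' := hρc }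
  let Bo : Art Λ k := { carrier := A' ⧸ I, res := ρA, res_surjective := hρ }
  let Co : Art Λ k :=
    { carrier := A', res := ρA.comp (Ideal.Quotient.mkₐ Λ I),
      res_surjective := hρ.comp Ideal.Quotient.mk_surjective }
  let μ : Co ⟶ Bo := ⟨Ideal.Quotient.mkₐ Λ I, rfl⟩
  -- the objects
  obtain ⟨z, az, haz⟩ := Gen.ex_lift hP αO
  obtain ⟨x', q', hq'⟩ := Li.exists_lift hy βA
  have hsq : αO ≫ fq = spMap (Ideal.Quotient.mkₐ Λ I) ≫ spMap βA := by
    apply Over.OverMorphism.ext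
    exact h1.symm
  have hq'' : 𝒳.p.IsHomLift (spMap βA) q' := hq'
  obtain ⟨b, hb, hbq⟩ := Gen.ex_factor (Gen.comp haz hfq) hq'' (spMap (Ideal.Quotient.mkₐ Λ I)) hsq.symm
  have hρα : spMap ρA ≫ αO = sb := by
    apply Over.OverMorphism.ext
    exact h2
  obtain ⟨j, hj, hjaz⟩ := Gen.ex_factor hsb haz (spMap ρA) hρα
  obtain ⟨a', ha'⟩ := hv μ Ideal.Quotient.mk_surjective j b (az ≫ p) hj hb (by rw [← Category.assoc, hjaz, hs])
  obtain ⟨c, ⟨hcp, hcq⟩, -⟩ := hV x' a' q'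
  obtain ⟨γO, hγO⟩ := Gen.exists_base (Gen.src hq'') hP c
  have hbc : b ≫ c = az := by
    obtain ⟨c₀, -, hc₀⟩ := hV z (az ≫ p) (az ≫ q)
    rw [hc₀ az ⟨rfl, rfl⟩]
    exact hc₀ _ ⟨by rw [Category.assoc, hcp, ha'], by rw [Category.assoc, hcq, hbq]⟩
  have e1 : spMap (Ideal.Quotient.mkₐ Λ I) ≫ γO = αO := by
    have h3 := Gen.comp hb hγO
    rw [hbc] at h3
    exact Gen.unique h3 haz
  have e2 : γO ≫ fq = spMap βA := by
    have h3 := Gen.comp hγO hfq
    rw [hcq] at h3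
    exact Gen.unique h3 hq''
  exact ⟨γO.left, congrArg CommaMorphism.left e1, congrArg CommaMorphism.left e2⟩

end K607.Artin
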