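import Mathlib.AlgebraicGeometry.Morphisms.Smooth
import Mathlib.AlgebraicGeometry.ResidueField

/-!
# Lifting of local points into smooth schemes (helper607)
-/

set_option autoImplicit false
set_option linter.unusedSectionVars false

universe u

open CategoryTheory CategoryTheory.Limits AlgebraicGeometry Opposite IsLocalRing

namespace K607.ArtinSm

theorem exists_map_fromSpec {X : Scheme.{u}} {U : X.Opens} (hU : IsAffineOpen U) {R : CommRingCat.{u}}
    (a : Spec R ⟶ X) (h : a ⁻¹ᵁ U = ⊤) : ∃ φ : Γ(X, U) ⟶ R, Spec.map φ ≫ hU.fromSpec = a := by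
  refine ⟨Spec.preimage (IsOpenImmersion.lift hU.fromSpec a ?_), ?_⟩
  · rw [hU.range_fromSpec]
    rintro _ ⟨x, rfl⟩
    have : x ∈ a ⁻¹ᵁ U := h ▸ trivial
    exact this
  · rw [Spec.map_preimage, IsOpenImmersion.lift_fac]

/-- Lifting along surjections of local rings with nilpotent kernel. -/
theorem exists_lift_local {U Y : Scheme.{u}} (g : U ⟶ Y) [Smooth g] {B B' : Type u} [CommRing B] [CommRing B']
    [IsLocalRing B] [IsLocalRing B'] (μ : B' →+* B) (hμ : Function.Surjective μ) (hn : IsNilpotent (RingHom.ker μ))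
    (α : Spec (.of B) ⟶ U) (β : Spec (.of B') ⟶ Y) (h : Spec.map (CommRingCat.ofHom μ) ≫ β = α ≫ g) :
    ∃ γ : Spec (.of B') ⟶ U, Spec.map (CommRingCat.ofHom μ) ≫ γ = α ∧ γ ≫ g = β := by
  have hμl : IsLocalHom (CommRingCat.ofHom μ).hom := IsLocalHom.of_surjective μ hμ
  obtain ⟨_, ⟨Y₀, hY₀, rfl⟩, hyY, -⟩ := Y.isBasis_affineOpens.exists_subset_of_mem_open
    (Set.mem_univ (g (α (closedPoint B)))) isOpen_univ
  obtain ⟨_, ⟨U₀, hU₀, rfl⟩, huU, hUY⟩ := U.isBasis_affineOpens.exists_subset_of_mem_open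
    (show α (closedPoint B) ∈ (g ⁻¹ᵁ Y₀ : Set U) from hyY) (g ⁻¹ᵁ Y₀).isOpen
  have hβ : β (closedPoint B') = g (α (closedPoint B)) := by
    have h1 : (Spec.map (CommRingCat.ofHom μ) ≫ β) (closedPoint B) = (α ≫ g) (closedPoint B) := by rw [h]
    rw [Scheme.Hom.comp_apply, Scheme.Hom.comp_apply] at h1
    have h4 : (Spec.map (CommRingCat.ofHom μ)) (closedPoint B) = closedPoint B' := Spec_closedPoint
    rwa [h4] at h1
  obtain ⟨φ, hφ⟩ := exists_map_fromSpec hU₀ α (Scheme.preimage_eq_top_of_closedPoint_mem (R := CommRingCat.of B) α huU)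
  obtain ⟨ψ, hψ⟩ := exists_map_fromSpec hY₀ β (Scheme.preimage_eq_top_of_closedPoint_mem (R := CommRingCat.of B') β
    (by rw [hβ]; exact hyY))
  have e : U₀ ≤ g ⁻¹ᵁ Y₀ := hUY
  have hsm := Smooth.smooth_appLE g hY₀ hU₀ e
  have hcomp : ψ ≫ CommRingCat.ofHom μ = g.appLE Y₀ U₀ e ≫ φ := by
    apply Spec.map_injective
    rw [← cancel_mono hY₀.fromSpec, Spec.map_comp, Spec.map_comp, Category.assoc, Category.assoc, hψ, h,
      IsAffineOpen.SpecMap_appLE_fromSpec g hY₀ hU₀ e, ← Category.assoc, hφ]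
  let _ : Algebra Γ(Y, Y₀) Γ(U, U₀) := (g.appLE Y₀ U₀ e).hom.toAlgebra
  let _ : Algebra Γ(Y, Y₀) B' := ψ.hom.toAlgebra
  let _ : Algebra Γ(Y, Y₀) B := (μ.comp ψ.hom).toAlgebra
  have hsm' : Algebra.Smooth Γ(Y, Y₀) Γ(U, U₀) := hsm
  let μA : B' →ₐ[Γ(Y, Y₀)] B := { μ with commutes' := fun _ => rfl }
  let φA : Γ(U, U₀) →ₐ[Γ(Y, Y₀)] B := { φ.hom with
    commutes' := fun r => (ConcreteCategory.congr_hom hcomp r).symm }
  let lam : Γ(U, U₀) →ₐ[Γ(Y, Y₀)] B' := Algebra.FormallySmooth.liftOfSurjective φA μA hμ hn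
  have hlam : ∀ x, μ (lam x) = φ x := fun x => Algebra.FormallySmooth.liftOfSurjective_apply φA μA hμ hn x
  refine ⟨Spec.map (CommRingCat.ofHom lam.toRingHom) ≫ hU₀.fromSpec, ?_, ?_⟩
  · rw [← Category.assoc, ← Spec.map_comp, ← hφ]
    congr 2
    ext x
    exact hlam x
  · rw [Category.assoc, ← IsAffineOpen.SpecMap_appLE_fromSpec g hY₀ hU₀ e, ← Category.assoc, ← Spec.map_comp, ← hψ]
    congr 2
    ext x
    exact lam.commutes x

/-- The same for a morphism which is smooth on an open subset. -/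
theorem exists_lift_open {X Y : Scheme.{u}} (f : X ⟶ Y) (O : X.Opens) [Smooth (O.ι ≫ f)] {B B' : Type u} [CommRing B]
    [CommRing B'] [IsLocalRing B] [IsLocalRing B'] (μ : B' →+* B) (hμ : Function.Surjective μ)
    (hn : IsNilpotent (RingHom.ker μ)) (α : Spec (.of B) ⟶ X) (hα : α (closedPoint B) ∈ O) (β : Spec (.of B') ⟶ Y)
    (h : Spec.map (CommRingCat.ofHom μ) ≫ β = α ≫ f) :
    ∃ γ : Spec (.of B') ⟶ X, Spec.map (CommRingCat.ofHom μ) ≫ γ = α ∧ γ ≫ f = β := by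
  have h1 : α ⁻¹ᵁ O = ⊤ := Scheme.preimage_eq_top_of_closedPoint_mem (R := CommRingCat.of B) α hα
  have h2 : Set.range α ⊆ Set.range O.ι := by
    rw [Scheme.Opens.range_ι]
    rintro _ ⟨x, rfl⟩
    have : x ∈ α ⁻¹ᵁ O := h1 ▸ trivial
    exact this
  obtain ⟨γ, hγ1, hγ2⟩ := exists_lift_local (O.ι ≫ f) μ hμ hn (IsOpenImmersion.lift O.ι α h2) β (by
    rw [← Category.assoc, IsOpenImmersion.lift_fac, h])
  exact ⟨γ ≫ O.ι, by rw [← Category.assoc, hγ1, IsOpenImmersion.lift_fac], by rw [Category.assoc, hγ2]⟩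

end K607.ArtinSm
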