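import Groth.Agent.AlgSp.K607.ArtinLi

/-!
# The tower of iterated fibre products (helper607)

Given countably many infinitesimal test problems `(a : z ⟶ ξ, b : z ⟶ x')` for an object `ξ` over the `Λ`-algebra `A`,
there is an object `y` over a `Λ`-algebra of finite type and an arrow `s : ξ ⟶ y` such that `a ≫ θ ≫ s` extends
along `b`, for an automorphism `θ` of `ξ` depending on the test problem.
-/

set_option autoImplicit false
set_option linter.unusedSectionVars false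

universe w v u

open CategoryTheory CategoryTheory.Limits AlgebraicGeometry Opposite

namespace K607.Artin

section Fib

variable {Λ : Type u} [CommRing Λ] {R B B' : Type u} [CommRing R] [CommRing B] [CommRing B'] [Algebra Λ R]
  [Algebra Λ B] [Algebra Λ B'] (f : R →ₐ[Λ] B) (g : B' →ₐ[Λ] B)

/-- The fibre product of algebras. -/
def fibAlg : Subalgebra Λ (R × B') :=
  AlgHom.equalizer (f.comp (AlgHom.fst Λ R B')) (g.comp (AlgHom.snd Λ R B'))

/-- first projection -/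
def fibFst : fibAlg f g →ₐ[Λ] R := (AlgHom.fst Λ R B').comp (fibAlg f g).val

/-- second projection -/
def fibSnd : fibAlg f g →ₐ[Λ] B' := (AlgHom.snd Λ R B').comp (fibAlg f g).val

lemma isFib_fibAlg : IsFib f g (fibFst f g) (fibSnd f g) where
  w := AlgHom.ext fun x => x.2
  inj := fun _ _ h1 h2 => Subtype.ext (Prod.ext h1 h2)
  surj := fun a b h => ⟨⟨(a, b), h⟩, rfl, rfl⟩

lemma fibFst_surjective (hg : Function.Surjective g) : Function.Surjective (fibFst f g) := fun r => by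
  obtain ⟨b, hb⟩ := hg (f r)
  exact ⟨⟨(r, b), hb.symm⟩, rfl⟩

lemma isNilpotent_fibFst (hg : ∀ b ∈ RingHom.ker g, IsNilpotent b) (x : fibAlg f g)
    (hx : x ∈ RingHom.ker (fibFst f g)) : IsNilpotent x := by
  have h1 : fibFst f g x = 0 := hx
  have h2 : g (fibSnd f g x) = 0 := by
    have h3 : f (fibFst f g x) = g (fibSnd f g x) := DFunLike.congr_fun (isFib_fibAlg f g).w x
    rw [← h3, h1, map_zero]
  obtain ⟨n, hn⟩ := hg _ h2
  refine ⟨n + 1, (isFib_fibAlg f g).inj _ _ ?_ ?_⟩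
  · rw [map_pow, h1, map_zero, pow_succ, mul_zero]
  · rw [map_pow, map_zero, pow_succ, hn, zero_mul]

end Fib

section Lim

variable {Λ : Type u} [CommRing Λ] (R : ℕ → Type u) [∀ n, CommRing (R n)] [∀ n, Algebra Λ (R n)]
  (t : ∀ n, R (n + 1) →ₐ[Λ] R n)

/-- The inverse limit of a sequence of algebras. -/
def invLim : Subalgebra Λ (∀ n, R n) where
  carrier := {x | ∀ n, t n (x (n + 1)) = x n}
  mul_mem' := by
    intro a b ha hb n
    rw [Pi.mul_apply, Pi.mul_apply, map_mul, ha n, hb n]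
  add_mem' := by
    intro a b ha hb n
    rw [Pi.add_apply, Pi.add_apply, map_add, ha n, hb n]
  algebraMap_mem' := by
    intro c n
    rw [Pi.algebraMap_apply, Pi.algebraMap_apply, AlgHom.commutes]

/-- projections -/
def invPr (n : ℕ) : invLim R t →ₐ[Λ] R n := (Pi.evalAlgHom Λ R n).comp (invLim R t).val

lemma isRingLimit_invLim :
    FlatCA.IsRingLimit (invLim R t) R (fun n => (t n).toRingHom) (fun n => (invPr R t n).toRingHom) := by
  refine ⟨fun n => RingHom.ext fun x => x.2 n, fun a b h => Subtype.ext (funext h), fun x hx => ⟨⟨x, hx⟩, fun n => rfl⟩⟩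

lemma comp_invPr (n : ℕ) : (t n).comp (invPr R t (n + 1)) = invPr R t n := AlgHom.ext fun x => x.2 n

end Lim

section Tower

variable {Λ : Type u} [CommRing Λ] {𝒳 : BasedCategory.{v, w} (Over (Spec (CommRingCat.of Λ)))}

/-- An infinitesimal test problem for `ξ`. -/
structure Test {A : Type u} [CommRing A] [Algebra Λ A] {ξ : 𝒳.obj} (hξ : Ov A ξ) where
  B : Type u
  B' : Type u
  [rB : CommRing B]
  [rB' : CommRing B']
  [aB : Algebra Λ B]
  [aB' : Algebra Λ B']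
  μ : B' →ₐ[Λ] B
  hμ : Function.Surjective μ
  hnil : IsNilpotent (RingHom.ker μ)
  z : 𝒳.obj
  x' : 𝒳.obj
  b : z ⟶ x'
  a : z ⟶ ξ
  φ : A →ₐ[Λ] B
  hb : Li μ b
  ha : Li φ a

attribute [instance] Test.rB Test.rB' Test.aB Test.aB'

variable {A : Type u} [CommRing A] [Algebra Λ A] {ξ : 𝒳.obj} (hξ : Ov A ξ)

/-- A stage of the tower. -/
structure Stage where
  R : Type u
  [rR : CommRing R]
  [aR : Algebra Λ R]
  ρ : R →ₐ[Λ] A
  obj : 𝒳.obj
  e : ξ ⟶ obj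
  he : Li ρ e

attribute [instance] Stage.rR Stage.aR

lemma exists_next (hrs : RSobj 𝒳) (D : Test hξ) (T : Stage (ξ := ξ) (A := A) (Λ := Λ)) :
    ∃ (T' : Stage (ξ := ξ) (A := A) (Λ := Λ)) (t : T'.R →ₐ[Λ] T.R) (s : T.obj ⟶ T'.obj) (d : D.x' ⟶ T'.obj),
      Function.Surjective t ∧ (∀ r ∈ RingHom.ker t, IsNilpotent r) ∧ Li t s ∧ T'.ρ = T.ρ.comp t ∧
        T'.e = T.e ≫ s ∧ D.a ≫ T.e ≫ s = D.b ≫ d := by
  obtain ⟨w, c, d, hc, hd, hcd⟩ := hrs (D.φ.comp T.ρ) D.μ (fibFst (D.φ.comp T.ρ) D.μ) (fibSnd (D.φ.comp T.ρ) D.μ)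
    (isFib_fibAlg _ _) D.hμ D.hnil (D.a ≫ T.e) D.b (T.he.comp D.ha) D.hb
  refine ⟨⟨fibAlg (D.φ.comp T.ρ) D.μ, T.ρ.comp (fibFst (D.φ.comp T.ρ) D.μ), w, T.e ≫ c, ?_⟩, fibFst _ _, c, d,
    fibFst_surjective _ _ D.hμ, ?_, hc, rfl, rfl, ?_⟩
  · exact Li.comp (φ := fibFst (D.φ.comp T.ρ) D.μ) hc T.he
  · refine isNilpotent_fibFst _ _ fun b hb => ?_
    obtain ⟨n, hn⟩ := D.hnil
    refine ⟨n, ?_⟩
    have h1 : b ^ n ∈ RingHom.ker D.μ ^ n := Ideal.pow_mem_pow hb n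
    rw [hn] at h1
    exact h1
  · rw [← Category.assoc]
    exact hcd

lemma exists_stages (hrs : RSobj 𝒳) (D : ℕ → Test hξ) :
    ∃ (T : ℕ → Stage (ξ := ξ) (A := A) (Λ := Λ)) (t : ∀ n, (T (n + 1)).R →ₐ[Λ] (T n).R)
      (s : ∀ n, (T n).obj ⟶ (T (n + 1)).obj) (d : ∀ n, (D n).x' ⟶ (T (n + 1)).obj),
      (∀ n, Function.Surjective (t n)) ∧ (∀ n, ∀ r ∈ RingHom.ker (t n), IsNilpotent r) ∧ (∀ n, Li (t n) (s n)) ∧
        (∀ n, (T (n + 1)).ρ = (T n).ρ.comp (t n)) ∧ (∀ n, (T (n + 1)).e = (T n).e ≫ s n) ∧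
        ∀ n, (D n).a ≫ (T n).e ≫ s n = (D n).b ≫ d n := by
  choose nx t s d ht htn hs hρ he hd using fun (n : ℕ) => exists_next hξ hrs (D n)
  let T : ℕ → Stage (ξ := ξ) (A := A) (Λ := Λ) := fun n =>
    Nat.rec ⟨A, AlgHom.id Λ A, ξ, 𝟙 ξ, Li.id hξ⟩ (fun n T => nx n T) n
  exact ⟨T, fun n => t n (T n), fun n => s n (T n), fun n => d n (T n), fun n => ht n (T n), fun n => htn n (T n),
    fun n => hs n (T n), fun n => hρ n (T n), fun n => he n (T n), fun n => hd n (T n)⟩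

variable [hfg : FibCat.IsFibGrpd 𝒳.p]

/-- **The output of the tower.** -/
theorem exists_tower (hlp : LP 𝒳) (hse : SE 𝒳) (hrs : RSobj 𝒳) (D : ℕ → Test hξ) :
    ∃ (C : Type u) (_ : CommRing C) (_ : Algebra Λ C) (_ : Algebra.FiniteType Λ C) (y : 𝒳.obj) (s : ξ ⟶ y),
      Ov C y ∧ ∀ n, ∃ (d : (D n).x' ⟶ y) (θ : ξ ⟶ ξ), Li (AlgHom.id Λ A) θ ∧ (D n).b ≫ d = (D n).a ≫ θ ≫ s := by
  obtain ⟨T, t, s, d, ht, htn, hs, hρ, he, hd⟩ := exists_stages hξ hrs D
  obtain ⟨x', hx'⟩ := hse (fun n => (T n).R) t ht htn (invLim (fun n => (T n).R) t) (invPr (fun n => (T n).R) t)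
    (isRingLimit_invLim (fun n => (T n).R) t) (fun n => (T n).obj) s hs
  choose c hc' using hx'
  have hc : ∀ n, Li (invPr (fun n => (T n).R) t n) (c n) := hc'
  obtain ⟨C, _, _, _, φ, y, m, hm'⟩ := hlp _ x' (Li.tgt (hc 0))
  have hm : Li φ m := hm'
  have hρ' : ∀ n, (T n).ρ.comp (invPr (fun n => (T n).R) t n) = (T 0).ρ.comp (invPr (fun n => (T n).R) t 0) := by
    intro n
    induction n with
    | zero => rfl
    | succ n ih => rw [← ih, ← comp_invPr (fun n => (T n).R) t n, ← AlgHom.comp_assoc, hρ n]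
  have hLi : ∀ n, Li (((T 0).ρ.comp (invPr (fun n => (T n).R) t 0)).comp φ) (((T n).e ≫ c n) ≫ m) := by
    intro n
    rw [← hρ' n]
    exact hm.comp ((hc n).comp (T n).he)
  refine ⟨C, inferInstance, inferInstance, inferInstance, y, ((T 0).e ≫ c 0) ≫ m, hm.tgt, fun n => ?_⟩
  obtain ⟨θ, hθ, hθe⟩ := Li.exists_factor (hLi (n + 1)) (hLi 0) (AlgHom.id Λ A) (AlgHom.id_comp _)
  refine ⟨(d n ≫ c (n + 1)) ≫ m, θ, hθ, ?_⟩
  have h1 := hd n
  rw [hθe, he n, ← Category.assoc, ← Category.assoc, ← h1]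
  simp only [Category.assoc]

end Tower

end K607.Artin
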