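import Groth.Agent.AlgSp.K607.ArtinOpen
import Groth.Agent.AlgSp.K607.ArtinTower
import Groth.Agent.AlgSp.K607.ArtinSmL

/-!
# Openness of versality (helper607)
-/

set_option autoImplicit false
set_option linter.unusedSectionVars false

universe w v u

open CategoryTheory CategoryTheory.Limits AlgebraicGeometry Opposite
open ArtFun ArtFun.Art K724.Basic

namespace K607.Artin

variable {Λ : Type u} [CommRing Λ] {𝒳 : BasedCategory.{v, w} (Over (Spec (CommRingCat.of Λ)))}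
variable {k : Type u} [Field k] [Algebra Λ k]

lemma locallyOfFiniteType_sp (A : Type u) [CommRing A] [Algebra Λ A] [Algebra.FiniteType Λ A] :
    LocallyOfFiniteType (sp Λ A).hom := by
  change LocallyOfFiniteType (Spec.map (CommRingCat.ofHom (algebraMap Λ A)))
  rw [HasRingHomProperty.Spec_iff (P := @LocallyOfFiniteType)]
  exact (RingHom.finiteType_algebraMap).2 inferInstance

/-- The second projection from the product is locally of finite type. -/
lemma locallyOfFiniteType_of_pr {A C : Type u} [CommRing A] [Algebra Λ A] [Algebra.FiniteType Λ A] [CommRing C]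
    [Algebra Λ C] {ξ y V : 𝒳.obj} (hξ : Ov A ξ) (p : V ⟶ ξ) (q : V ⟶ y)
    {P : Over (Spec (CommRingCat.of Λ))} (fq : P ⟶ sp Λ C) (hfq : 𝒳.p.IsHomLift fq q)
    (h : LocallyOfFiniteType (pullback.lift (𝒳.p.map p).left (𝒳.p.map q).left
        ((Over.w (𝒳.p.map p)).trans (Over.w (𝒳.p.map q)).symm) :
          (𝒳.p.obj V).left ⟶ pullback (𝒳.p.obj ξ).hom (𝒳.p.obj y).hom)) : LocallyOfFiniteType fq.left := by
  have h1 : LocallyOfFiniteType (𝒳.p.obj ξ).hom := by
    have e : 𝒳.p.obj ξ = sp Λ A := hξ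
    rw [e]
    exact locallyOfFiniteType_sp A
  have h2 : LocallyOfFiniteType (pullback.snd (𝒳.p.obj ξ).hom (𝒳.p.obj y).hom) := inferInstance
  have h3 : LocallyOfFiniteType (𝒳.p.map q).left := by
    rw [← pullback.lift_snd (f := (𝒳.p.obj ξ).hom) (g := (𝒳.p.obj y).hom) (𝒳.p.map p).left (𝒳.p.map q).left
      ((Over.w (𝒳.p.map p)).trans (Over.w (𝒳.p.map q)).symm)]
    infer_instance
  rw [IsHomLift.fac 𝒳.p fq q, Over.comp_left, Over.comp_left]
  have h4 : ∀ {U V : Over (Spec (CommRingCat.of Λ))} (e : U = V), IsIso (eqToHom e).left := by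
    rintro U _ rfl
    exact inferInstanceAs (IsIso (𝟙 U.left))
  have h5 := h4 (IsHomLift.domain_eq 𝒳.p fq q).symm
  have h6 := h4 (IsHomLift.codomain_eq 𝒳.p fq q)
  infer_instance

variable [hfg : FibCat.IsFibGrpd 𝒳.p]

/-- **Openness of versality**: if `ξ` is versal at a point, all infinitesimal test problems supported in a
neighbourhood of this point have solutions. -/
theorem exists_open_versal [IsNoetherianRing Λ] (hlp : LP 𝒳) (hse : SE 𝒳) (hrs : RSobj 𝒳) (hpr : PR 𝒳)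
    {A : Type u} [CommRing A] [Algebra Λ A] [Algebra.FiniteType Λ A] [Countable A] {γ : A →ₐ[Λ] k}
    (hγ : Function.Surjective γ) {x₀ ξ : 𝒳.obj} {i : x₀ ⟶ ξ} (hi : Li γ i) (hv : Vers k i) :
    ∃ f : A, γ f ≠ 0 ∧ ∀ D : Test hi.tgt, IsLocalRing D.B → IsLocalRing D.B' → IsUnit (D.φ f) →
      ∃ a' : D.x' ⟶ ξ, D.b ≫ a' = D.a := by
  by_contra hcon
  have hcon' : ∀ f : {f : A // γ f ≠ 0}, ∃ D : Test hi.tgt, IsLocalRing D.B ∧ IsLocalRing D.B' ∧ IsUnit (D.φ f.1) ∧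
      ¬ ∃ a' : D.x' ⟶ ξ, D.b ≫ a' = D.a := by
    intro f
    by_contra h
    refine hcon ⟨f.1, f.2, fun D h1 h2 h3 => ?_⟩
    by_contra h4
    exact h ⟨D, h1, h2, h3, h4⟩
  choose D hD1 hD2 hD3 hD4 using hcon'
  have hne : Nonempty {f : A // γ f ≠ 0} := ⟨⟨1, by rw [map_one]; exact one_ne_zero⟩⟩
  obtain ⟨e, he⟩ := exists_surjective_nat {f : A // γ f ≠ 0}
  obtain ⟨C, _, _, _, y, s, hy, hD⟩ := exists_tower hi.tgt hlp hse hrs (fun n => D (e n))
  obtain ⟨V, p, q, hV, hft⟩ := hpr ξ y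
  obtain ⟨σ, ⟨hσp, hσq⟩, -⟩ := hV ξ (𝟙 ξ) s
  obtain ⟨P, hP⟩ : ∃ P, 𝒳.p.obj V = P := ⟨_, rfl⟩
  obtain ⟨fp, hfp⟩ := Gen.exists_base hP hi.tgt p
  obtain ⟨fq, hfq⟩ := Gen.exists_base hP hy q
  obtain ⟨σO, hσO⟩ := Gen.exists_base hi.tgt hP σ
  have hfqft : LocallyOfFiniteType fq.left := locallyOfFiniteType_of_pr hi.tgt p q fq hfq hft
  have hi' : 𝒳.p.IsHomLift (spMap γ) i := hi
  obtain ⟨O, hO, hOs⟩ := smooth_at_versal hγ hi hv hy p q hV fp fq hfp hfq (i ≫ σ)
    (by rw [Category.assoc, hσp, Category.comp_id]) (spMap γ ≫ σO) (Gen.comp hi' hσO)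
  -- a basic open neighbourhood of the point in the preimage of `O`
  let pt : PrimeSpectrum A := (Spec.map (CommRingCat.ofHom γ.toRingHom)) (IsLocalRing.closedPoint k)
  let W : TopologicalSpace.Opens (PrimeSpectrum A) := (σO.left ⁻¹ᵁ O : (Spec (.of A)).Opens)
  have hpt : pt ∈ (W : Set (PrimeSpectrum A)) := by
    have h1 : (spMap γ ≫ σO).left (IsLocalRing.closedPoint k) ∈ O := hO
    rw [Over.comp_left, Scheme.Hom.comp_apply] at h1
    exact h1
  obtain ⟨_, ⟨f, rfl⟩, hf1, hf2⟩ := PrimeSpectrum.isTopologicalBasis_basic_opens.exists_subset_of_mem_open hpt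
    W.isOpen
  have hγf : γ f ≠ 0 := by
    intro h0
    refine hf1 ?_
    change γ f ∈ (IsLocalRing.closedPoint k).asIdeal
    rw [h0]
    exact Ideal.zero_mem _
  obtain ⟨n, hn⟩ := he ⟨f, hγf⟩
  obtain ⟨d, θ, hθ, hd⟩ := hD n
  have hunit : IsUnit ((D (e n)).φ f) := by
    have := hD3 (e n)
    rwa [hn] at this ⊢
  refine hD4 (e n) ?_
  have hB := hD1 (e n)
  have hB' := hD2 (e n)
  generalize D (e n) = T at hunit d hd hB hB'
  -- the point of `V`
  have hθ' : 𝒳.p.IsHomLift (𝟙 (sp Λ A)) θ := by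
    have := hθ
    unfold Li at this
    rwa [spMap_id] at this
  have hTa : 𝒳.p.IsHomLift (spMap T.φ) T.a := T.ha
  have hTb : 𝒳.p.IsHomLift (spMap T.μ) T.b := T.hb
  have hα : 𝒳.p.IsHomLift (spMap T.φ ≫ σO) (T.a ≫ θ ≫ σ) := by
    have h1 := Gen.comp hTa (Gen.comp hθ' hσO)
    rwa [Category.id_comp] at h1
  obtain ⟨δ, hδ⟩ := Li.exists T.hb.tgt hy d
  have hδ' : 𝒳.p.IsHomLift (spMap δ) d := hδ
  have hsq : spMap T.μ ≫ spMap δ = (spMap T.φ ≫ σO) ≫ fq := by
    refine Gen.unique (a := T.b ≫ d) (Gen.comp hTb hδ') ?_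
    have h1 := Gen.comp hα hfq
    rwa [show (T.a ≫ θ ≫ σ) ≫ q = T.b ≫ d by rw [Category.assoc, Category.assoc, hσq, hd]] at h1
  have hmem : (spMap T.φ ≫ σO).left (IsLocalRing.closedPoint T.B) ∈ O := by
    have h1 : (Spec.map (CommRingCat.ofHom T.φ.toRingHom)) (IsLocalRing.closedPoint T.B) ∈
        (W : Set (PrimeSpectrum A)) := by
      refine hf2 ?_
      intro h2
      have h3 : T.φ f ∈ IsLocalRing.maximalIdeal T.B := h2
      exact h3 hunit
    rw [Over.comp_left, Scheme.Hom.comp_apply]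
    exact h1
  obtain ⟨g, hg1, hg2⟩ := ArtinSm.exists_lift_open (X := P.left) (Y := Spec (.of C)) fq.left O T.μ.toRingHom T.hμ T.hnil
    (spMap T.φ ≫ σO).left hmem (spMap δ).left (congrArg CommaMorphism.left hsq)
  have hgw : g ≫ P.hom = (sp Λ T.B').hom := by
    have h3 : fq.left ≫ (sp Λ C).hom = P.hom := Over.w fq
    rw [← h3, ← Category.assoc, hg2]
    exact Over.w (spMap δ)
  let gO : sp Λ T.B' ⟶ P := Over.homMk g hgw
  have hgO1 : spMap T.μ ≫ gO = spMap T.φ ≫ σO := by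
    apply Over.OverMorphism.ext
    exact hg1
  have hgO2 : gO ≫ fq = spMap δ := by
    apply Over.OverMorphism.ext
    exact hg2
  obtain ⟨c, hc, hcq⟩ := Gen.ex_factor hδ' hfq gO hgO2
  have hbc : T.b ≫ c = T.a ≫ θ ≫ σ := by
    refine Gen.uniqL (h := spMap T.φ ≫ σO) (b := q) ?_ hα ?_
    · rw [← hgO1]
      exact Gen.comp hTb hc
    · rw [Category.assoc, hcq, Category.assoc, Category.assoc, hσq, hd]
  have hθi : IsIso θ := hθ.isIso_id
  refine ⟨c ≫ p ≫ inv θ, ?_⟩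
  rw [← Category.assoc, hbc]
  simp only [Category.assoc]
  rw [← Category.assoc σ p, hσp, Category.id_comp, IsIso.hom_inv_id, Category.comp_id]

end K607.Artin
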