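import Groth.Agent.Algz.K724.Pres
import Groth.Agent.ArtFun.K724.Basic

/-!
Complete local algebras with a finitely generated residue field as quotients of completed polynomial rings over a
general base ring (after `Groth.Agent.Algz.K724.Pres`, helper724) (helper607).
-/

set_option autoImplicit false
universe u v

namespace K607.ArtinPres

open IsLocalRing K724.EtNbd K724.Pres

variable (Λ : Type u) [CommRing Λ] (k : Type u) [Field k] [Algebra Λ k] (R : Type u) [CommRing R] [Algebra Λ R]
  [IsLocalRing R] [IsNoetherianRing R] [IsAdicComplete (maximalIdeal R) R] (γ : R →ₐ[Λ] k)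

/-- A complete local algebra with residue field `k` of finite type over `Λ` is a quotient of a completed polynomial
ring. -/
theorem exists_pres [IsNoetherianRing Λ] [Algebra.FiniteType Λ k] (hγs : Function.Surjective γ) :
    ∃ (σ : Type) (_ : Finite σ) (ρ : MvPolynomial σ Λ →ₐ[Λ] k)
      (π : AdicCompletion (RingHom.ker ρ) (MvPolynomial σ Λ) →ₐ[Λ] R),
      Function.Surjective ρ ∧ Function.Surjective π ∧
      (RingHom.ker ρ).map (π.toRingHom.comp (algebraMap (MvPolynomial σ Λ)
        (AdicCompletion (RingHom.ker ρ) (MvPolynomial σ Λ)))) = maximalIdeal R ∧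
      RingHom.ker π ≤ hat (RingHom.ker ρ) 1 ∧
      ∀ p, γ (π (algebraMap _ _ p)) = ρ p := by
  have hγ : RingHom.ker γ = maximalIdeal R :=
    IsLocalRing.eq_maximalIdeal (RingHom.ker_isMaximal_of_surjective γ.toRingHom hγs)
  obtain ⟨n, r, hr⟩ := Submodule.fg_iff_exists_fin_generating_family.1 (IsNoetherian.noetherian (maximalIdeal R))
  have hrm : ∀ i, r i ∈ maximalIdeal R := fun i => by rw [← hr]; exact Submodule.subset_span ⟨i, rfl⟩
  obtain ⟨m, f, hf⟩ := Algebra.FiniteType.iff_quotient_mvPolynomial''.1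
    (inferInstance : Algebra.FiniteType Λ k)
  choose l hl using fun j : Fin m => hγs (f (MvPolynomial.X j))
  let σ := Fin m ⊕ Fin n
  let ρ : MvPolynomial σ Λ →ₐ[Λ] k := MvPolynomial.aeval (Sum.elim (fun j => f (MvPolynomial.X j)) (fun _ => 0))
  let φ₀ : MvPolynomial σ Λ →ₐ[Λ] R := MvPolynomial.aeval (Sum.elim l r)
  have hfu : ∀ q : MvPolynomial (Fin m) Λ, f q = MvPolynomial.aeval (f ∘ MvPolynomial.X) q := fun q =>
    DFunLike.congr_fun (MvPolynomial.aeval_unique f) q
  have hρf : ∀ q : MvPolynomial (Fin m) Λ, ρ (MvPolynomial.rename Sum.inl q) = f q := by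
    intro q
    rw [MvPolynomial.aeval_rename, hfu]
    rfl
  have hρ : Function.Surjective ρ := fun c => by
    obtain ⟨q, hq⟩ := hf c
    exact ⟨_, (hρf q).trans hq⟩
  have hγφ : γ.comp φ₀ = ρ := by
    apply MvPolynomial.algHom_ext
    intro i
    rw [AlgHom.comp_apply, MvPolynomial.aeval_X, MvPolynomial.aeval_X]
    rcases i with i | i
    · exact hl i
    · have h1 := hrm i
      rw [← hγ, RingHom.mem_ker] at h1
      exact h1
  have : IsAdicComplete (RingHom.ker γ) R := by rw [hγ]; infer_instance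
  obtain ⟨π, hπ, hπγ⟩ := K725.Completion.exists_extend ρ hρ γ φ₀ hγφ
  have hfg : (RingHom.ker ρ).FG := IsNoetherian.noetherian _
  have hπφ : ∀ a, π (algebraMap _ _ a) = φ₀ a := fun a => DFunLike.congr_fun hπ a
  have hm : (RingHom.ker ρ).map (π.toRingHom.comp (algebraMap (MvPolynomial σ Λ)
        (AdicCompletion (RingHom.ker ρ) (MvPolynomial σ Λ)))) = maximalIdeal R := by
    apply le_antisymm
    · rw [Ideal.map_le_iff_le_comap]
      intro a ha
      rw [Ideal.mem_comap]
      change π (algebraMap _ _ a) ∈ _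
      rw [hπφ, ← hγ, RingHom.mem_ker]
      exact (DFunLike.congr_fun hγφ a).trans ha
    · conv_lhs => rw [← hr]
      rw [Submodule.span_le]
      rintro _ ⟨i, rfl⟩
      have h1 : r i = π.toRingHom.comp (algebraMap (MvPolynomial σ Λ)
        (AdicCompletion (RingHom.ker ρ) (MvPolynomial σ Λ))) (MvPolynomial.X (Sum.inr i)) := by
        change r i = π (algebraMap (MvPolynomial σ Λ) (AdicCompletion (RingHom.ker ρ) (MvPolynomial σ Λ)) _)
        rw [hπφ]
        exact (MvPolynomial.aeval_X (Sum.elim l r) (Sum.inr i)).symm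
      rw [h1]
      apply Ideal.mem_map_of_mem
      change ρ (MvPolynomial.X (Sum.inr i)) = 0
      exact MvPolynomial.aeval_X (Sum.elim (fun j => f (MvPolynomial.X j)) (fun _ => 0)) (Sum.inr i)
  refine ⟨σ, inferInstance, ρ, π, hρ, ?_, hm, ?_, fun p => ?_⟩
  · let I₀ := (RingHom.ker ρ).map (algebraMap (MvPolynomial σ Λ)
        (AdicCompletion (RingHom.ker ρ) (MvPolynomial σ Λ)))
    have hI₀ : I₀.map π.toRingHom = maximalIdeal R := by
      rw [← hm, ← Ideal.map_map]
    have : IsAdicComplete I₀ (AdicCompletion (RingHom.ker ρ) (MvPolynomial σ Λ)) :=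
      AdicCompletion.isAdicComplete_self (RingHom.ker ρ) hfg
    have : IsHausdorff (I₀.map π.toRingHom) R := by rw [hI₀]; infer_instance
    apply surjective_of_mk_map_comp_surjective (I := I₀) π.toRingHom
    intro x
    obtain ⟨y, rfl⟩ := Ideal.Quotient.mk_surjective x
    obtain ⟨p, hp⟩ := hρ (γ y)
    refine ⟨algebraMap _ _ p, ?_⟩
    rw [RingHom.comp_apply]
    symm
    rw [Ideal.Quotient.eq, hI₀, ← hγ, RingHom.mem_ker]
    change γ (y - π (algebraMap _ _ p)) = 0
    rw [map_sub, hπφ, sub_eq_zero, ← hp]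
    exact (DFunLike.congr_fun hγφ p).symm
  · intro x hx
    have h1 : K725.Completion.cplRes ρ hρ x = 0 := by
      rw [← hπγ, AlgHom.comp_apply]
      have : π x = 0 := hx
      rw [this, map_zero]
    have h2 : x ∈ RingHom.ker (K725.Completion.cplRes ρ hρ) := h1
    rw [K725.Completion.ker_cplRes ρ hρ hfg] at h2
    rw [hat_eq_pow _ hfg, pow_one]
    exact h2
  · rw [hπφ]
    exact DFunLike.congr_fun hγφ p

end K607.ArtinPres
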