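import Groth.Agent.AlgSp.K607.ArtinDef

/-!
# Versality: from isomorphism classes to objects (helper607)
-/

set_option autoImplicit false
set_option linter.unusedSectionVars false

universe w v u

open CategoryTheory CategoryTheory.Limits AlgebraicGeometry Opposite
open ArtFun ArtFun.Art K724.Basic

namespace K607.Artin

variable {Λ : Type u} [CommRing Λ] {𝒳 : BasedCategory.{v, w} (Over (Spec (CommRingCat.of Λ)))}
variable {k : Type u} [Field k] [Algebra Λ k]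

lemma toBase_surjective (A : Art Λ k) : Function.Surjective (toBase A) := A.res_surjective

section Defs

variable (A : Type u) [CommRing A] [Algebra Λ A] (k) {x₀ ξ : 𝒳.obj}

/-- The arrow `i : x₀ ⟶ ξ` (over `γ : A → k`) is versal: lifting property with respect to all surjections of
Artinian algebras with residue field `k`. -/
def Vers (i : x₀ ⟶ ξ) : Prop :=
  ∀ ⦃B C : Art Λ k⦄ (μ : C ⟶ B), Function.Surjective μ → ∀ {z x' : 𝒳.obj} (j : x₀ ⟶ z) (b : z ⟶ x') (a : z ⟶ ξ),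
    Li B.res j → Li μ.toAlgHom b → j ≫ a = i → ∃ a' : x' ⟶ ξ, b ≫ a' = a

/-- Versality on isomorphism classes. -/
def SVers (i : x₀ ⟶ ξ) : Prop :=
  ∀ ⦃B C : Art Λ k⦄ (μ : C ⟶ B), Function.Surjective μ → ∀ (d : Def0 x₀ B) (d' : Def0 x₀ C), Def0.Rel μ d' d →
    ∀ (φ : A →ₐ[Λ] B) (a : d.obj ⟶ ξ), Li φ a → d.i ≫ a = i →
      ∃ (ψ : A →ₐ[Λ] C) (a' : d'.obj ⟶ ξ), μ.toAlgHom.comp ψ = φ ∧ Li ψ a' ∧ d'.i ≫ a' = i

end Defs

section Square

variable {B C P : Art Λ k} (μ : C ⟶ B) (p₁ p₂ : P ⟶ C) (h : IsFibreProd p₁ p₂ μ μ)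
  (hm : ∀ c ∈ IsLocalRing.maximalIdeal C, ∀ e ∈ RingHom.ker μ.toAlgHom, e * c = 0)

/-- The ideal of the elements `(m, m)`, `m` in the maximal ideal, of `C ×_B C`. -/
def diagIdeal : Ideal P where
  carrier := {x | p₁ x = p₂ x ∧ p₁ x ∈ IsLocalRing.maximalIdeal C}
  add_mem' := by
    rintro x y ⟨hx, hx'⟩ ⟨hy, hy'⟩
    refine ⟨?_, ?_⟩
    · change p₁.toAlgHom (x + y) = p₂.toAlgHom (x + y)
      rw [map_add, map_add]
      exact congrArg₂ (· + ·) hx hy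
    · change p₁.toAlgHom (x + y) ∈ _
      rw [map_add]
      exact Ideal.add_mem _ hx' hy'
  zero_mem' := by
    refine ⟨?_, ?_⟩
    · change p₁.toAlgHom 0 = p₂.toAlgHom 0
      rw [map_zero, map_zero]
    · change p₁.toAlgHom 0 ∈ _
      rw [map_zero]
      exact Submodule.zero_mem _
  smul_mem' := by
    rintro b x ⟨hx, hx'⟩
    refine ⟨?_, ?_⟩
    · change p₁.toAlgHom (b * x) = p₂.toAlgHom (b * x)
      rw [map_mul, map_mul, ← show p₁.toAlgHom x = p₂.toAlgHom x from hx]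
      have h1 : (p₁.toAlgHom b - p₂.toAlgHom b) * p₁.toAlgHom x = 0 := by
        apply hm _ hx'
        rw [RingHom.mem_ker, map_sub, sub_eq_zero]
        exact h.w_apply b
      rw [sub_mul, sub_eq_zero] at h1
      exact h1
    · change p₁.toAlgHom (b * x) ∈ _
      rw [map_mul]
      exact Ideal.mul_mem_left _ _ hx'

lemma mem_diagIdeal (x : P) : x ∈ diagIdeal μ p₁ p₂ h hm ↔ p₁ x = p₂ x ∧ p₁ x ∈ IsLocalRing.maximalIdeal C := Iff.rfl

lemma diagIdeal_le : diagIdeal μ p₁ p₂ h hm ≤ IsLocalRing.maximalIdeal P := by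
  intro x hx
  have h1 := ((mem_diagIdeal μ p₁ p₂ h hm x).1 hx).2
  rw [mem_maximalIdeal_iff, res_app] at h1
  rw [mem_maximalIdeal_iff, h1]

/-- `C ×_B C = C ×_k Q` for a small extension `C → B`. -/
lemma isFibreProd_diag :
    IsFibreProd p₁ (quotMk P (diagIdeal μ p₁ p₂ h hm) (diagIdeal_le μ p₁ p₂ h hm)) (toBase C) (toBase _) where
  w := by rw [eq_toBase (p₁ ≫ _), eq_toBase (_ ≫ _)]
  inj x y h1 h2 := by
    have h3 : x - y ∈ diagIdeal μ p₁ p₂ h hm := by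
      rw [← Ideal.Quotient.eq]
      exact h2
    have h4 := ((mem_diagIdeal μ p₁ p₂ h hm _).1 h3).1
    have h5 : p₁.toAlgHom (x - y) = 0 := by
      rw [map_sub, sub_eq_zero]
      exact h1
    have h6 : p₂.toAlgHom (x - y) = 0 := h4.symm.trans h5
    rw [map_sub, sub_eq_zero] at h6
    exact h.inj x y h1 h6
  surj c s hcs := by
    obtain ⟨b, rfl⟩ := quotMk_surjective P (diagIdeal μ p₁ p₂ h hm) (diagIdeal_le μ p₁ p₂ h hm) s
    have h1 : C.res c = P.res b := by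
      have h2 : C.res c = (quot P _ (diagIdeal_le μ p₁ p₂ h hm)).res
        (quotMk P (diagIdeal μ p₁ p₂ h hm) (diagIdeal_le μ p₁ p₂ h hm) b) := hcs
      rw [h2]
      exact Art.res_app _ _
    have hδ : p₁.toAlgHom b - c ∈ IsLocalRing.maximalIdeal C := by
      rw [mem_maximalIdeal_iff, map_sub, h1, sub_eq_zero]
      exact Art.res_app p₁ b
    obtain ⟨δ, hδ1, hδ2⟩ := h.surj (p₁.toAlgHom b - c) (p₁.toAlgHom b - c) rfl
    refine ⟨b - δ, ?_, ?_⟩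
    · rw [map_sub, show p₁.toAlgHom δ = _ from hδ1, sub_sub_cancel]
    · change Ideal.Quotient.mk _ (b - δ) = Ideal.Quotient.mk _ b
      rw [Ideal.Quotient.eq, sub_sub_cancel_left, Ideal.neg_mem_iff, mem_diagIdeal]
      exact ⟨hδ1.trans hδ2.symm, by rw [hδ1]; exact hδ⟩

end Square

section Main

variable [hfg : FibCat.IsFibGrpd 𝒳.p] {A : Type u} [CommRing A] [Algebra Λ A] (γ : A →ₐ[Λ] k) {x₀ ξ : 𝒳.obj}

/-- Versality on isomorphism classes implies the lifting property for small extensions. -/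
lemma lift_small [IsNoetherianRing Λ] [Module.Finite Λ k] (hrs : RSobj 𝒳) (hrh : RShom 𝒳) {i : x₀ ⟶ ξ} (hi : Li γ i)
    (hv : SVers k A i) {B C : Art Λ k} (μ : C ⟶ B) (hμ : Function.Surjective μ)
    (hm : ∀ c ∈ IsLocalRing.maximalIdeal C, ∀ e ∈ RingHom.ker μ.toAlgHom, e * c = 0) {z x' : 𝒳.obj}
    (j : x₀ ⟶ z) (b : z ⟶ x') (a : z ⟶ ξ) (hj : Li B.res j) (hb : Li μ.toAlgHom b) (hja : j ≫ a = i) :
    ∃ a' : x' ⟶ ξ, b ≫ a' = a := by
  have hx₀ : Ov k x₀ := hj.src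
  obtain ⟨φ, hφ⟩ := Li.exists hj.tgt hi.tgt a
  have hjb : Li C.res (j ≫ b) := by
    have := hb.comp hj
    rwa [μ.res_comp] at this
  let d : Def0 x₀ B := ⟨z, j, hj⟩
  let d' : Def0 x₀ C := ⟨x', j ≫ b, hjb⟩
  obtain ⟨ψ, a₁, hψ, ha₁, hia₁⟩ := hv μ hμ d d' ⟨b, hb, rfl⟩ φ a hφ hja
  have hba₁ : Li φ (b ≫ a₁) := by
    have := ha₁.comp hb
    rwa [hψ] at this
  obtain ⟨θ, hθ, hθa⟩ := Li.exists_factor hφ hba₁ (AlgHom.id Λ B) (AlgHom.id_comp φ)
  have hjθ : j ≫ θ = j := by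
    refine Li.uniq' (χ := B.res) (b := b ≫ a₁) ?_ hj ?_
    · have := hθ.comp hj
      rwa [AlgHom.comp_id] at this
    · rw [Category.assoc, hθa, hja]
      change i = j ≫ b ≫ a₁
      rw [← Category.assoc]
      exact hia₁.symm
  -- the twisted gluing
  obtain ⟨P, p₁, p₂, hP⟩ := exists_isFibreProd μ μ hμ
  have hθb : Li μ.toAlgHom (θ ≫ b) := by
    have := hb.comp hθ
    rwa [AlgHom.id_comp] at this
  obtain ⟨w, j₁, j₂, hj₁, hj₂, hw⟩ := hrs μ.toAlgHom μ.toAlgHom p₁.toAlgHom p₂.toAlgHom (isFib_of_isFibreProd hP) hμ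
    (isNilpotent_ker μ) (θ ≫ b) b hθb hb
  have hiw : Li P.res (j ≫ b ≫ j₁) := by
    have := Li.comp (φ := p₁.toAlgHom) hj₁ hjb
    rw [p₁.res_comp, Category.assoc] at this
    exact this
  let dw : Def0 x₀ P := ⟨w, j ≫ b ≫ j₁, hiw⟩
  let q := quotMk P (diagIdeal μ p₁ p₂ hP hm) (diagIdeal_le μ p₁ p₂ hP hm)
  have hQ := isFibreProd_diag μ p₁ p₂ hP hm
  obtain ⟨τ, c₂, hc₂, hτ⟩ := Def0.Rel.exists q dw
  -- the tangent vector lifts
  obtain ⟨ψt, t, -, ht, hit⟩ := hv (toBase (quot P _ (diagIdeal_le μ p₁ p₂ hP hm))) (toBase_surjective _)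
    (Def0.triv hx₀) τ (Def0.rel_triv hx₀ τ) γ i hi (Category.id_comp _)
  obtain ⟨c, ⟨hc1, hc2⟩, -⟩ := hrh (D := A) (toBase C).toAlgHom (toBase _).toAlgHom p₁.toAlgHom q.toAlgHom
    (isFib_of_isFibreProd hQ) (toBase_surjective _) (isNilpotent_ker _) (j ≫ b) τ.i j₁ c₂ hjb τ.li hj₁ hc₂
    (by rw [hτ, Category.assoc]) hi.tgt a₁ t (hia₁.trans hit.symm)
  refine ⟨j₂ ≫ c, ?_⟩
  rw [← Category.assoc, ← hw, Category.assoc, hc1, Category.assoc]
  exact hθa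

/-- Versality on isomorphism classes implies versality. -/
theorem SVers.vers [IsNoetherianRing Λ] [Module.Finite Λ k] (hrs : RSobj 𝒳) (hrh : RShom 𝒳) {i : x₀ ⟶ ξ}
    (hi : Li γ i) (hv : SVers k A i) : Vers k i := by
  have key : ∀ ⦃B C : Art Λ k⦄ (μ : C ⟶ B), Function.Surjective μ → ∀ {z x' : 𝒳.obj} (j : x₀ ⟶ z) (b : z ⟶ x')
      (a : z ⟶ ξ), Li B.res j → Li μ.toAlgHom b → j ≫ a = i → ∃ a' : x' ⟶ ξ, b ≫ a' = a := by
    intro B C μ hμ
    refine surjective_induction (fun ⦃B C : Art Λ k⦄ (μ : C ⟶ B) => ∀ {z x' : 𝒳.obj} (j : x₀ ⟶ z) (b : z ⟶ x')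
      (a : z ⟶ ξ), Li B.res j → Li μ.toAlgHom b → j ≫ a = i → ∃ a' : x' ⟶ ξ, b ≫ a' = a) ?_ ?_ μ hμ
    · intro B C e he z x' j b a hj hb hja
      have hbi : IsIso b := hb.isIso (bijective_of_isIso e)
      exact ⟨CategoryTheory.inv b ≫ a, by rw [IsIso.hom_inv_id_assoc]⟩
    · intro B C D p q hp hq hPq z x' j b a hj hb hja
      obtain ⟨x'', c, hc⟩ := Li.exists_lift hb.tgt p.toAlgHom
      obtain ⟨e, he, hec⟩ := Li.exists_factor hb hc q.toAlgHom rfl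
      obtain ⟨a₁, ha₁⟩ := hPq j e a hj he hja
      have hje : Li C.res (j ≫ e) := by
        have := he.comp hj
        rwa [q.res_comp] at this
      obtain ⟨a', ha'⟩ := lift_small γ hrs hrh hi hv p hp.1 (fun c hc e he => by
        have h1 : c * e ∈ IsLocalRing.maximalIdeal D * RingHom.ker p.toAlgHom := Ideal.mul_mem_mul hc he
        rw [hp.2.2.2] at h1
        rw [mul_comm]
        exact h1) (j ≫ e) c a₁ hje hc (by rw [Category.assoc, ha₁, hja])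
      exact ⟨a', by rw [← hec, Category.assoc, ha', ha₁]⟩
  exact fun B C μ hμ z x' j b a h1 h2 h3 => key μ hμ j b a h1 h2 h3

end Main

end K607.Artin
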