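import Groth.Agent.AlgSp.K607.VOpen
import Mathlib.AlgebraicGeometry.ZariskisMainTheorem

/-!
# Existence of good families
-/

set_option autoImplicit false
universe u

open CategoryTheory CategoryTheory.Limits AlgebraicGeometry

namespace K607.HilbData

variable {R U : Scheme.{u}} {t : R ⟶ U}

theorem isPullback_section {T : Scheme.{u}} (g : T ⟶ U) (e : U ⟶ R) (he : e ≫ t = 𝟙 U) {σ : T ⟶ pullback t g}
    (h1 : σ ≫ pullback.fst t g = g ≫ e) (h2 : σ ≫ pullback.snd t g = 𝟙 T) :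
    IsPullback σ g (pullback.fst t g) e := by
  refine IsPullback.of_isLimit' ⟨h1⟩ ?_
  have hex : ∀ c : PullbackCone (pullback.fst t g) e, (c.fst ≫ pullback.snd t g) ≫ σ = c.fst ∧
      (c.fst ≫ pullback.snd t g) ≫ g = c.snd := by
    intro c
    have e1 : (c.fst ≫ pullback.snd t g) ≫ g = c.snd := by
      rw [Category.assoc, ← pullback.condition, ← Category.assoc, c.condition, Category.assoc, he,
        Category.comp_id]
    refine ⟨?_, e1⟩
    apply pullback.hom_ext
    · rw [Category.assoc, h1, ← Category.assoc, e1, c.condition]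
    · rw [Category.assoc, h2, Category.comp_id]
  refine PullbackCone.IsLimit.mk _ (fun c => c.fst ≫ pullback.snd t g) (fun c => (hex c).1) (fun c => (hex c).2)
    fun c m hm1 hm2 => ?_
  rw [← hm1, Category.assoc, h2, Category.comp_id]

/-- The restriction of a clopen subscheme finite over the base to the locus where it has degree `d` and contains the
section is a good family. -/
theorem exists_good_of_clopen {d : ℕ} (D : HilbData t d) [Flat t] [LocallyOfFinitePresentation t] (e : U ⟶ R)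
    {T : Scheme.{u}} (g : T ⟶ U) (hg : Flat g) (hg' : LocallyOfFinitePresentation g)
    (A : (pullback t g).Opens) (hA : IsClosed (A : Set ↥(pullback t g)))
    (hfin : IsFinite (A.ι ≫ pullback.snd t g)) (hd : ∀ y, (A.ι ≫ pullback.snd t g).finrank y = d)
    (σ : T ⟶ A) (h1 : σ ≫ A.ι ≫ pullback.fst t g = g ≫ e) (h2 : σ ≫ A.ι ≫ pullback.snd t g = 𝟙 T) :
    ∃ a : T ⟶ D.H, a ≫ D.h = g ∧ D.Good e a := by
  have hcl : IsClosedImmersion A.ι := .of_isPreimmersion _ (by rw [Scheme.Opens.range_ι]; exact hA)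
  have hw : (A.ι ≫ pullback.fst t g) ≫ t = (A.ι ≫ pullback.snd t g) ≫ g := by
    rw [Category.assoc, Category.assoc, pullback.condition]
  have f1 : Flat (pullback.snd t g) := MorphismProperty.pullback_snd _ _ inferInstance
  have f2 : LocallyOfFinitePresentation (pullback.snd t g) := MorphismProperty.pullback_snd _ _ inferInstance
  have hl : pullback.lift _ _ hw = A.ι := by
    apply pullback.hom_ext
    · rw [pullback.lift_fst]
    · rw [pullback.lift_snd]
  obtain ⟨a, ζ, ha, hζ, sq⟩ := D.exists_map g (A.ι ≫ pullback.snd t g) (A.ι ≫ pullback.fst t g) hw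
    ⟨⟨hfin, inferInstance, inferInstance⟩, hd⟩ (by rw [hl]; exact hcl)
  refine ⟨a, ha, ?_, ?_, ?_, ?_⟩
  · rw [ha]; exact hg
  · rw [ha]; exact hg'
  · have sqX : IsPullback (pullback.fst t g) (pullback.snd t g) t (a ≫ D.h) := by
      rw [ha]; exact IsPullback.of_hasPullback t g
    exact (D.opn_iff a sqX sq A.ι hζ.symm rfl).2 inferInstance
  · refine ⟨σ ≫ ζ, ?_, ?_⟩
    · rw [Category.assoc, sq.w, ← Category.assoc, h2, Category.id_comp]
    · rw [Category.assoc, hζ, h1, ← Category.assoc, ha]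

theorem exists_good (D : ∀ d, HilbData t d) [IsSeparated t] [LocallyQuasiFinite t] [Flat t]
    [LocallyOfFinitePresentation t] (e : U ⟶ R) (he : e ≫ t = 𝟙 U) (x : U) :
    ∃ (d : ℕ) (T : Scheme.{u}) (a : T ⟶ (D d).H), (D d).Good e a ∧ x ∈ Set.range (a ≫ (D d).h) := by
  have hy : t (e x) = x := by rw [← Scheme.Hom.comp_apply, he]; rfl
  obtain ⟨T, g, hg, -, A, B, v, hAB, hfin, hv⟩ := exists_etale_isCompl_of_quasiFiniteAt t hy (t.quasiFiniteAt _)
  have hA : IsClosed (A : Set ↥(pullback t g)) := by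
    have : (A : Set ↥(pullback t g)) = (B : Set _)ᶜ :=
      eq_compl_iff_isCompl.mpr (hAB.map TopologicalSpace.Opens.frameHom)
    rw [this]
    exact B.isOpen.isClosed_compl
  let σ : T ⟶ pullback t g := pullback.lift (g ≫ e) (𝟙 T) (by rw [Category.assoc, he]; simp)
  have hσ1 : σ ≫ pullback.fst t g = g ≫ e := pullback.lift_fst _ _ _
  have hσ2 : σ ≫ pullback.snd t g = 𝟙 T := pullback.lift_snd _ _ _
  obtain ⟨y, hy1, hy2⟩ := exists_point (isPullback_section g e he hσ1 hσ2) v.1 x hv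
  have f1 : Flat (pullback.snd t g) := MorphismProperty.pullback_snd _ _ inferInstance
  have f2 : LocallyOfFinitePresentation (pullback.snd t g) := MorphismProperty.pullback_snd _ _ inferInstance
  let d := (A.ι ≫ pullback.snd t g).finrank y
  let T₁ : T.Opens := ⟨{u | σ u ∈ A ∧ (A.ι ≫ pullback.snd t g).finrank u = d}, by
    refine IsOpen.inter (A.isOpen.preimage σ.continuous) ?_
    exact (Scheme.Hom.isLocallyConstant_finrank (A.ι ≫ pullback.snd t g)).isOpen_fiber d⟩
  let X₁ := pullback t (T₁.ι ≫ g)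
  have hc : pullback.fst t (T₁.ι ≫ g) ≫ t = (pullback.snd t (T₁.ι ≫ g) ≫ T₁.ι) ≫ g := by
    rw [pullback.condition, Category.assoc]
  let l : X₁ ⟶ pullback t g := pullback.lift _ _ hc
  have hl1 : l ≫ pullback.fst t g = pullback.fst t (T₁.ι ≫ g) := pullback.lift_fst _ _ _
  have hl2 : l ≫ pullback.snd t g = pullback.snd t (T₁.ι ≫ g) ≫ T₁.ι := pullback.lift_snd _ _ _
  have sqX : IsPullback l (pullback.snd t (T₁.ι ≫ g)) (pullback.snd t g) T₁.ι := by
    refine IsPullback.of_right ?_ hl2 (IsPullback.of_hasPullback t g)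
    rw [hl1]
    exact IsPullback.of_hasPullback _ _
  let A₁ : X₁.Opens := l ⁻¹ᵁ A
  have sqA : IsPullback (l ∣_ A) A₁.ι A.ι l := isPullback_morphismRestrict l A
  have sqA' : IsPullback (l ∣_ A) (A₁.ι ≫ pullback.snd t (T₁.ι ≫ g)) (A.ι ≫ pullback.snd t g) T₁.ι :=
    sqA.paste_vert sqX
  let σ₁ : (T₁ : Scheme.{u}) ⟶ X₁ := pullback.lift (T₁.ι ≫ g ≫ e) (𝟙 _) (by
    rw [Category.assoc, Category.assoc, he, Category.comp_id, Category.id_comp])
  have hσ₁1 : σ₁ ≫ pullback.fst t (T₁.ι ≫ g) = T₁.ι ≫ g ≫ e := pullback.lift_fst _ _ _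
  have hσ₁2 : σ₁ ≫ pullback.snd t (T₁.ι ≫ g) = 𝟙 _ := pullback.lift_snd _ _ _
  have hσl : σ₁ ≫ l = T₁.ι ≫ σ := by
    apply pullback.hom_ext
    · rw [Category.assoc, hl1, hσ₁1, Category.assoc, hσ1]
    · rw [Category.assoc, hl2, ← Category.assoc, hσ₁2, Category.id_comp, Category.assoc, hσ2, Category.comp_id]
  have hr : Set.range σ₁ ⊆ Set.range A₁.ι := by
    rw [Scheme.Opens.range_ι]
    rintro _ ⟨u, rfl⟩
    change l (σ₁ u) ∈ A
    rw [← Scheme.Hom.comp_apply, hσl]
    exact u.2.1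
  have hσ' := IsOpenImmersion.lift_fac A₁.ι σ₁ hr
  have hfin₁ : IsFinite (A₁.ι ≫ pullback.snd t (T₁.ι ≫ g)) := MorphismProperty.of_isPullback sqA' hfin
  obtain ⟨a, ha, hgood⟩ := exists_good_of_clopen (D d) e (T₁.ι ≫ g) inferInstance inferInstance A₁
    (hA.preimage l.continuous) hfin₁ (fun u => by
      rw [Scheme.Hom.finrank_of_isPullback _ _ _ _ sqA' u]
      exact u.2.2) (IsOpenImmersion.lift A₁.ι σ₁ hr) (by rw [reassoc_of% hσ', hσ₁1, Category.assoc])
      (by rw [reassoc_of% hσ', hσ₁2])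
  refine ⟨d, T₁, a, hgood, ⟨⟨y, ?_, rfl⟩, ?_⟩⟩
  · rw [hy1]; exact v.2
  · rw [ha]
    exact hy2

end K607.HilbData
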