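import Groth.Agent.AlgSp.K607.HilbData
import Groth.Agent.S0411
import Groth.Agent.S1166
import Groth.Agent.S1167

/-!
# Existence of `HilbData` for separated locally quasi-finite morphisms to an affine scheme
-/

set_option autoImplicit false
universe u

open CategoryTheory CategoryTheory.Limits AlgebraicGeometry

namespace K607.HilbData

theorem exists_hilbData {R U : Scheme.{u}} (t : R ⟶ U) [IsAffine U] [IsSeparated t] [LocallyQuasiFinite t]
    [LocallyOfFiniteType t] (d : ℕ) : Nonempty (HilbData t d) := by
  classical
  obtain ⟨H, Z, hZ⟩ := Groth.Agent.S1166.result t d fun _ x _ => by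
    obtain ⟨V, hV, hx⟩ := Groth.Agent.S0411.result t (Finset.univ.image x)
    exact ⟨V, hV, fun i => hx _ (Finset.mem_image_of_mem _ (Finset.mem_univ i))⟩
  exact ⟨ofUniversal t d H Z hZ (Groth.Agent.S1167.result t d H Z hZ)⟩

end K607.HilbData
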