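import Groth.Agent.AlgSp.K607.PLoc
import Groth.Agent.AlgSp.K607.Good
import Groth.Agent.AlgSp.K607.HilbEx

/-!
# Etale neighbourhoods with a finite locally free open subrelation

For an equivalence relation `s, t : R ⟶ U`, flat, locally of finite presentation, separated and locally quasi-finite,
with `U` affine, and a point `x` of `U`, there are an etale separated `v : V ⟶ U` hitting `x` and a finite locally free
equivalence relation `q, π : P ⟶ V` which is open in the restriction of `R` to `V`.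
-/

set_option autoImplicit false
universe u

open CategoryTheory CategoryTheory.Limits AlgebraicGeometry

namespace K607.ExV

theorem surjective_of_isEqvRel {S : Scheme.{u}} {R U : Over S} {s t : R ⟶ U} (h : AlgSp.IsEqvRel s t) :
    Surjective t.left := by
  obtain ⟨e, -, he⟩ := Eqv.exists_e h
  exact ⟨fun x => ⟨e x, by rw [← Scheme.Hom.comp_apply, he]; rfl⟩⟩

/-- The source map of an equivalence relation has the properties of the target map. -/
theorem prop_symm {S : Scheme.{u}} {R U : Over S} {s t : R ⟶ U} (h : AlgSp.IsEqvRel s t)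
    (P : MorphismProperty Scheme.{u}) [P.RespectsIso] (ht : P t.left) : P s.left := by
  obtain ⟨i, hi1, hi2⟩ := Eqv.exists_i h
  have : i ≫ i = 𝟙 _ := Eqv.hom_ext h (by rw [Category.assoc, hi2, hi1, Category.id_comp])
    (by rw [Category.assoc, hi1, hi2, Category.id_comp])
  have : IsIso i := ⟨i, this, this⟩
  rw [← hi2]
  exact (P.cancel_left_of_respectsIso i t.left).2 ht

theorem aux1 {V P R U S : Scheme.{u}} {q π : P ⟶ V} {v : V ⟶ U} {ρ : P ⟶ R} {s t : R ⟶ U} {u : U ⟶ S} {r : R ⟶ S}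
    (hs : s ≫ u = r) (ht : t ≫ u = r) (hq : q ≫ v = ρ ≫ s) (hπ : ρ ≫ t = π ≫ v) : q ≫ v ≫ u = π ≫ v ≫ u := by
  rw [← Category.assoc, hq, Category.assoc, hs, ← ht, ← Category.assoc, hπ, Category.assoc]

theorem aux2 {T V P R U : Scheme.{u}} {π : P ⟶ V} {v : V ⟶ U} {ρ : P ⟶ R} {t : R ⟶ U} {z z' : T ⟶ P}
    (hπ : ρ ≫ t = π ≫ v) (h : z ≫ π = z' ≫ π) : (z ≫ ρ) ≫ t = (z' ≫ ρ) ≫ t := by
  rw [Category.assoc, Category.assoc, hπ, reassoc_of% h]

theorem aux3 {T V P R U S : Scheme.{u}} {π : P ⟶ V} {v : V ⟶ U} {ρ : P ⟶ R} {t : R ⟶ U} {u : U ⟶ S} {r : R ⟶ S}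
    {z : T ⟶ P} {w : T ⟶ S} (ht : t ≫ u = r) (hπ : ρ ≫ t = π ≫ v) (h : z ≫ π ≫ v ≫ u = w) : (z ≫ ρ) ≫ r = w := by
  rw [← ht, ← h, Category.assoc, ← Category.assoc ρ, hπ, Category.assoc]

theorem aux4 {T V P R U : Scheme.{u}} {π : P ⟶ V} {v : V ⟶ U} {ρ : P ⟶ R} {t : R ⟶ U} {z : T ⟶ P}
    (hπ : ρ ≫ t = π ≫ v) : (z ≫ ρ) ≫ t = z ≫ π ≫ v := by
  rw [Category.assoc, hπ]

/-- The structure produced in the theorem below. -/
structure Nbhd {S : Scheme.{u}} {R U : Over S} (s t : R ⟶ U) where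
  /-- the etale neighbourhood -/
  V : Over S
  /-- the relation on it -/
  P : Over S
  /-- the etale map -/
  v : V ⟶ U
  /-- the target map -/
  π : P ⟶ V
  /-- the source map -/
  q : P ⟶ V
  etale : Etale v.left
  sep : IsSeparated v.left
  eqv : AlgSp.IsEqvRel q π
  fin : IsFinite π.left
  flat : Flat π.left
  lfp : LocallyOfFinitePresentation π.left
  fin' : IsFinite q.left
  flat' : Flat q.left
  lfp' : LocallyOfFinitePresentation q.left
  le : ∀ {T : Over S} (z : T ⟶ P), ∃ r : T ⟶ R, r ≫ t = z ≫ π ≫ v ∧ r ≫ s = z ≫ q ≫ v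
  isOpen : ∀ {T : Over S} (a b : T ⟶ V) (r : T ⟶ R), r ≫ t = a ≫ v → r ≫ s = b ≫ v →
    ∃ O : T.left.Opens, ∀ ⦃T' : Over S⦄ (g : T' ⟶ T), Set.range g.left ⊆ O ↔
      ∃ z : T' ⟶ P, z ≫ π = g ≫ a ∧ z ≫ q = g ≫ b

theorem exists_nbhd {S : Scheme.{u}} {R U : Over S} {s t : R ⟶ U} (h : AlgSp.IsEqvRel s t) [IsAffine U.left]
    [IsSeparated t.left] [LocallyQuasiFinite t.left] [Flat s.left] [LocallyOfFinitePresentation s.left]
    [Flat t.left] [LocallyOfFinitePresentation t.left] (x : U.left) :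
    ∃ N : Nbhd s t, x ∈ Set.range N.v.left := by
  let D : ∀ d, HilbData t.left d := fun d => (HilbData.exists_hilbData t.left d).some
  obtain ⟨e, he', he⟩ := Eqv.exists_e h
  obtain ⟨d, T, a, ha, y, hy⟩ := HilbData.exists_good D e he x
  obtain ⟨q, hq, hq1, hq2⟩ := HilbData.exists_q h (D d) e he he' inferInstance inferInstance
  let v : ((D d).V e).toScheme ⟶ U.left := (D d).v e
  let V : Over S := Over.mk (v ≫ U.hom)
  let P : Over S := Over.mk ((D d).Pπ e ≫ v ≫ U.hom)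
  let π' : P ⟶ V := Over.homMk ((D d).Pπ e) rfl
  have hqw : q ≫ v ≫ U.hom = (D d).Pπ e ≫ v ≫ U.hom := aux1 (Over.w s) (Over.w t) hq ((D d).Pr_t e)
  let q' : P ⟶ V := Over.homMk q hqw
  let v' : V ⟶ U := Over.homMk v rfl
  have hchar : ∀ {T : Over S} (a b : T ⟶ V), (∃ z : T ⟶ P, z ≫ π' = a ∧ z ≫ q' = b) ↔
      (D d).FE s e a.left b.left := by
    intro T a b
    rw [← HilbData.exists_iff_fe h (D d) e he he' hq hq1 hq2]
    constructor
    · rintro ⟨z, rfl, rfl⟩
      exact ⟨z.left, rfl, rfl⟩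
    · rintro ⟨z, hz1, hz2⟩
      refine ⟨Over.homMk z ?_, ?_, ?_⟩
      · have : a.left ≫ v ≫ U.hom = T.hom := Over.w a
        rw [← this, ← hz1, Category.assoc]
        rfl
      · ext1; exact hz1
      · ext1; exact hz2
  have heqv : AlgSp.IsEqvRel q' π' := by
    refine ⟨fun T r r' h1 h2 => ?_, fun T => ?_⟩
    · ext1
      have h1' : r.left ≫ (D d).Pπ e = r'.left ≫ (D d).Pπ e := congrArg (fun f => f.left) h1
      have h2' : r.left ≫ q = r'.left ≫ q := congrArg (fun f => f.left) h2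
      exact (D d).pt_ext e h1' (Eqv.hom_ext h (aux2 ((D d).Pr_t e) h1') (aux2 hq.symm h2'))
    · have hfe := (D d).fe_equivalence (s := s) e T.left
      refine ⟨fun a => (hchar a a).2 (hfe.refl _), fun {a b} hab => (hchar b a).2 (hfe.symm ((hchar a b).1 hab)),
        fun {a b c} hab hbc => (hchar a c).2 (hfe.trans ((hchar a b).1 hab) ((hchar b c).1 hbc))⟩
  have hf := (HilbData.fin (D d)).1
  have f1 : IsFinite ((D d).Pπ e) := MorphismProperty.pullback_snd _ _ hf.1
  have f2 : Flat ((D d).Pπ e) := MorphismProperty.pullback_snd _ _ hf.2.1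
  have f3 : LocallyOfFinitePresentation ((D d).Pπ e) := MorphismProperty.pullback_snd _ _ hf.2.2
  refine ⟨⟨V, P, v', π', q', (D d).etale_V e, inferInstanceAs (IsSeparated (((D d).V e).ι ≫ (D d).h)), heqv, f1, f2,
    f3, prop_symm heqv @IsFinite f1, prop_symm heqv @Flat f2, prop_symm heqv @LocallyOfFinitePresentation f3,
    ?_, ?_⟩, ?_⟩
  · intro T z
    refine ⟨Over.homMk (z.left ≫ (D d).Pr e) (aux3 (Over.w t) ((D d).Pr_t e) (Over.w z)), ?_, ?_⟩
    · ext1
      exact aux4 ((D d).Pr_t e)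
    · ext1
      exact aux4 hq.symm
  · intro T a b r hr hr'
    obtain ⟨O, hO⟩ := HilbData.exists_open_fe h (D := D d) (e := e) a.left b.left r.left
      (congrArg (fun f => f.left) hr) (congrArg (fun f => f.left) hr')
    refine ⟨O, fun T' g => ?_⟩
    rw [hO g.left, hchar]
    rfl
  · obtain ⟨g, hg⟩ := ha.exists_lift
    refine ⟨g y, ?_⟩
    rw [← hy, ← hg]
    rfl

end K607.ExV
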