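import Groth.Agent.AlgSp.K607.EtaleOf
import Groth.Agent.AlgSp.K607.AffQuot
import Groth.Agent.AlgSp.K607.ExV
import Groth.Agent.AlgSp.K597.EtLoc

/-!
# Etale charts of sheaves with a flat, locally quasi-finite chart
-/

set_option autoImplicit false
universe u

open CategoryTheory CategoryTheory.Limits AlgebraicGeometry Opposite

namespace K607.Chart

open AlgSp K613.Basic K613.Cover K607.ExV

variable {S : Scheme.{u}}

/-- Points of the kernel pair. -/
theorem eq_iff_of_isPullback {F : Sp S} {R U : Over S} {s t : R ⟶ U} {p : (yon S).obj U ⟶ F}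
    (hp : IsPullback ((yon S).map t) ((yon S).map s) p p) {T : Over S} (a b : T ⟶ U) :
    (yon S).map a ≫ p = (yon S).map b ≫ p ↔ ∃ r : T ⟶ R, r ≫ t = a ∧ r ≫ s = b := by
  constructor
  · intro h
    obtain ⟨r, hr⟩ := (yon S).map_surjective (hp.lift _ _ h)
    refine ⟨r, ?_, ?_⟩
    · apply (yon S).map_injective
      rw [Functor.map_comp, hr, hp.lift_fst]
    · apply (yon S).map_injective
      rw [Functor.map_comp, hr, hp.lift_snd]
  · rintro ⟨r, rfl, rfl⟩
    rw [Functor.map_comp, Functor.map_comp, Category.assoc, Category.assoc, hp.w]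

/-- The kernel pair of a map from a scheme is an equivalence relation. -/
theorem isEqvRel_of_isPullback {F : Sp S} {R U : Over S} {s t : R ⟶ U} {p : (yon S).obj U ⟶ F}
    (hp : IsPullback ((yon S).map t) ((yon S).map s) p p) : IsEqvRel s t := by
  refine ⟨fun T r r' h1 h2 => ?_, fun T => ?_⟩
  · apply (yon S).map_injective
    apply hp.hom_ext
    · rw [← Functor.map_comp, ← Functor.map_comp, h1]
    · rw [← Functor.map_comp, ← Functor.map_comp, h2]
  · refine ⟨fun a => (eq_iff_of_isPullback hp a a).1 rfl,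
      fun {a b} h => (eq_iff_of_isPullback hp b a).1 ((eq_iff_of_isPullback hp a b).2 h).symm,
      fun {a b c} h1 h2 => (eq_iff_of_isPullback hp a c).1 (((eq_iff_of_isPullback hp a b).2 h1).trans
        ((eq_iff_of_isPullback hp b c).2 h2))⟩

theorem exists_affine_invariant {R U : Over S} {s t : R ⟶ U} [IsAffine U.left] (N : Nbhd s t) (y : N.V.left) :
    ∃ W : N.V.left.Opens, IsAffineOpen W ∧ y ∈ W ∧ N.q.left ⁻¹ᵁ W = N.π.left ⁻¹ᵁ W := by
  classical
  have i1 := N.etale
  have i2 := N.sep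
  have i3 : LocallyQuasiFinite N.v.left := K597.locallyQuasiFinite_of_etale _
  have j1 := N.fin; have j2 := N.flat; have j3 := N.lfp; have j4 := N.fin'; have j5 := N.flat'; have j6 := N.lfp'
  have hfin : (N.q.left ⁻¹' {y}).Finite := N.q.left.finite_preimage_singleton y
  obtain ⟨V₀, hV₀, hV₀'⟩ := Groth.Agent.S0411.result N.v.left (hfin.toFinset.image N.π.left)
  let G := Eqv.gpd N.eqv
  have k1 : IsFinite G.s := j4
  have k2 : Flat G.s := j5
  have k3 : LocallyOfFinitePresentation G.s := j6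
  have k4 : IsFinite G.t := j1
  have k5 : Flat G.t := j2
  have k6 : LocallyOfFinitePresentation G.t := j3
  obtain ⟨W, hW, hyW, hWW⟩ := Groth.Agent.S1881.result S G y V₀ hV₀ fun r hr => by
    refine hV₀' _ (Finset.mem_image_of_mem _ ?_)
    rw [Set.Finite.mem_toFinset]
    exact hr
  exact ⟨W, hW, hyW, hWW⟩

/-- The etale chart. -/
theorem exists_chart {F : Sp S} (hF : Representable (Limits.diag F)) {R U : Over S} {s t : R ⟶ U}
    {p : (yon S).obj U ⟶ F} (hp : IsPullback ((yon S).map t) ((yon S).map s) p p)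
    (hfl : RepWith @Flat p) (hlfp : RepWith @LocallyOfFinitePresentation p) [IsAffine U.left] (N : Nbhd s t)
    (y : N.V.left) :
    ∃ (M W : Over S) (η : (yon S).obj M ⟶ F) (i : W ⟶ N.V) (ρ : W ⟶ M), RepWith @Etale η ∧
      (yon S).map ρ ≫ η = (yon S).map (i ≫ N.v) ≫ p ∧ y ∈ Set.range i.left := by
  obtain ⟨W₀, hW₀, hy, hWW⟩ := exists_affine_invariant N y
  have j1 := N.fin; have j2 := N.flat; have j3 := N.lfp; have j4 := N.fin'; have j5 := N.flat'; have j6 := N.lfp'
  have hv := N.etale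
  obtain ⟨W, PW, i, j, s', t', hi, ⟨e⟩, hrange, sqs, sqt, heqv⟩ := AffQuot.exists_restrict N.eqv W₀ hWW
  have hWa : IsAffine W.left := by
    have : IsAffine (W₀ : Scheme.{u}) := hW₀
    exact IsAffine.of_isIso e.hom
  have ss := sqs.map (Over.forget S)
  have st := sqt.map (Over.forget S)
  obtain ⟨M, ρ, -, hρ1, hρ2, hρ3, hρ4, sqρ⟩ := AffQuot.exists_quot heqv
    (MorphismProperty.of_isPullback ss j4) (MorphismProperty.of_isPullback ss j5)
    (MorphismProperty.of_isPullback ss j6) (MorphismProperty.of_isPullback st j1)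
    (MorphismProperty.of_isPullback st j2) (MorphismProperty.of_isPullback st j3)
  have hρ : FpC ρ := ⟨hρ2, hρ3, hρ4⟩
  -- equality in `M`
  have key : ∀ {T : Over S} (a b : T ⟶ W), a ≫ ρ = b ≫ ρ ↔ ∃ z : T ⟶ N.P, z ≫ N.π = a ≫ i ∧ z ≫ N.q = b ≫ i := by
    intro T a b
    have him : Mono i := ⟨fun a b hab => by
      ext1
      rw [← cancel_mono i.left]
      exact congrArg (fun f => f.left) hab⟩
    constructor
    · intro hab
      refine ⟨sqρ.lift a b hab ≫ j, ?_, ?_⟩
      · rw [Category.assoc, sqt.w, ← Category.assoc, sqρ.lift_fst]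
      · rw [Category.assoc, sqs.w, ← Category.assoc, sqρ.lift_snd]
    · rintro ⟨z, h1, h2⟩
      have e1 : sqt.lift z a h1 ≫ t' = a := sqt.lift_snd _ _ _
      have e2 : sqt.lift z a h1 ≫ s' = b := by
        rw [← cancel_mono i, Category.assoc, ← sqs.w, ← Category.assoc, sqt.lift_fst, h2]
      rw [← e1, ← e2, Category.assoc, Category.assoc, sqρ.w]
  -- the map `η`
  obtain ⟨η, hη, -⟩ := hρ.glue ((yon S).map (i ≫ N.v) ≫ p) (fun T a b hab => by
    obtain ⟨z, hz1, hz2⟩ := (key a b).1 hab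
    obtain ⟨r, hr1, hr2⟩ := N.le z
    rw [← Category.assoc, ← Category.assoc, ← Functor.map_comp, ← Functor.map_comp]
    refine (eq_iff_of_isPullback hp _ _).2 ⟨r, ?_, ?_⟩
    · rw [hr1, reassoc_of% hz1]
    · rw [hr2, reassoc_of% hz2])
  refine ⟨M, W, η, i, ρ, ?_, hη, by rw [hrange]; exact hy⟩
  have hiv : Etale (i ≫ N.v).left := by
    change Etale (i.left ≫ N.v.left)
    infer_instance
  refine EtaleOf.etale_of hF ρ hρ η ?_ ?_ ?_
  · rw [hη]
    exact MorphismProperty.comp_mem (RepWith @Flat) _ _ ((repWith_yon_map_iff _ _).2 (inferInstance : Flat (i ≫ N.v).left)) hfl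
  · rw [hη]
    exact MorphismProperty.comp_mem (RepWith @LocallyOfFinitePresentation) _ _
      ((repWith_yon_map_iff _ _).2 (inferInstance : LocallyOfFinitePresentation (i ≫ N.v).left)) hlfp
  · intro T w w' hw
    have hw' : (yon S).map (w ≫ i ≫ N.v) ≫ p = (yon S).map (w' ≫ i ≫ N.v) ≫ p := by
      rw [(yon S).map_comp w, (yon S).map_comp w', Category.assoc, Category.assoc, ← hη, ← Category.assoc,
        ← Category.assoc, ← Functor.map_comp, ← Functor.map_comp, hw]
    obtain ⟨r, hr1, hr2⟩ := (eq_iff_of_isPullback hp _ _).1 hw'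
    obtain ⟨O, hO⟩ := N.isOpen (w ≫ i) (w' ≫ i) r (by rw [hr1, Category.assoc]) (by rw [hr2, Category.assoc])
    refine ⟨O, fun {T'} g => ?_⟩
    rw [hO g]
    have hk := key (g ≫ w) (g ≫ w')
    simp only [Category.assoc] at hk
    exact hk.symm

end K607.Chart
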