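import Groth.Agent.AlgSp.K607.FinIso
import Mathlib.AlgebraicGeometry.PullbackCarrier

/-!
# The locus of equality of two finite locally free closed subschemes, one of which is open

`t : R ⟶ U` is a morphism of schemes.  A family over `v : T ⟶ U` is `(W, p : W ⟶ T, r : W ⟶ R)` with `r ≫ t = p ≫ v`.
-/

set_option autoImplicit false
universe u

open CategoryTheory CategoryTheory.Limits AlgebraicGeometry

namespace K607.EqLoc

variable {R U T : Scheme.{u}} {t : R ⟶ U} {v : T ⟶ U}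

/-- The points of the family `(p₁, r₁)` over `g` are points of the family `(p₂, r₂)`. -/
def Le {W₁ W₂ : Scheme.{u}} (p₁ : W₁ ⟶ T) (r₁ : W₁ ⟶ R) (p₂ : W₂ ⟶ T) (r₂ : W₂ ⟶ R) {T' : Scheme.{u}}
    (g : T' ⟶ T) : Prop :=
  ∀ ⦃T'' : Scheme.{u}⦄ (k : T'' ⟶ T') (z : T'' ⟶ W₁), z ≫ p₁ = k ≫ g →
    ∃ z' : T'' ⟶ W₂, z' ≫ p₂ = k ≫ g ∧ z' ≫ r₂ = z ≫ r₁

variable {W₁ W₂ : Scheme.{u}} {p₁ : W₁ ⟶ T} {r₁ : W₁ ⟶ R} {p₂ : W₂ ⟶ T} {r₂ : W₂ ⟶ R}

theorem mem_range_of_le (w₁ : r₁ ≫ t = p₁ ≫ v) (w₂ : r₂ ≫ t = p₂ ≫ v) {T' : Scheme.{u}} (g : T' ⟶ T)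
    (h : Le p₂ r₂ p₁ r₁ g) (z : W₂) (y : T') (hz : p₂ z = g y) :
    pullback.lift r₂ p₂ w₂ z ∈ Set.range (pullback.lift r₁ p₁ w₁) := by
  obtain ⟨z', hz1, hz2⟩ := Scheme.Pullback.exists_preimage_pullback z y hz
  obtain ⟨k, hk1, hk2⟩ := h (pullback.snd p₂ g) (pullback.fst p₂ g) pullback.condition
  have e : pullback.fst p₂ g ≫ pullback.lift r₂ p₂ w₂ = k ≫ pullback.lift r₁ p₁ w₁ := by
    apply pullback.hom_ext
    · rw [Category.assoc, Category.assoc, pullback.lift_fst, pullback.lift_fst, hk2]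
    · rw [Category.assoc, Category.assoc, pullback.lift_snd, pullback.lift_snd, hk1, pullback.condition]
  refine ⟨k z', ?_⟩
  rw [← Scheme.Hom.comp_apply, ← e, Scheme.Hom.comp_apply, hz1]

/-- If `g` lands in the locus where the second family is set theoretically contained in the first, and the first is
open, then the points of the second are points of the first. -/
theorem le_of_range (w₁ : r₁ ≫ t = p₁ ≫ v) (w₂ : r₂ ≫ t = p₂ ≫ v) [IsOpenImmersion (pullback.lift r₁ p₁ w₁)]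
    {T' : Scheme.{u}} (g : T' ⟶ T)
    (h : ∀ (z : W₂) (y : T'), p₂ z = g y → pullback.lift r₂ p₂ w₂ z ∈ Set.range (pullback.lift r₁ p₁ w₁)) :
    Le p₂ r₂ p₁ r₁ g := by
  intro T'' k z hz
  have hr : Set.range (z ≫ pullback.lift r₂ p₂ w₂) ⊆ Set.range (pullback.lift r₁ p₁ w₁) := by
    rintro _ ⟨y, rfl⟩
    rw [Scheme.Hom.comp_apply]
    refine h (z y) (k y) ?_
    rw [← Scheme.Hom.comp_apply, hz, Scheme.Hom.comp_apply]
  have hl := IsOpenImmersion.lift_fac (pullback.lift r₁ p₁ w₁) (z ≫ pullback.lift r₂ p₂ w₂) hr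
  refine ⟨IsOpenImmersion.lift (pullback.lift r₁ p₁ w₁) (z ≫ pullback.lift r₂ p₂ w₂) hr, ?_, ?_⟩
  · have := congrArg (fun f => f ≫ pullback.snd t v) hl
    simp only [Category.assoc, pullback.lift_snd] at this
    rw [this, hz]
  · have := congrArg (fun f => f ≫ pullback.fst t v) hl
    simpa only [Category.assoc, pullback.lift_fst] using this

/-- Inclusion of families of the same degree is equality. -/
theorem le_symm (w₁ : r₁ ≫ t = p₁ ≫ v) (w₂ : r₂ ≫ t = p₂ ≫ v) [IsFinite p₁] [Flat p₁] [IsFinite p₂] [Flat p₂]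
    (hd : ∀ y, p₂.finrank y = p₁.finrank y)
    [Mono (pullback.lift r₁ p₁ w₁)] [Mono (pullback.lift r₂ p₂ w₂)]
    {T' : Scheme.{u}} (g : T' ⟶ T) (h : Le p₂ r₂ p₁ r₁ g) : Le p₁ r₁ p₂ r₂ g := by
  obtain ⟨k, hk1, hk2⟩ := h (pullback.snd p₂ g) (pullback.fst p₂ g) pullback.condition
  let i : pullback p₂ g ⟶ pullback p₁ g := pullback.lift k (pullback.snd p₂ g) hk1
  have hi1 : i ≫ pullback.fst p₁ g = k := pullback.lift_fst _ _ _
  have hi2 : i ≫ pullback.snd p₁ g = pullback.snd p₂ g := pullback.lift_snd _ _ _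
  have f2 : IsFinite (pullback.snd p₂ g) := MorphismProperty.pullback_snd _ _ inferInstance
  have f1 : IsFinite (pullback.snd p₁ g) := MorphismProperty.pullback_snd _ _ inferInstance
  have l2 : Flat (pullback.snd p₂ g) := MorphismProperty.pullback_snd _ _ inferInstance
  have l1 : Flat (pullback.snd p₁ g) := MorphismProperty.pullback_snd _ _ inferInstance
  have fi' : IsFinite (i ≫ pullback.snd p₁ g) := by rw [hi2]; exact f2
  have li' : Flat (i ≫ pullback.snd p₁ g) := by rw [hi2]; exact l2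
  have fi : IsFinite i := IsFinite.of_comp i (pullback.snd p₁ g)
  have mi : Mono i := by
    refine ⟨fun {Z} a b hab => ?_⟩
    have h1 : a ≫ pullback.snd p₂ g = b ≫ pullback.snd p₂ g := by
      rw [← hi2, ← Category.assoc, hab, Category.assoc]
    apply pullback.hom_ext _ h1
    rw [← cancel_mono (pullback.lift r₂ p₂ w₂)]
    apply pullback.hom_ext
    · rw [Category.assoc, Category.assoc, Category.assoc, Category.assoc, pullback.lift_fst, ← hk2, ← hi1,
        Category.assoc, ← Category.assoc, hab, Category.assoc]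
    · rw [Category.assoc, Category.assoc, Category.assoc, Category.assoc, pullback.lift_snd, pullback.condition,
        ← Category.assoc, h1, Category.assoc]
  have ci : IsClosedImmersion i := (IsClosedImmersion.iff_isFinite_and_mono _).2 ⟨fi, mi⟩
  have hiso : IsIso i := by
    refine FinIso.isIso i (pullback.snd p₁ g) fun y => ?_
    have e1 := Scheme.Hom.finrank_pullback_snd p₁ g y
    have e2 := Scheme.Hom.finrank_pullback_snd p₂ g y
    rw [e1, ← hd, ← e2]
    congr 1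
  intro T'' m z hz
  let z1 : T'' ⟶ pullback p₁ g := pullback.lift z m hz
  refine ⟨z1 ≫ inv i ≫ pullback.fst p₂ g, ?_, ?_⟩
  · rw [Category.assoc, Category.assoc, pullback.condition, ← hi2, Category.assoc, IsIso.inv_hom_id_assoc,
      ← Category.assoc, pullback.lift_snd]
  · rw [Category.assoc, Category.assoc, ← hk2, ← hi1, Category.assoc, IsIso.inv_hom_id_assoc, ← Category.assoc,
      pullback.lift_fst]

/-- The locus of equality of two finite locally free families of the same degree, the first of which is open, is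
open. -/
theorem exists_open (w₁ : r₁ ≫ t = p₁ ≫ v) (w₂ : r₂ ≫ t = p₂ ≫ v) [IsFinite p₁] [Flat p₁] [IsFinite p₂] [Flat p₂]
    (hd : ∀ y, p₂.finrank y = p₁.finrank y)
    [IsOpenImmersion (pullback.lift r₁ p₁ w₁)] [Mono (pullback.lift r₂ p₂ w₂)] :
    ∃ O : T.Opens, ∀ ⦃T' : Scheme.{u}⦄ (g : T' ⟶ T), Set.range g ⊆ O ↔ (Le p₁ r₁ p₂ r₂ g ∧ Le p₂ r₂ p₁ r₁ g) := by
  let C : Set W₂ := {z | pullback.lift r₂ p₂ w₂ z ∉ Set.range (pullback.lift r₁ p₁ w₁)}
  have hC : IsClosed C := by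
    have : IsOpen (Set.range (pullback.lift r₁ p₁ w₁)) := (pullback.lift r₁ p₁ w₁).isOpenEmbedding.isOpen_range
    exact (this.preimage (pullback.lift r₂ p₂ w₂).continuous).isClosed_compl
  have hC' : IsClosed (p₂ '' C) := p₂.isClosedMap C hC
  refine ⟨⟨(p₂ '' C)ᶜ, hC'.isOpen_compl⟩, fun T' g => ⟨fun h => ?_, fun h => ?_⟩⟩
  · have h1 : Le p₂ r₂ p₁ r₁ g := by
      refine le_of_range w₁ w₂ g fun z y hzy => ?_
      by_contra hn
      exact h ⟨y, rfl⟩ ⟨z, hn, hzy⟩
    exact ⟨le_symm w₁ w₂ hd g h1, h1⟩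
  · rintro _ ⟨y, rfl⟩ ⟨z, hz, hzy⟩
    exact hz (mem_range_of_le w₁ w₂ g h.2 z y hzy)

end K607.EqLoc
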