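import Groth.Prelude.Def_Grpd
import Groth.Prelude.Def_AlgSp

/-!
# The groupoid scheme of an equivalence relation of schemes
-/

set_option autoImplicit false
set_option linter.unusedSimpArgs false
universe u

open CategoryTheory CategoryTheory.Limits AlgebraicGeometry

namespace K607.Eqv

variable {S : Scheme.{u}} {R U : Over S} {s t : R ⟶ U} (h : AlgSp.IsEqvRel s t)

include h

/-- A morphism to `R` is determined by its composites with `t` and `s`. -/
theorem hom_ext {T : Scheme.{u}} {r r' : T ⟶ R.left} (ht : r ≫ t.left = r' ≫ t.left)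
    (hs : r ≫ s.left = r' ≫ s.left) : r = r' := by
  have hw : r' ≫ R.hom = r ≫ R.hom := by
    rw [← Over.w t, ← Category.assoc, ← ht, Category.assoc]
  have := h.injective (Over.mk (r ≫ R.hom)) (Over.homMk r rfl) (Over.homMk r' hw)
    (by ext1; exact ht) (by ext1; exact hs)
  exact congrArg (fun f => f.left) this

theorem exists_e : ∃ e : U.left ⟶ R.left, e ≫ s.left = 𝟙 _ ∧ e ≫ t.left = 𝟙 _ := by
  obtain ⟨r, hr, hr'⟩ := (h.equivalence U).refl (𝟙 U)
  exact ⟨r.left, congrArg (fun f => f.left) hr', congrArg (fun f => f.left) hr⟩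

theorem exists_i : ∃ i : R.left ⟶ R.left, i ≫ s.left = t.left ∧ i ≫ t.left = s.left := by
  obtain ⟨r, hr, hr'⟩ := (h.equivalence R).symm (x := t) (y := s) ⟨𝟙 R, by simp, by simp⟩
  exact ⟨r.left, congrArg (fun f => f.left) hr', congrArg (fun f => f.left) hr⟩

theorem exists_comp {T : Scheme.{u}} (α β : T ⟶ R.left) (w : α ≫ s.left = β ≫ t.left) :
    ∃ c : T ⟶ R.left, c ≫ s.left = β ≫ s.left ∧ c ≫ t.left = α ≫ t.left := by
  have hw : β ≫ R.hom = α ≫ R.hom := by
    rw [← Over.w t, ← Category.assoc, ← w, Category.assoc, Over.w, Over.w]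
  let α' : Over.mk (α ≫ R.hom) ⟶ R := Over.homMk α rfl
  let β' : Over.mk (α ≫ R.hom) ⟶ R := Over.homMk β hw
  have w' : α' ≫ s = β' ≫ t := by ext1; exact w
  obtain ⟨r, hr, hr'⟩ := (h.equivalence (Over.mk (α ≫ R.hom))).trans
    (x := α' ≫ t) (y := α' ≫ s) (z := β' ≫ s) ⟨α', rfl, rfl⟩ ⟨β', w'.symm, rfl⟩
  exact ⟨r.left, congrArg (fun f => f.left) hr', congrArg (fun f => f.left) hr⟩

/-- The groupoid scheme of an equivalence relation of schemes over `S`. -/
noncomputable def gpd : Grpd.GroupoidScheme S where
  U := U.left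
  R := R.left
  pU := U.hom
  pR := R.hom
  s := s.left
  t := t.left
  e := (exists_e h).choose
  i := (exists_i h).choose
  c := (exists_comp h _ _ (pullback.condition (f := s.left) (g := t.left))).choose
  s_over := Over.w s
  t_over := Over.w t
  comp_s α β w := by
    rw [Category.assoc, (exists_comp h _ _ (pullback.condition (f := s.left) (g := t.left))).choose_spec.1,
      pullback.lift_snd_assoc]
  comp_t α β w := by
    rw [Category.assoc, (exists_comp h _ _ (pullback.condition (f := s.left) (g := t.left))).choose_spec.2,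
      pullback.lift_fst_assoc]
  assoc α β γ h₁ h₂ := by
    have hc := (exists_comp h _ _ (pullback.condition (f := s.left) (g := t.left))).choose_spec
    apply hom_ext h <;> simp only [Category.assoc, hc.1, hc.2, pullback.lift_fst_assoc, pullback.lift_snd_assoc]
  e_s := (exists_e h).choose_spec.1
  e_t := (exists_e h).choose_spec.2
  comp_e α := by
    have hc := (exists_comp h _ _ (pullback.condition (f := s.left) (g := t.left))).choose_spec
    have he := (exists_e h).choose_spec
    apply hom_ext h <;> simp only [Category.assoc, hc.1, hc.2, pullback.lift_fst_assoc,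
      pullback.lift_snd_assoc, he.1, he.2, Category.comp_id]
  e_comp α := by
    have hc := (exists_comp h _ _ (pullback.condition (f := s.left) (g := t.left))).choose_spec
    have he := (exists_e h).choose_spec
    apply hom_ext h <;> simp only [Category.assoc, hc.1, hc.2, pullback.lift_fst_assoc,
      pullback.lift_snd_assoc, he.1, he.2, Category.comp_id]
  i_s := (exists_i h).choose_spec.1
  i_t := (exists_i h).choose_spec.2
  comp_i α := by
    have hc := (exists_comp h _ _ (pullback.condition (f := s.left) (g := t.left))).choose_spec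
    have he := (exists_e h).choose_spec
    have hi := (exists_i h).choose_spec
    apply hom_ext h <;> simp only [Category.assoc, hc.1, hc.2, pullback.lift_fst_assoc,
      pullback.lift_snd_assoc, he.1, he.2, hi.1, hi.2, Category.comp_id]
  i_comp α := by
    have hc := (exists_comp h _ _ (pullback.condition (f := s.left) (g := t.left))).choose_spec
    have he := (exists_e h).choose_spec
    have hi := (exists_i h).choose_spec
    apply hom_ext h <;> simp only [Category.assoc, hc.1, hc.2, pullback.lift_fst_assoc,
      pullback.lift_snd_assoc, he.1, he.2, hi.1, hi.2, Category.comp_id]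

@[simp] theorem gpd_U : (gpd h).U = U.left := rfl
@[simp] theorem gpd_R : (gpd h).R = R.left := rfl
@[simp] theorem gpd_s : (gpd h).s = s.left := rfl
@[simp] theorem gpd_t : (gpd h).t = t.left := rfl
@[simp] theorem gpd_pU : (gpd h).pU = U.hom := rfl
@[simp] theorem gpd_pR : (gpd h).pR = R.hom := rfl

omit h in
theorem comp_eq_of_comp_eq {A B C D : Scheme.{u}} {j : B ⟶ C} {f : C ⟶ D} {t : B ⟶ D} (h1 : j ≫ f = t)
    {a b : A ⟶ B} (w : a ≫ j = b ≫ j) : a ≫ t = b ≫ t := by
  rw [← h1, reassoc_of% w]

theorem mono_j : Mono (gpd h).j := by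
  have h1 : (gpd h).j ≫ pullback.fst _ _ = t.left := pullback.lift_fst _ _ _
  have h2 : (gpd h).j ≫ pullback.snd _ _ = s.left := pullback.lift_snd _ _ _
  exact ⟨fun {Z} a b w => hom_ext h (comp_eq_of_comp_eq h1 w) (comp_eq_of_comp_eq h2 w)⟩

end K607.Eqv
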