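import Groth.Agent.AlgSp.K613.Cover
import Groth.Agent.AlgSp.K629.SchDesc
import Mathlib.CategoryTheory.Limits.Constructions.Over.Connected

/-!
# A criterion for a map from a scheme to a sheaf to be etale
-/

set_option autoImplicit false
universe u

open CategoryTheory CategoryTheory.Limits AlgebraicGeometry Opposite

namespace K607.EtaleOf

open AlgSp K613.Basic K613.Cover

variable {S : Scheme.{u}}

theorem mono_left {X Y : Over S} (f : X ⟶ Y) [Mono f] : Mono f.left := inferInstance

/-- If the locus where two points of a scheme over `T` coincide is open, the diagonal is an open immersion; here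
`N ⟶ T` is a morphism of schemes over `S`, and the condition may be checked after an fppf cover. -/
theorem isOpenImmersion_of_open {N Y Y' : Over S} (δ : N ⟶ Y) [Mono δ] (c : Y' ⟶ Y) (hc : FpC c) (O : Y'.left.Opens)
    (h1 : ∀ {T : Over S} (g : T ⟶ Y') (n : T ⟶ N), n ≫ δ = g ≫ c → Set.range g.left ⊆ O)
    (h2 : ∀ {T : Over S} (g : T ⟶ Y'), Set.range g.left ⊆ O → ∃ n : T ⟶ N, n ≫ δ = g ≫ c) :
    IsOpenImmersion δ.left := by
  have sq := IsPullback.of_hasPullback δ c
  have hr : Set.range (pullback.snd δ c).left ⊆ Set.range O.ι := by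
    rw [Scheme.Opens.range_ι]
    exact h1 _ _ pullback.condition
  let l := IsOpenImmersion.lift O.ι (pullback.snd δ c).left hr
  have hl : l ≫ O.ι = (pullback.snd δ c).left := IsOpenImmersion.lift_fac _ _ _
  let O' : Over S := Over.mk (O.ι ≫ Y'.hom)
  let o : O' ⟶ Y' := Over.homMk O.ι rfl
  obtain ⟨n, hn⟩ := h2 o (by
    change Set.range O.ι ⊆ O
    rw [Scheme.Opens.range_ι])
  let k : O' ⟶ pullback δ c := pullback.lift n o hn
  have hk : k.left ≫ (pullback.snd δ c).left = O.ι :=
    congrArg (fun f => f.left) (pullback.lift_snd n o hn : k ≫ pullback.snd δ c = o)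
  have hm : Mono (pullback.snd δ c) := inferInstance
  have hm' : Mono (pullback.snd δ c).left := mono_left _
  have e1 : l ≫ k.left = 𝟙 _ := by
    rw [← cancel_mono (pullback.snd δ c).left, Category.assoc, hk, hl, Category.id_comp]
  have e2 : k.left ≫ l = 𝟙 _ := by
    rw [← cancel_mono O.ι, Category.assoc, hl, hk, Category.id_comp]
  have : IsIso l := ⟨_, e1, e2⟩
  have h3 : IsOpenImmersion (pullback.snd δ c).left := by rw [← hl]; infer_instance
  exact MorphismProperty.of_isPullback_of_descendsAlong (P := @IsOpenImmersion) (Q := fppf)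
    (sq.map (Over.forget S)).flip hc.mem h3

/-- The criterion. -/
theorem etale_of {F : Sp S} (hF : Representable (Limits.diag F)) {W M : Over S} (ρ : W ⟶ M) (hρ : FpC ρ)
    (η : (yon S).obj M ⟶ F) (hfl : RepWith @Flat ((yon S).map ρ ≫ η))
    (hlfp : RepWith @LocallyOfFinitePresentation ((yon S).map ρ ≫ η))
    (hopen : ∀ {T : Over S} (w w' : T ⟶ W), (yon S).map (w ≫ ρ) ≫ η = (yon S).map (w' ≫ ρ) ≫ η →
      ∃ O : T.left.Opens, ∀ {T' : Over S} (g : T' ⟶ T), Set.range g.left ⊆ O ↔ g ≫ w ≫ ρ = g ≫ w' ≫ ρ) :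
    RepWith @Etale η := by
  refine ⟨Functor.relativelyRepresentable.of_diag hF η, fun T N g fst snd sq => ?_⟩
  obtain ⟨m, rfl⟩ := (yon S).map_surjective fst
  -- flatness and finite presentation
  have s1 := IsPullback.of_hasPullback ρ m
  have s2 : IsPullback ((yon S).map (pullback.fst ρ m)) ((yon S).map (pullback.snd ρ m ≫ snd))
      ((yon S).map ρ ≫ η) g := by
    rw [Functor.map_comp]
    exact (s1.map (yon S)).paste_vert sq
  have hb : FpC (pullback.snd ρ m) := hρ.of_isPullback s1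
  have f1 : Flat snd.left := K629.SchDesc.flat (pullback.snd ρ m).left snd.left hb.flat hb.surj (hfl.2 _ _ _ s2)
  have f2 : LocallyOfFinitePresentation snd.left :=
    K629.SchDesc.lfp (pullback.snd ρ m).left snd.left hb.flat hb.lfp hb.surj (hlfp.2 _ _ _ s2)
  -- the diagonal
  have hinj : ∀ {Z : Over S} (a b : Z ⟶ N), a ≫ m = b ≫ m → a ≫ snd = b ≫ snd → a = b := by
    intro Z a b h1 h2
    apply (yon S).map_injective
    apply sq.hom_ext
    · rw [← Functor.map_comp, ← Functor.map_comp, h1]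
    · rw [← Functor.map_comp, ← Functor.map_comp, h2]
  let Y := pullback snd snd
  let y₁ : Y ⟶ N := pullback.fst _ _
  let y₂ : Y ⟶ N := pullback.snd _ _
  have hy : y₁ ≫ snd = y₂ ≫ snd := pullback.condition
  let Y₁ := pullback ρ (y₁ ≫ m)
  let c₁ : Y₁ ⟶ Y := pullback.snd _ _
  let Y' := pullback ρ (c₁ ≫ y₂ ≫ m)
  let c₂ : Y' ⟶ Y₁ := pullback.snd _ _
  obtain ⟨c, hcd⟩ : ∃ c : Y' ⟶ Y, c = c₂ ≫ c₁ := ⟨_, rfl⟩
  have hc₁ : FpC c₁ := hρ.of_isPullback (IsPullback.of_hasPullback _ _)
  have hc₂ : FpC c₂ := hρ.of_isPullback (IsPullback.of_hasPullback _ _)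
  have hc : FpC c := hcd ▸ hc₁.comp hc₂
  let w₁ : Y' ⟶ W := c₂ ≫ pullback.fst _ _
  let w₂ : Y' ⟶ W := pullback.fst _ _
  have hw₁ : w₁ ≫ ρ = c ≫ y₁ ≫ m := by
    change (c₂ ≫ pullback.fst _ _) ≫ ρ = c ≫ y₁ ≫ m
    rw [hcd, Category.assoc, pullback.condition, Category.assoc]
  have hw₂ : w₂ ≫ ρ = c ≫ y₂ ≫ m := by
    change pullback.fst _ _ ≫ ρ = c ≫ y₂ ≫ m
    rw [hcd, pullback.condition, Category.assoc]
  have hη : ∀ {Z : Over S} (a : Z ⟶ N), (yon S).map (a ≫ m) ≫ η = (yon S).map (a ≫ snd) ≫ g := by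
    intro Z a
    rw [Functor.map_comp, Category.assoc, sq.w, Functor.map_comp, Category.assoc]
  obtain ⟨O, hO⟩ := hopen w₁ w₂ (by
    rw [hw₁, hw₂, ← Category.assoc, ← Category.assoc, hη, hη, Category.assoc, Category.assoc, hy])
  let δ : N ⟶ Y := pullback.lift (𝟙 N) (𝟙 N) rfl
  have hδ1 : δ ≫ y₁ = 𝟙 N := pullback.lift_fst _ _ _
  have hδ2 : δ ≫ y₂ = 𝟙 N := pullback.lift_snd _ _ _
  have hδm : Mono δ := by
    refine ⟨fun a b hab => ?_⟩
    have := congrArg (fun f => f ≫ y₁) hab
    simpa only [Category.assoc, hδ1, Category.comp_id] using this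
  have hδo : IsOpenImmersion δ.left := by
    refine isOpenImmersion_of_open δ c hc O (fun {Z} z n hn => ?_) (fun {Z} z hz => ?_)
    · rw [hO z, hw₁, hw₂, ← reassoc_of% hn, ← reassoc_of% hn, reassoc_of% hδ1, reassoc_of% hδ2]
    · rw [hO z, hw₁, hw₂] at hz
      have : z ≫ c ≫ y₁ = z ≫ c ≫ y₂ := by
        refine hinj _ _ (by simpa only [Category.assoc] using hz) ?_
        simp only [Category.assoc, hy]
      refine ⟨z ≫ c ≫ y₁, ?_⟩
      apply pullback.hom_ext
      · change ((z ≫ c ≫ y₁) ≫ δ) ≫ y₁ = (z ≫ c) ≫ y₁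
        rw [Category.assoc, hδ1, Category.comp_id, Category.assoc]
      · change ((z ≫ c ≫ y₁) ≫ δ) ≫ y₂ = (z ≫ c) ≫ y₂
        rw [Category.assoc, hδ2, Category.comp_id, this, Category.assoc]
  have hd : IsOpenImmersion (pullback.diagonal snd.left) := by
    have sqY : IsPullback y₁.left y₂.left snd.left snd.left := (IsPullback.of_hasPullback snd snd).map (Over.forget S)
    have : pullback.diagonal snd.left = δ.left ≫ sqY.isoPullback.hom := by
      apply pullback.hom_ext
      · rw [Category.assoc, IsPullback.isoPullback_hom_fst, pullback.diagonal_fst]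
        exact (congrArg (fun f => f.left) hδ1).symm
      · rw [Category.assoc, IsPullback.isoPullback_hom_snd, pullback.diagonal_snd]
        exact (congrArg (fun f => f.left) hδ2).symm
    rw [this]
    infer_instance
  have hu : FormallyUnramified snd.left := inferInstance
  exact Etale.of_formallyUnramified_of_flat snd.left

end K607.EtaleOf
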