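import Mathlib.AlgebraicGeometry.Morphisms.FlatRank
import Mathlib.AlgebraicGeometry.Morphisms.ClosedImmersion
import Mathlib.RingTheory.Flat.LocallyFree

/-!
# A closed immersion between finite locally free schemes of the same degree is an isomorphism
-/

set_option autoImplicit false
universe u

open CategoryTheory CategoryTheory.Limits AlgebraicGeometry

namespace K607.FinIso

theorem isIso_of_ring (R B₁ B₂ : Type u) [CommRing R] [CommRing B₁] [CommRing B₂] [Algebra R B₁] [Algebra R B₂]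
    (ψ : B₁ →ₐ[R] B₂) (hψ : Function.Surjective ψ) [Module.Finite R B₁] [Module.Flat R B₁]
    [Module.Finite R B₂] [Module.Flat R B₂]
    (h : ∀ x : PrimeSpectrum R, Module.rankAtStalk B₁ x = Module.rankAtStalk (R := R) B₂ x) :
    Function.Bijective ψ :=
  Module.bijective_of_surjective_of_rankAtStalk_eq (φ := ψ.toLinearMap) hψ fun _ _ => h _

theorem isIso_spec {Z₁ Z₂ : Scheme.{u}} {R : CommRingCat.{u}} (i : Z₂ ⟶ Z₁) [IsClosedImmersion i]
    (f : Z₁ ⟶ Spec R) [IsFinite f] [Flat f] [IsFinite (i ≫ f)] [Flat (i ≫ f)]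
    (h : ∀ y, (i ≫ f).finrank y = f.finrank y) : IsIso i := by
  have : IsAffine Z₁ := isAffine_of_isAffineHom f
  have : IsAffine Z₂ := isAffine_of_isAffineHom i
  -- replace by spectra
  obtain ⟨φ, hφ⟩ := Spec.map_surjective (Z₁.isoSpec.inv ≫ f)
  obtain ⟨ψ, hψ⟩ : ∃ ψ, Spec.map ψ = Z₂.isoSpec.inv ≫ i ≫ Z₁.isoSpec.hom :=
    ⟨i.appTop, by rw [← Scheme.isoSpec_hom_naturality, Iso.inv_hom_id_assoc]⟩
  have hi : i = Z₂.isoSpec.hom ≫ Spec.map ψ ≫ Z₁.isoSpec.inv := by
    rw [hψ]; simp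
  have hsurj : Function.Surjective ψ.hom := by
    have h := (IsClosedImmersion.isAffine_surjective_of_isAffine (f := i)).2
    have : ψ = i.appTop := Spec.map_injective (by rw [hψ, ← Scheme.isoSpec_hom_naturality, Iso.inv_hom_id_assoc])
    rw [this]; exact h
  have h1 : IsFinite (Spec.map φ) := by rw [hφ]; infer_instance
  have h2 : Flat (Spec.map φ) := by rw [hφ]; infer_instance
  have hc : Spec.map ψ ≫ Spec.map φ = Z₂.isoSpec.inv ≫ i ≫ f := by rw [hφ, hψ]; simp
  have h3 : IsFinite (Spec.map (φ ≫ ψ)) := by rw [Spec.map_comp, hc]; infer_instance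
  have h4 : Flat (Spec.map (φ ≫ ψ)) := by rw [Spec.map_comp, hc]; infer_instance
  have h5 : ∀ y, (Spec.map (φ ≫ ψ)).finrank y = (Spec.map φ).finrank y := by
    intro y
    have e1 := Scheme.Hom.finrank_comp_left_of_isIso Z₂.isoSpec.inv (i ≫ f)
    have e2 := Scheme.Hom.finrank_comp_left_of_isIso Z₁.isoSpec.inv f
    rw [Spec.map_comp, hc, hφ, e1, e2, h]
  rw [IsFinite.SpecMap_iff] at h1 h3
  rw [Flat.SpecMap_iff] at h2 h4
  algebraize [φ.hom, (φ ≫ ψ).hom]
  let ψ' : Γ(Z₁, ⊤) →ₐ[R] Γ(Z₂, ⊤) := { ψ.hom with commutes' := fun r => rfl }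
  have hb : Function.Bijective ψ' := by
    refine isIso_of_ring R _ _ ψ' hsurj fun x => ?_
    rw [← Scheme.Hom.finrank_SpecMap_algebraMap, ← Scheme.Hom.finrank_SpecMap_algebraMap]
    exact (h5 x).symm
  have : IsIso ψ := by
    rw [ConcreteCategory.isIso_iff_bijective]
    exact hb
  rw [hi]
  exact (Z₂.isoSpec ≪≫ asIso (Spec.map ψ) ≪≫ Z₁.isoSpec.symm).isIso_hom

theorem isIso_pullback {Z₁ Z₂ Y : Scheme.{u}} (i : Z₂ ⟶ Z₁) [IsClosedImmersion i]
    (f : Z₁ ⟶ Y) [IsFinite f] [Flat f] [IsFinite (i ≫ f)] [Flat (i ≫ f)]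
    (h : ∀ y, (i ≫ f).finrank y = f.finrank y) {R : CommRingCat.{u}} (g : Spec R ⟶ Y) :
    IsIso (pullback.snd i (pullback.fst f g)) := by
  have h1 : IsClosedImmersion (pullback.snd i (pullback.fst f g)) := inferInstance
  have sq : IsPullback (pullback.fst i (pullback.fst f g))
      (pullback.snd i (pullback.fst f g) ≫ pullback.snd f g) (i ≫ f) g :=
    (IsPullback.of_hasPullback i (pullback.fst f g)).flip.paste_horiz
      (IsPullback.of_hasPullback f g).flip |>.flip
  have h2 : IsFinite (pullback.snd i (pullback.fst f g) ≫ pullback.snd f g) :=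
    MorphismProperty.of_isPullback sq inferInstance
  have h3 : Flat (pullback.snd i (pullback.fst f g) ≫ pullback.snd f g) :=
    MorphismProperty.of_isPullback sq inferInstance
  have h4 : IsFinite (pullback.snd f g) := MorphismProperty.pullback_snd _ _ inferInstance
  have h5 : Flat (pullback.snd f g) := MorphismProperty.pullback_snd _ _ inferInstance
  refine isIso_spec _ (pullback.snd f g) fun y => ?_
  have e1 := Scheme.Hom.finrank_of_isPullback _ _ _ _ sq y
  have e2 := Scheme.Hom.finrank_pullback_snd f g y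
  rw [e1, e2, h]

theorem isIso {Z₁ Z₂ Y : Scheme.{u}} (i : Z₂ ⟶ Z₁) [IsClosedImmersion i]
    (f : Z₁ ⟶ Y) [IsFinite f] [Flat f] [IsFinite (i ≫ f)] [Flat (i ≫ f)]
    (h : ∀ y, (i ≫ f).finrank y = f.finrank y) : IsIso i := by
  let 𝒰 := Y.affineCover.pullback₁ f
  refine (IsZariskiLocalAtTarget.iff_of_openCover (P := .isomorphisms _) 𝒰).mpr fun j => ?_
  exact isIso_pullback i f h (Y.affineCover.f j)

end K607.FinIso
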