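import Groth.Agent.AlgSp.K607.FpCover

/-!
# Descent of algebraic spaces and of representability by algebraic spaces along flat finitely presented covers
-/

set_option autoImplicit false
universe u

open CategoryTheory CategoryTheory.Limits AlgebraicGeometry Opposite

namespace K607.FpDesc

open AlgSp

variable {S : Scheme.{u}}

theorem repBySpWith_of_isPullback {Q : MorphismProperty (Sp S)} {F G F' G' : PSp S} {a : F ⟶ G} {g : G' ⟶ G}
    {fst : F' ⟶ F} {a' : F' ⟶ G'} (sq : IsPullback fst a' a g) (ha : RepBySpWith Q a) : RepBySpWith Q a' :=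
  fun _ ξ _ _ _ sq' => ha (ξ ≫ g) _ _ (sq'.paste_horiz sq)

/-- S10106. -/
theorem repBySp_of_comp {F G H : Sp S} (a : F ⟶ G) (b : G ⟶ H)
    (ha : RepBySpWith (IsSurjectiveMor ⊓ LocP @Flat ⊓ LocP @LocallyOfFinitePresentation) a.hom)
    (hab : RepBySp (a ≫ b).hom) : RepBySp b.hom := by
  rw [repBySp_hom_iff] at hab ⊢
  intro U ξ G' fst snd sq
  have sq' := IsPullback.of_hasPullback a fst
  have h1 : IsAlgSpace (pullback a fst) := hab ξ _ _ (sq'.paste_vert sq)
  exact FpCover.isAlgSpace_of_repBySpWith h1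
    (repBySpWith_of_isPullback (sq'.map (sheafToPresheaf (J S) (Type (u + 1)))) ha)

/-- A representable flat, locally finitely presented surjective map. -/
theorem repBySpWith_of_repWith {F G : Sp S} {f : F ⟶ G} (h1 : RepWith @Flat f)
    (h2 : RepWith @LocallyOfFinitePresentation f) (h3 : RepWith @Surjective f) :
    RepBySpWith (IsSurjectiveMor ⊓ LocP @Flat ⊓ LocP @LocallyOfFinitePresentation) f.hom := by
  rw [repBySpWith_hom_iff]
  intro U ξ F' fst snd sq
  refine ⟨(repBySp_hom_iff f).1 (Representable.repBySp h1.1) ξ fst snd sq, ⟨?_, ?_⟩, ?_⟩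
  · exact K596.Pts.surjective_of_repWith (K597.repWith_bc _ sq h3)
  · exact K597.locP_of_repWith K597.etLoc_flat.precomp (K597.repWith_bc _ sq h1)
  · exact K597.locP_of_repWith K597.etLoc_lfp.precomp (K597.repWith_bc _ sq h2)

theorem isAlgSpace_of_repWith {F X : Sp S} (hX : IsAlgSpace X) {p : X ⟶ F} (h1 : RepWith @Flat p)
    (h2 : RepWith @LocallyOfFinitePresentation p) (h3 : RepWith @Surjective p) : IsAlgSpace F :=
  FpCover.isAlgSpace_of_repBySpWith hX (repBySpWith_of_repWith h1 h2 h3)

theorem isPullback_prodMap_left {C : Type*} [Category C] [HasBinaryProducts C] {X Y : C} (f : X ⟶ Y) (F : C) :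
    IsPullback (prod.fst : X ⨯ F ⟶ X) (prod.map f (𝟙 F)) f prod.fst := by
  refine IsPullback.of_isLimit' ⟨by simp⟩ ?_
  refine PullbackCone.IsLimit.mk _ (fun s => prod.lift s.fst (s.snd ≫ prod.snd))
    (fun s => by rw [prod.lift_fst]) (fun s => ?_) (fun s m h1 h2 => ?_)
  · apply Limits.prod.hom_ext
    · rw [Category.assoc, prod.map_fst, prod.lift_fst_assoc, s.condition]
    · rw [Category.assoc, prod.map_snd, prod.lift_snd_assoc, Category.comp_id]
  · apply Limits.prod.hom_ext
    · rw [prod.lift_fst, h1]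
    · rw [← h2, Category.assoc, prod.lift_snd, prod.map_snd, Category.comp_id]

/-- The product of a sheaf with a disjoint union of schemes. -/
theorem isAlgSpace_sig_prod {F : Sp S} {ι : Type u} (V : ι → Over S)
    (h : ∀ i, IsAlgSpace ((yon S).obj (V i) ⨯ F)) : IsAlgSpace ((yon S).obj (K594.Cover.sig V) ⨯ F) := by
  refine K594.Atlas.isAlgSpace_of_family (fun i => prod.map ((yon S).map (K594.Cover.sigι V i)) (𝟙 F)) h
    (fun i => ?_) (fun {T} y => ?_)
  · refine K597.repWith_bc _ (isPullback_prodMap_left _ _) ((repWith_yon_map_iff _ _).2 ?_)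
    exact inferInstanceAs (Etale (Sigma.ι (fun i => (V i).left) i))
  · obtain ⟨T', g, k, sq, hg⟩ := K594.FamRep.exists_pieces V
      ((prod.fst : (yon S).obj (K594.Cover.sig V) ⨯ F ⟶ _).hom.app (op T) y).down
    choose x hx1 hx2 using fun i => K594.Diag.exists_prod (F := (yon S).obj (V i)) (G := F) (T := T' i) ⟨k i⟩
      (F.obj.map (g i).op ((prod.snd : (yon S).obj (K594.Cover.sig V) ⨯ F ⟶ _).hom.app (op T) y))
    refine ⟨ι, T', g, hg, id, x, fun i => ?_⟩
    apply K594.Diag.prod_ext
    · rw [← K594.Elem.comp_app, prod.map_fst, K594.Elem.comp_app, K594.Elem.app_map]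
      exact (congrArg (((yon S).map (K594.Cover.sigι V i)).hom.app (op (T' i))) (hx1 i)).trans
        (congrArg ULift.up (sq i).w)
    · rw [← K594.Elem.comp_app, prod.map_snd, K594.Elem.comp_app, K594.Elem.app_map]
      exact hx2 i

/-- S10105: being an algebraic space is fppf local on the base. -/
theorem isAlgSpace_of_local {F : Sp S} {ι : Type u} (V : ι → Over S) (hfl : ∀ i, Flat (V i).hom)
    (hfp : ∀ i, LocallyOfFinitePresentation (V i).hom)
    (hsurj : ∀ x : ↥S, ∃ (i : ι) (y : ↥(V i).left), (V i).hom.base y = x)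
    (halg : ∀ i, IsAlgSpace ((yon S).obj (V i) ⨯ F)) : IsAlgSpace F := by
  have h1 := isAlgSpace_sig_prod V halg
  have h2 : K594.Cover.Fam (fun i => (Over.mkIdTerminal.from (V i) : V i ⟶ Over.mk (𝟙 S))) := by
    have h3 : ∀ i, (Over.mkIdTerminal.from (V i) : V i ⟶ Over.mk (𝟙 S)).left = (V i).hom := fun i => by
      have := Over.w (Over.mkIdTerminal.from (V i) : V i ⟶ Over.mk (𝟙 S))
      rw [← this]
      exact (Category.comp_id _).symm
    refine ⟨fun i => by rw [h3]; exact hfl i, fun i => by rw [h3]; exact hfp i, fun x => ?_⟩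
    obtain ⟨i, y, hy⟩ := hsurj x
    exact ⟨i, y, by rw [h3]; exact hy⟩
  have h4 := h2.cov
  have sq : IsPullback (prod.fst : (yon S).obj (K594.Cover.sig V) ⨯ F ⟶ _) prod.snd
      ((yon S).map (K594.Cover.sigDesc fun i => (Over.mkIdTerminal.from (V i) : V i ⟶ Over.mk (𝟙 S))))
      ((K596.QC2.isTerminalYon S).from F) := by
    have h5 := IsPullback.of_isLimit_binaryFan_of_isTerminal (limit.isLimit (pair ((yon S).obj (K594.Cover.sig V)) F))
      (K596.QC2.isTerminalYon S)
    rw [show (yon S).map (K594.Cover.sigDesc fun i => (Over.mkIdTerminal.from (V i) : V i ⟶ Over.mk (𝟙 S))) =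
      (K596.QC2.isTerminalYon S).from _ from (K596.QC2.isTerminalYon S).hom_ext _ _]
    exact h5
  refine isAlgSpace_of_repWith h1 (K597.repWith_bc _ sq ((repWith_yon_map_iff _ _).2 h4.flat))
    (K597.repWith_bc _ sq ((repWith_yon_map_iff _ _).2 h4.lfp))
    (K597.repWith_bc _ sq ((repWith_yon_map_iff _ _).2 h4.surj))

end K607.FpDesc
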