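import Groth.Agent.AlgSp.K607.Act
import Groth.Agent.AlgSp.K607.SpKer

/-!
# Quotients of algebraic spaces by free actions of flat, locally finitely presented groups
-/

set_option autoImplicit false
universe u

open CategoryTheory CategoryTheory.Limits AlgebraicGeometry Opposite MonoidalCategory
  CartesianMonoidalCategory MonObj AlgSp

namespace K607.FreeQuot

open K607.Act

variable {S : Scheme.{u}} {B : Sp S} {G X : Over B} [GrpObj G] (a : GAction G X)

/-- The involution `(g, x) ↦ (g⁻¹, g x)`. -/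
noncomputable def inv : G ⊗ X ⟶ G ⊗ X := lift (fst G X)⁻¹ a.act

theorem lift_act {T : Over B} (g : T ⟶ G) (x : T ⟶ X) : lift g x ≫ inv a = lift g⁻¹ (lift g x ≫ a.act) := by
  rw [inv, comp_lift]
  congr 1
  rw [GrpObj.comp_inv, lift_fst]

theorem inv_snd : inv a ≫ snd G X = a.act := lift_snd _ _

theorem inv_inv : inv a ≫ inv a = 𝟙 _ := by
  have h1 : (𝟙 (G ⊗ X)) = lift (fst G X) (snd G X) := by simp
  have h2 : inv a = lift (fst G X) (snd G X) ≫ inv a := by rw [← h1, Category.id_comp]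
  have h3 : inv a = lift (fst G X)⁻¹ (lift (fst G X) (snd G X) ≫ a.act) := by
    rw [← h1, Category.id_comp]; rfl
  calc inv a ≫ inv a = lift (fst G X)⁻¹ (lift (fst G X) (snd G X) ≫ a.act) ≫ inv a := by rw [← h3]
    _ = lift ((fst G X)⁻¹)⁻¹ (lift (fst G X)⁻¹ (lift (fst G X) (snd G X) ≫ a.act) ≫ a.act) := lift_act a _ _
    _ = 𝟙 _ := by rw [← act_mul, inv_mul_cancel, act_one, _root_.inv_inv, ← h1]

instance isIso_inv : IsIso (inv a) := ⟨inv a, inv_inv a, inv_inv a⟩

/-- A free action defines an equivalence relation. -/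
theorem isEqvRelSp (ha : a.IsFree) : IsEqvRelSp (snd G X).left a.act.left := by
  refine ⟨fun T r r' h1 h2 => ?_, fun T => ⟨fun x => ?_, ?_, ?_⟩⟩
  · have := mono_shear a ha
    rw [← cancel_mono (lift a.act (snd G X)).left]
    apply pullback.hom_ext
    · have e1 : (lift a.act (snd G X)).left ≫ pullback.fst X.hom X.hom = a.act.left :=
        congrArg (fun k => k.left) (lift_fst a.act (snd G X))
      rw [Category.assoc, Category.assoc, e1, h1]
    · have e1 : (lift a.act (snd G X)).left ≫ pullback.snd X.hom X.hom = (snd G X).left :=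
        congrArg (fun k => k.left) (lift_snd a.act (snd G X))
      rw [Category.assoc, Category.assoc, e1, h2]
  · let x' : Over.mk (x ≫ X.hom) ⟶ X := Over.homMk x rfl
    refine ⟨(lift (1 : Over.mk (x ≫ X.hom) ⟶ G) x').left, ?_, ?_⟩
    · exact congrArg (fun k => k.left) (act_one a x')
    · exact congrArg (fun k => k.left) (lift_snd (1 : Over.mk (x ≫ X.hom) ⟶ G) x')
  · rintro x y ⟨r, rfl, rfl⟩
    refine ⟨r ≫ (inv a).left, ?_, ?_⟩
    · have h1 : inv a ≫ a.act = snd G X := by
        rw [← inv_snd, ← Category.assoc, inv_inv, Category.id_comp]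
      rw [Category.assoc]
      exact congrArg (fun k => r ≫ k.left) h1
    · rw [Category.assoc]
      exact congrArg (fun k => r ≫ k.left) (inv_snd a)
  · rintro x y z ⟨r, rfl, rfl⟩ ⟨r', h, rfl⟩
    have hβ : r' ≫ (G ⊗ X).hom = r ≫ (G ⊗ X).hom := by
      have w1 : r' ≫ (G ⊗ X).hom = (r' ≫ a.act.left) ≫ X.hom := by rw [Category.assoc, Over.w a.act]
      have w2 : r ≫ (G ⊗ X).hom = (r ≫ (snd G X).left) ≫ X.hom := by rw [Category.assoc, Over.w (snd G X)]
      rw [w1, w2, h]
    let r₁ : Over.mk (r ≫ (G ⊗ X).hom) ⟶ G ⊗ X := Over.homMk r rfl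
    let r₂ : Over.mk (r ≫ (G ⊗ X).hom) ⟶ G ⊗ X := Over.homMk r' hβ
    have h' : r₂ ≫ a.act = r₁ ≫ snd G X := by ext1; exact h
    have e1 : r₁ = lift (r₁ ≫ fst G X) (r₁ ≫ snd G X) := by simp [← comp_lift]
    have e2 : r₂ = lift (r₂ ≫ fst G X) (r₂ ≫ snd G X) := by simp [← comp_lift]
    refine ⟨(lift ((r₁ ≫ fst G X) * (r₂ ≫ fst G X)) (r₂ ≫ snd G X)).left, ?_, ?_⟩
    · have h3 : lift ((r₁ ≫ fst G X) * (r₂ ≫ fst G X)) (r₂ ≫ snd G X) ≫ a.act = r₁ ≫ a.act := by
        rw [act_mul, ← e2, h', ← e1]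
      exact congrArg (fun k => k.left) h3
    · exact congrArg (fun k => k.left) (lift_snd ((r₁ ≫ fst G X) * (r₂ ≫ fst G X)) (r₂ ≫ snd G X))

theorem isPullback_tensor (G X : Over B) : IsPullback (fst G X).left (snd G X).left G.hom X.hom :=
  IsPullback.of_hasPullback G.hom X.hom

omit [GrpObj G] in
theorem locP_snd {P : MorphismProperty Scheme.{u}} [P.IsStableUnderBaseChange] (hP : K597.EtLoc P) (hB : IsAlgSpace B)
    (hG : IsAlgSpace G.left) (hX : IsAlgSpace X.left) (h : LocP P G.hom) : LocP P (snd G X).left :=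
  K597.locP_bc hP (isPullback_tensor G X) hG.hasAtlas hB.hasAtlas hX.hasAtlas h

theorem locP_act {P : MorphismProperty Scheme.{u}} [P.IsStableUnderBaseChange] (hP : K597.EtLoc P) (hB : IsAlgSpace B)
    (hG : IsAlgSpace G.left) (hX : IsAlgSpace X.left) (h : LocP P G.hom) : LocP P a.act.left := by
  have h1 : a.act.left = (inv a).left ≫ (snd G X).left := congrArg (fun k => k.left) (inv_snd a).symm
  rw [h1]
  have h2 : IsIso (inv a).left := inferInstanceAs (IsIso ((Over.forget B).map (inv a)))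
  exact K597.locP_precomp (K598.RepKit.repWith_of_isIso _) (locP_snd hP hB hG hX h)

/-- S10112. -/
theorem main (hB : IsAlgSpace B) (hG : IsAlgSpace G.left) (hX : IsAlgSpace X.left) (ha : a.IsFree)
    (hfl : LocP @Flat G.hom ∧ LocP @LocallyOfFinitePresentation G.hom) :
    IsAlgSpace a.quot ∧ (IsSurjectiveMor a.quotπ ∧ LocP @Flat a.quotπ ∧ LocP @LocallyOfFinitePresentation a.quotπ) ∧
      IsIso (pullback.lift a.act.left (snd G X).left (quotSp_condition (snd G X).left a.act.left).symm :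
        (G ⊗ X).left ⟶ pullback a.quotπ a.quotπ) := by
  have hR : IsAlgSpace (G ⊗ X).left :=
    K606.RepBySp.isAlgSpace_of_isPullback_of_diag hG hX hB.diag (isPullback_tensor G X)
  have hj := isEqvRelSp a ha
  have hs : LocP @Flat (snd G X).left ∧ LocP @LocallyOfFinitePresentation (snd G X).left :=
    ⟨locP_snd K597.etLoc_flat hB hG hX hfl.1, locP_snd K597.etLoc_lfp hB hG hX hfl.2⟩
  have ht : LocP @LocallyOfFiniteType a.act.left :=
    K606.Boot.locP_lft_of_lfp (locP_act a K597.etLoc_lfp hB hG hX hfl.2)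
  refine ⟨SpKer.isAlgSpace_quotSp hR hX hj hs ht, SpKer.quotSpπ_props hR hX hj hs ht, ?_⟩
  have sq := SpQuot.isPullback_quotSpπ hj
  have h1 : (pullback.lift a.act.left (snd G X).left (quotSp_condition (snd G X).left a.act.left).symm :
        (G ⊗ X).left ⟶ pullback a.quotπ a.quotπ) = sq.isoPullback.hom := by
    apply pullback.hom_ext
    · rw [pullback.lift_fst]
      exact sq.isoPullback_hom_fst.symm
    · rw [pullback.lift_snd]
      exact sq.isoPullback_hom_snd.symm
  rw [h1]
  exact inferInstanceAs (IsIso sq.isoPullback.hom)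

end K607.FreeQuot
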