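import Groth.Agent.Picfga.HilbTriple

/-!
# Universal finite locally free closed subschemes, in terms of points

`HilbData t d` : a scheme `H` over `U` with a universal family `Z ⟶ H`, `Z ⟶ R` of closed subschemes of the fibres of
`t : R ⟶ U`, finite locally free of degree `d`.
-/

set_option autoImplicit false
universe u

open CategoryTheory CategoryTheory.Limits AlgebraicGeometry

namespace K607

/-- A scheme representing `Hilb^d` of `t : R ⟶ U`, with its universal family. -/
structure HilbData {R U : Scheme.{u}} (t : R ⟶ U) (d : ℕ) where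
  /-- the representing scheme -/
  H : Scheme.{u}
  /-- its structure map -/
  h : H ⟶ U
  /-- the universal family -/
  Z : Scheme.{u}
  /-- the projection of the family -/
  π : Z ⟶ H
  /-- the map of the family to `R` -/
  ρ : Z ⟶ R
  w : ρ ≫ t = π ≫ h
  fin : Mor2.IsFinLocFreeOfDeg d π
  closed : IsClosedImmersion (pullback.lift ρ π w)
  sep : IsSeparated h
  exists_map : ∀ {T W : Scheme.{u}} (v : T ⟶ U) (p : W ⟶ T) (r : W ⟶ R) (w : r ≫ t = p ≫ v),
    Mor2.IsFinLocFreeOfDeg d p → IsClosedImmersion (pullback.lift r p w) →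
    ∃ (a : T ⟶ H) (ζ : W ⟶ Z), a ≫ h = v ∧ ζ ≫ ρ = r ∧ IsPullback ζ p π a
  hom_ext : ∀ {T : Scheme.{u}} (a a' : T ⟶ H), a ≫ h = a' ≫ h →
    (∀ {T' : Scheme.{u}} (g : T' ⟶ T) (z : T' ⟶ Z), z ≫ π = g ≫ a → ∃ z' : T' ⟶ Z, z' ≫ π = g ≫ a' ∧ z' ≫ ρ = z ≫ ρ) →
    (∀ {T' : Scheme.{u}} (g : T' ⟶ T) (z : T' ⟶ Z), z ≫ π = g ≫ a' → ∃ z' : T' ⟶ Z, z' ≫ π = g ≫ a ∧ z' ≫ ρ = z ≫ ρ) →
    a = a'

namespace HilbData

open Groth.Agent.Picfga Groth.Agent.Picfga.HilbPull
open Groth.Agent.Picfga.HilbTriple hiding pi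

variable {R U : Scheme.{u}} (t : R ⟶ U) (d : ℕ)

theorem pull_le {H : Over U} (I : (PicF.XT t H).IdealSheafData) {T : Over U} (a a' : T ⟶ H)
    (h : ∀ {T' : Scheme.{u}} (g : T' ⟶ T.left) (z : T' ⟶ I.subscheme), z ≫ HilbTriple.pi t I = g ≫ a.left →
      ∃ z' : T' ⟶ I.subscheme, z' ≫ HilbTriple.pi t I = g ≫ a'.left ∧ z' ≫ qq t I = z ≫ qq t I) :
    HilbD.pull t a' I ≤ HilbD.pull t a I := by
  obtain ⟨m, hm, hq⟩ := exists_isPullback_of_pull_eq t a I _ rfl
  obtain ⟨m', hm', hq'⟩ := exists_isPullback_of_pull_eq t a' I _ rfl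
  obtain ⟨z', hz1, hz2⟩ := h (HilbTriple.pi t (HilbD.pull t a I)) m hm.w
  have h1 : hm'.lift z' (HilbTriple.pi t (HilbD.pull t a I)) hz1 ≫ (HilbD.pull t a' I).subschemeι =
      (HilbD.pull t a I).subschemeι := by
    apply pullback.hom_ext
    · have : hm'.lift z' (HilbTriple.pi t (HilbD.pull t a I)) hz1 ≫ qq t (HilbD.pull t a' I) = qq t (HilbD.pull t a I) := by
        rw [← hq', ← Category.assoc, hm'.lift_fst, hz2, hq]
      exact (Category.assoc _ _ _).trans this
    · have := hm'.lift_snd z' (HilbTriple.pi t (HilbD.pull t a I)) hz1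
      exact (Category.assoc _ _ _).trans this
  rw [← Scheme.IdealSheafData.ker_subschemeι (HilbD.pull t a' I),
    ← Scheme.IdealSheafData.ker_subschemeι (HilbD.pull t a I), ← h1]
  exact Scheme.Hom.le_ker_comp _ _

/-- `HilbData` from a representing object of the functor. -/
noncomputable def ofUniversal (H : Over U) (Z : HilbD.Obj t d H) (hZ : HilbD.IsUniversal t d H Z)
    (hs : IsSeparated H.hom) : HilbData t d where
  H := H.left
  h := H.hom
  Z := Z.1.subscheme
  π := HilbTriple.pi t Z.1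
  ρ := qq t Z.1
  w := qq_comp t Z.1
  fin := Z.2
  closed := by
    have := toXT_eq t Z.1
    rw [toXT] at this
    rw [this]
    infer_instance
  sep := hs
  exists_map {T W} v p r w hp hc := by
    let T' : Over U := Over.mk v
    have hc' : IsClosedImmersion (toXT t (T := T') p r w) := hc
    obtain ⟨a, ha, -⟩ := hZ T' (ofTriple t (T := T') p r w hp)
    obtain ⟨e, he, he'⟩ := exists_iso_ker t (T := T') p r w
    obtain ⟨m, hm, hq⟩ := exists_isPullback_of_pull_eq t a Z.1 _ ha
    refine ⟨a.left, e.hom ≫ m, Over.w a, ?_, ?_⟩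
    · exact (Category.assoc _ _ _).trans ((congrArg (fun f => e.hom ≫ f) hq).trans he')
    · have h2 : IsPullback e.hom p (HilbTriple.pi t (T := T') (toXT t (T := T') p r w).ker) (𝟙 _) :=
        IsPullback.of_horiz_isIso ⟨by rw [Category.comp_id]; exact he⟩
      have := h2.paste_horiz hm
      rwa [Category.id_comp] at this
  hom_ext {T} a a' haa h1 h2 := by
    let T' : Over U := Over.mk (a ≫ H.hom)
    let b : T' ⟶ H := Over.homMk a rfl
    let b' : T' ⟶ H := Over.homMk a' haa.symm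
    have : b = b' := hom_ext_of_isUniversal hZ (le_antisymm (pull_le t Z.1 b' b fun g z hz => h2 g z hz)
      (pull_le t Z.1 b b' fun g z hz => h1 g z hz))
    exact congrArg (fun f => f.left) this

end HilbData

end K607
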