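import Groth.Agent.AlgSp.K607.EqLoc
import Groth.Agent.AlgSp.K607.HilbData
import Mathlib.AlgebraicGeometry.Morphisms.Etale

/-!
# Open families: the classifying map has an open graph
-/

set_option autoImplicit false
universe u

open CategoryTheory CategoryTheory.Limits AlgebraicGeometry

namespace K607.HilbData

variable {R U : Scheme.{u}} {t : R ⟶ U} {d : ℕ} (D : HilbData t d) {T T' : Scheme.{u}}

theorem famW (a : T ⟶ D.H) : (pullback.fst D.π a ≫ D.ρ) ≫ t = pullback.snd D.π a ≫ a ≫ D.h := by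
  rw [Category.assoc, D.w, pullback.condition_assoc]

/-- The inclusion of the family of `a` in the pullback of `R`. -/
noncomputable def incl (a : T ⟶ D.H) : pullback D.π a ⟶ pullback t (a ≫ D.h) :=
  pullback.lift (pullback.fst D.π a ≫ D.ρ) (pullback.snd D.π a) (D.famW a)

@[reassoc]
theorem incl_fst (a : T ⟶ D.H) : D.incl a ≫ pullback.fst _ _ = pullback.fst D.π a ≫ D.ρ := pullback.lift_fst _ _ _

@[reassoc]
theorem incl_snd (a : T ⟶ D.H) : D.incl a ≫ pullback.snd _ _ = pullback.snd D.π a := pullback.lift_snd _ _ _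

/-- The square comparing the family of `a` with the universal one. -/
theorem isPullback_incl (a : T ⟶ D.H) {W X : Scheme.{u}} {ζ : W ⟶ D.Z} {p : W ⟶ T} (sq : IsPullback ζ p D.π a)
    {x₁ : X ⟶ R} {x₂ : X ⟶ T} (sqX : IsPullback x₁ x₂ t (a ≫ D.h)) (j : W ⟶ X) (hj : j ≫ x₁ = ζ ≫ D.ρ)
    (hj' : j ≫ x₂ = p) : IsPullback ζ j (pullback.lift D.ρ D.π D.w) (pullback.lift x₁ (x₂ ≫ a) (by
      rw [sqX.w, Category.assoc])) := by
  have h1 : IsPullback (pullback.lift x₁ (x₂ ≫ a) (by rw [sqX.w, Category.assoc]) : X ⟶ pullback t D.h) x₂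
      (pullback.snd t D.h) a := by
    refine IsPullback.of_right ?_ (pullback.lift_snd _ _ _) (IsPullback.of_hasPullback t D.h)
    rw [pullback.lift_fst]
    exact sqX
  refine IsPullback.of_bot ?_ ?_ h1
  · rw [pullback.lift_snd, hj']
    exact sq
  · apply pullback.hom_ext
    · rw [Category.assoc, Category.assoc, pullback.lift_fst, pullback.lift_fst, hj]
    · rw [Category.assoc, Category.assoc, pullback.lift_snd, pullback.lift_snd, ← Category.assoc, hj', sq.w]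

theorem isPullback_incl' (a : T ⟶ D.H) : IsPullback (pullback.fst D.π a) (D.incl a) (pullback.lift D.ρ D.π D.w)
    (pullback.lift (pullback.fst _ _) (pullback.snd _ _ ≫ a) (by rw [pullback.condition, Category.assoc])) :=
  D.isPullback_incl a (IsPullback.of_hasPullback _ _) (IsPullback.of_hasPullback _ _) _ (D.incl_fst a) (D.incl_snd a)

instance (a : T ⟶ D.H) : IsClosedImmersion (D.incl a) :=
  MorphismProperty.of_isPullback (D.isPullback_incl' a) D.closed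

/-- The family of `a` is open. -/
def Opn (a : T ⟶ D.H) : Prop := IsOpenImmersion (D.incl a)

theorem isIso_compare (a : T ⟶ D.H) {X : Scheme.{u}} {x₁ : X ⟶ R} {x₂ : X ⟶ T}
    (sqX : IsPullback x₁ x₂ t (a ≫ D.h)) {W : Scheme.{u}} {ζ : W ⟶ D.Z} {p : W ⟶ T} (sq : IsPullback ζ p D.π a)
    (j : W ⟶ X) (hj : j ≫ x₁ = ζ ≫ D.ρ) (hj' : j ≫ x₂ = p) :
    (sq.isoPullback.hom ≫ D.incl a) = j ≫ sqX.isoPullback.hom := by
  apply pullback.hom_ext
  · rw [Category.assoc, D.incl_fst, IsPullback.isoPullback_hom_fst_assoc, Category.assoc,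
      IsPullback.isoPullback_hom_fst, hj]
  · rw [Category.assoc, D.incl_snd, IsPullback.isoPullback_hom_snd, Category.assoc,
      IsPullback.isoPullback_hom_snd, hj']

theorem opn_iff (a : T ⟶ D.H) {X : Scheme.{u}} {x₁ : X ⟶ R} {x₂ : X ⟶ T}
    (sqX : IsPullback x₁ x₂ t (a ≫ D.h)) {W : Scheme.{u}} {ζ : W ⟶ D.Z} {p : W ⟶ T} (sq : IsPullback ζ p D.π a)
    (j : W ⟶ X) (hj : j ≫ x₁ = ζ ≫ D.ρ) (hj' : j ≫ x₂ = p) : D.Opn a ↔ IsOpenImmersion j := by
  have h := D.isIso_compare a sqX sq j hj hj'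
  rw [Opn]
  rw [← MorphismProperty.cancel_left_of_respectsIso @IsOpenImmersion sq.isoPullback.hom, h,
    MorphismProperty.cancel_right_of_respectsIso @IsOpenImmersion]

section BaseChange

variable {D}
variable {a : T ⟶ D.H} {g : T' ⟶ T} {X W X' W' : Scheme.{u}} {x₁ : X ⟶ R} {x₂ : X ⟶ T}
  {ζ : W ⟶ D.Z} {p : W ⟶ T} {x₁' : X' ⟶ R} {x₂' : X' ⟶ T'} {ζ' : W' ⟶ D.Z} {p' : W' ⟶ T'}

theorem isPullback_bcX (sqX : IsPullback x₁ x₂ t (a ≫ D.h)) (sqX' : IsPullback x₁' x₂' t ((g ≫ a) ≫ D.h))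
    {l : X' ⟶ X} (hl : l ≫ x₁ = x₁') (hl' : l ≫ x₂ = x₂' ≫ g) : IsPullback l x₂' x₂ g := by
  refine IsPullback.of_right ?_ hl' sqX
  rw [hl, ← Category.assoc]
  exact sqX'

theorem isPullback_bcW (sq : IsPullback ζ p D.π a) (sq' : IsPullback ζ' p' D.π (g ≫ a))
    {m : W' ⟶ W} (hm : m ≫ ζ = ζ') (hm' : m ≫ p = p' ≫ g) : IsPullback m p' p g := by
  refine IsPullback.of_right ?_ hm' sq
  rw [hm]
  exact sq'

theorem isPullback_bc (sqX : IsPullback x₁ x₂ t (a ≫ D.h)) (sqX' : IsPullback x₁' x₂' t ((g ≫ a) ≫ D.h))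
    (sq : IsPullback ζ p D.π a) (sq' : IsPullback ζ' p' D.π (g ≫ a)) (j : W ⟶ X) (hj : j ≫ x₁ = ζ ≫ D.ρ)
    (hj' : j ≫ x₂ = p) (k : W' ⟶ X') (hk : k ≫ x₁' = ζ' ≫ D.ρ) (hk' : k ≫ x₂' = p')
    {l : X' ⟶ X} (hl : l ≫ x₁ = x₁') (hl' : l ≫ x₂ = x₂' ≫ g)
    {m : W' ⟶ W} (hm : m ≫ ζ = ζ') (hm' : m ≫ p = p' ≫ g) :
    IsPullback m k j l := by
  refine IsPullback.of_bot ?_ ?_ (isPullback_bcX sqX sqX' hl hl')
  · rw [hj', hk']
    exact isPullback_bcW sq sq' hm hm'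
  · apply sqX.hom_ext
    · rw [Category.assoc, Category.assoc, hl, hj, hk, reassoc_of% hm]
    · rw [Category.assoc, Category.assoc, hl', hj', hm', reassoc_of% hk']

theorem exists_bc (sqX : IsPullback x₁ x₂ t (a ≫ D.h)) (sqX' : IsPullback x₁' x₂' t ((g ≫ a) ≫ D.h))
    (sq : IsPullback ζ p D.π a) (sq' : IsPullback ζ' p' D.π (g ≫ a)) (j : W ⟶ X) (hj : j ≫ x₁ = ζ ≫ D.ρ)
    (hj' : j ≫ x₂ = p) (k : W' ⟶ X') (hk : k ≫ x₁' = ζ' ≫ D.ρ) (hk' : k ≫ x₂' = p') :
    ∃ (m : W' ⟶ W) (l : X' ⟶ X), l ≫ x₁ = x₁' ∧ l ≫ x₂ = x₂' ≫ g ∧ m ≫ ζ = ζ' ∧ m ≫ p = p' ≫ g ∧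
      IsPullback m k j l ∧ IsPullback l x₂' x₂ g ∧ IsPullback m p' p g := by
  have hw : x₁' ≫ t = (x₂' ≫ g) ≫ a ≫ D.h := by rw [sqX'.w, Category.assoc, Category.assoc]
  have hw' : ζ' ≫ D.π = (p' ≫ g) ≫ a := by rw [sq'.w, Category.assoc]
  exact ⟨sq.lift _ _ hw', sqX.lift _ _ hw, sqX.lift_fst _ _ _, sqX.lift_snd _ _ _, sq.lift_fst _ _ _,
    sq.lift_snd _ _ _, isPullback_bc sqX sqX' sq sq' j hj hj' k hk hk' (sqX.lift_fst _ _ _) (sqX.lift_snd _ _ _)
    (sq.lift_fst _ _ _) (sq.lift_snd _ _ _), isPullback_bcX sqX sqX' (sqX.lift_fst _ _ _) (sqX.lift_snd _ _ _),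
    isPullback_bcW sq sq' (sq.lift_fst _ _ _) (sq.lift_snd _ _ _)⟩

theorem exists_bc' (a : T ⟶ D.H) (g : T' ⟶ T) :
    ∃ (m : pullback D.π (g ≫ a) ⟶ pullback D.π a) (l : pullback t ((g ≫ a) ≫ D.h) ⟶ pullback t (a ≫ D.h)),
      l ≫ pullback.fst _ _ = pullback.fst _ _ ∧ l ≫ pullback.snd _ _ = pullback.snd _ _ ≫ g ∧
      m ≫ pullback.fst _ _ = pullback.fst _ _ ∧ m ≫ pullback.snd _ _ = pullback.snd _ _ ≫ g ∧
      IsPullback m (D.incl (g ≫ a)) (D.incl a) l ∧ IsPullback l (pullback.snd _ _) (pullback.snd _ _) g ∧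
      IsPullback m (pullback.snd _ _) (pullback.snd _ _) g :=
  exists_bc (D := D)
    (IsPullback.of_hasPullback t (a ≫ D.h)) (IsPullback.of_hasPullback t ((g ≫ a) ≫ D.h))
    (IsPullback.of_hasPullback _ _) (IsPullback.of_hasPullback _ _) (D.incl a) (D.incl_fst a) (D.incl_snd a)
    (D.incl (g ≫ a)) (D.incl_fst _) (D.incl_snd _)

theorem Opn.comp (h : D.Opn a) (g : T' ⟶ T) : D.Opn (g ≫ a) := by
  obtain ⟨m, l, -, -, -, -, sq, -, -⟩ := exists_bc' a g
  exact MorphismProperty.of_isPullback (P := @IsOpenImmersion) sq h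

end BaseChange

/-- The classifying map of an open family has an open graph. -/
theorem isOpenImmersion_graph (a : T ⟶ D.H) (ha : D.Opn a) :
    IsOpenImmersion (pullback.lift a (𝟙 T) (by rw [Category.id_comp]) : T ⟶ pullback D.h (a ≫ D.h)) := by
  let G := pullback D.h (a ≫ D.h)
  let f : G ⟶ D.H := pullback.fst _ _
  let s : G ⟶ T := pullback.snd _ _
  have hc : f ≫ D.h = s ≫ a ≫ D.h := pullback.condition
  have w₁ : (pullback.fst D.π (s ≫ a) ≫ D.ρ) ≫ t = pullback.snd D.π (s ≫ a) ≫ ((s ≫ a) ≫ D.h) := D.famW _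
  have w₂ : (pullback.fst D.π f ≫ D.ρ) ≫ t = pullback.snd D.π f ≫ ((s ≫ a) ≫ D.h) := by
    rw [D.famW f, hc, Category.assoc]
  have f1 : IsFinite D.π := D.fin.1.1
  have f2 : Flat D.π := D.fin.1.2.1
  have o1 : IsOpenImmersion (pullback.lift _ _ w₁) := ha.comp s
  have m2 : Mono (pullback.lift _ _ w₂) := by
    have h1 := D.isPullback_incl' f
    have : Mono (D.incl f) := inferInstance
    refine ⟨fun {Y} b c hbc => ?_⟩
    rw [← cancel_mono (D.incl f)]
    apply pullback.hom_ext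
    · have := congrArg (fun k => k ≫ pullback.fst _ _) hbc
      simp only [Category.assoc, pullback.lift_fst] at this
      rw [Category.assoc, Category.assoc, D.incl_fst, this]
    · have := congrArg (fun k => k ≫ pullback.snd _ _) hbc
      simp only [Category.assoc, pullback.lift_snd] at this
      rw [Category.assoc, Category.assoc, D.incl_snd, this]
  obtain ⟨O, hO⟩ := EqLoc.exists_open w₁ w₂ (fun y => by
    have e1 := Scheme.Hom.finrank_pullback_snd D.π f y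
    have e2 := Scheme.Hom.finrank_pullback_snd D.π (s ≫ a) y
    rw [e1, e2, D.fin.2, D.fin.2])
  have key : ∀ {T' : Scheme.{u}} (g : T' ⟶ G), Set.range g ⊆ O ↔ g ≫ f = g ≫ s ≫ a := by
    intro T' g
    rw [hO g]
    constructor
    · rintro ⟨h1, h2⟩
      refine D.hom_ext _ _ (by rw [Category.assoc, hc]; simp only [Category.assoc]) (fun {T''} k z hz => ?_)
        (fun {T''} k z hz => ?_)
      · have hz0 : z ≫ D.π = (k ≫ g) ≫ f := by rw [hz, Category.assoc]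
        obtain ⟨z', hz1, hz2⟩ := h2 k (pullback.lift z (k ≫ g) hz0) (pullback.lift_snd _ _ _)
        refine ⟨z' ≫ pullback.fst _ _, ?_, ?_⟩
        · rw [Category.assoc, pullback.condition, reassoc_of% hz1]
        · rw [Category.assoc, hz2, pullback.lift_fst_assoc]
      · have hz0 : z ≫ D.π = (k ≫ g) ≫ s ≫ a := by rw [hz, Category.assoc]
        obtain ⟨z', hz1, hz2⟩ := h1 k (pullback.lift z (k ≫ g) hz0) (pullback.lift_snd _ _ _)
        refine ⟨z' ≫ pullback.fst _ _, ?_, ?_⟩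
        · rw [Category.assoc, pullback.condition, reassoc_of% hz1]
        · rw [Category.assoc, hz2, pullback.lift_fst_assoc]
    · intro h
      constructor
      · intro T'' k z hz
        have hz0 : (z ≫ pullback.fst _ _) ≫ D.π = (k ≫ g) ≫ f := by
          rw [Category.assoc, pullback.condition, reassoc_of% hz, Category.assoc, ← h]
        exact ⟨pullback.lift (z ≫ pullback.fst _ _) (k ≫ g) hz0, pullback.lift_snd _ _ _, by
          rw [pullback.lift_fst_assoc, Category.assoc]⟩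
      · intro T'' k z hz
        have hz0 : (z ≫ pullback.fst _ _) ≫ D.π = (k ≫ g) ≫ s ≫ a := by
          rw [Category.assoc, pullback.condition, reassoc_of% hz, Category.assoc, h]
        exact ⟨pullback.lift (z ≫ pullback.fst _ _) (k ≫ g) hz0, pullback.lift_snd _ _ _, by
          rw [pullback.lift_fst_assoc, Category.assoc]⟩
  let Γ : T ⟶ G := pullback.lift a (𝟙 T) (by rw [Category.id_comp])
  have hΓ1 : Γ ≫ f = a := pullback.lift_fst _ _ _
  have hΓ2 : Γ ≫ s = 𝟙 T := pullback.lift_snd _ _ _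
  have hΓ : Set.range Γ ⊆ O := by rw [key, hΓ1, reassoc_of% hΓ2]
  have hO' : O.ι ≫ f = O.ι ≫ s ≫ a := by rw [← key]; simp
  have hσ : (O.ι ≫ s) ≫ Γ = O.ι := by
    apply pullback.hom_ext
    · change ((O.ι ≫ s) ≫ Γ) ≫ f = O.ι ≫ f
      rw [Category.assoc, hΓ1, Category.assoc, hO']
    · change ((O.ι ≫ s) ≫ Γ) ≫ s = O.ι ≫ s
      rw [Category.assoc, hΓ2, Category.comp_id]
  have hr : Set.range Γ ⊆ Set.range O.ι := by rwa [Scheme.Opens.range_ι]
  let l : T ⟶ O := IsOpenImmersion.lift O.ι Γ hr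
  have hl : l ≫ O.ι = Γ := IsOpenImmersion.lift_fac _ _ _
  have h1 : l ≫ (O.ι ≫ s) = 𝟙 T := by rw [← Category.assoc, hl, hΓ2]
  have h2 : (O.ι ≫ s) ≫ l = 𝟙 _ := by
    rw [← cancel_mono O.ι, Category.assoc, hl, hσ, Category.id_comp]
  have : IsIso l := ⟨_, h1, h2⟩
  change IsOpenImmersion Γ
  rw [← hl]
  infer_instance

end K607.HilbData
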