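import Groth.Agent.AlgSp.K607.HomProps
import Groth.Agent.AlgSp.K607.ArtinMain

/-!
# The Hom functor is an algebraic space, modulo the axioms over rings of finite type over `ℤ` (helper607)
-/

set_option autoImplicit false
universe u
open CategoryTheory CategoryTheory.Limits AlgebraicGeometry Opposite AlgSp

namespace K607.HomRed

open K642.HomDef K607.Artin

/-- What remains: Artin's axioms for the Hom functor over rings of finite type over `ℤ`. -/
def HomAx : Prop :=
  ∀ (Λ : Type u) [CommRing Λ] [Algebra.FiniteType ℤ Λ] (X Y : Over (Spec (CommRingCat.of Λ))) [IsProper X.hom]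
    [Flat X.hom] [LocallyOfFinitePresentation X.hom] [IsSeparated Y.hom] [LocallyOfFinitePresentation Y.hom]
    [QuasiCompact Y.hom], FAxioms (morF X Y)

theorem homAlg (H : HomAx.{u}) : HomAlg.{u} := by
  intro Λ _ _ X Y _ _ _ _ _ _
  exact K607.Artin.isAlgSpace (hom X Y) (faxioms_weilRes X Y (H Λ X Y))

/-- **S18336** from the axioms. -/
theorem main (H : HomAx.{u}) (S : Scheme.{u}) (X Y : Over S) [IsProper X.hom] [Flat X.hom]
    [LocallyOfFinitePresentation X.hom] [IsSeparated Y.hom] [LocallyOfFinitePresentation Y.hom] [QuasiCompact Y.hom] :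
    ∃ R : AlgSp.Sp S, AlgSp.IsAlgSpace R ∧
      Nonempty (R.obj ≅ WeilRes.functor X.hom (Red.bc X.hom Y) ⋙ CategoryTheory.uliftFunctor.{u + 1, u}) ∧
      AlgSp.IsSeparatedSp R ∧
      ∀ t : R ⟶ (AlgSp.yon S).obj (Over.mk (𝟙 S)), AlgSp.LocP @LocallyOfFiniteType t :=
  ⟨hom X Y, isAlgSpace (homAlg H) X Y, ⟨wrIso X.hom (Red.bc X.hom Y)⟩, isSeparatedSp_hom X Y, locP_hom X Y⟩

end K607.HomRed
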