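import Groth.Agent.AlgSp.K607.HomSe
import Groth.Agent.AlgSp.K607.HomFin
import Groth.Agent.AlgSp.K642.HomLP
import Groth.Agent.AlgSp.K642.HomPR

/-!
# Artin's axioms for the functor of morphisms (helper607, helper642)
-/

set_option autoImplicit false
universe u
open CategoryTheory CategoryTheory.Limits AlgebraicGeometry Opposite

namespace K607.HomAx

open K642.HomDef K607.Artin

variable {Λ : Type u} [CommRing Λ] (X Y : Over (Spec (CommRingCat.of Λ))) [IsProper X.hom]
    [Flat X.hom] [LocallyOfFinitePresentation X.hom] [IsSeparated Y.hom] [LocallyOfFinitePresentation Y.hom]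
    [QuasiCompact Y.hom]

theorem se_morF (R : ℕ → Type u) [∀ n, CommRing (R n)] [∀ n, Algebra Λ (R n)] (t : ∀ n, R (n + 1) →ₐ[Λ] R n)
    (ht : ∀ n, Function.Surjective (t n)) (hn : ∀ n, ∀ r ∈ RingHom.ker (t n), IsNilpotent r)
    (R' : Type u) [CommRing R'] [Algebra Λ R'] (π : ∀ n, R' →ₐ[Λ] R n)
    (hl : FlatCA.IsRingLimit R' R (fun n => (t n).toRingHom) (fun n => (π n).toRingHom))
    (x : ∀ n, (morF X Y).obj (op (sp Λ (R n)))) (hx : ∀ n, (morF X Y).map (spMap (t n)).op (x (n + 1)) = x n) :
    ∃ x' : (morF X Y).obj (op (sp Λ R')), ∀ n, (morF X Y).map (spMap (π n)).op x' = x n := by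
  have hc : ∀ n, spMap (t n) ≫ spMap (π (n + 1)) = spMap (π n) := by
    intro n
    apply Over.OverMorphism.ext
    change Spec.map _ ≫ Spec.map _ = Spec.map _
    rw [← Spec.map_comp, ← CommRingCat.ofHom_comp]
    congr 2
    exact hl.1 n
  obtain ⟨g', h1, h2⟩ := HomSe.core R (fun n => (t n).toRingHom) (fun n => (π n).toRingHom) hl ht hn
    (pullback.fst (sp Λ R').hom X.hom) (pullback.fst (sp Λ R').hom Y.hom) (fun n => xt X (sp Λ (R n)))
    (fun n => xmap X (spMap (π n))) (fun n => pullback.fst _ _) (fun n => isPullback_xmap X (spMap (π n)))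
    (fun n => xmap X (spMap (t n))) (fun n => by rw [← xmap_comp, hc])
    (fun n => xmap_fst X (spMap (t n)))
    (fun n => pullback.lift (xmap X (spMap (π n)) ≫ pullback.fst _ _) (x n).1 (by
      rw [Category.assoc, (x n).2, xmap_fst_assoc, Over.w]))
    (fun n => pullback.lift_fst _ _ _) (fun n => by
      apply pullback.hom_ext
      · rw [Category.assoc, pullback.lift_fst, pullback.lift_fst, ← Category.assoc, ← xmap_comp, hc]
      · rw [Category.assoc, pullback.lift_snd, pullback.lift_snd, ← map_val, hx])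
  refine ⟨⟨g' ≫ pullback.snd _ _, ?_⟩, fun n => ext' ?_⟩
  · rw [Category.assoc, ← pullback.condition, ← Category.assoc, h1]
  · rw [map_val, ← Category.assoc, h2, pullback.lift_snd]

theorem faxioms_morF : FAxioms (morF X Y) where
  lp A _ _ x := by
    obtain ⟨C, i1, i2, i3, φ, y, h⟩ := K642.HomLP.lp_morF X Y A x
    exact ⟨C, i1, i2, inferInstance, φ, y, h⟩
  se R _ _ t ht hn R' _ _ π hl x hx := se_morF X Y R t ht hn R' π hl x hx
  rs f g p q h hg _ x x' hx := rs_morF X Y f g p q h hg x x' hx
  sm _ _ _ _ := inferInstance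
  pr A B x y := K642.HomPR.pr_morF X Y A B x y

end K607.HomAx

namespace K607.HomRed

/-- Artin's axioms hold for the functor of morphisms. -/
theorem homAx : HomAx.{u} := fun _ _ _ X Y _ _ _ _ _ _ => HomAx.faxioms_morF X Y

end K607.HomRed
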