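import Groth.Agent.Ega3B.LimInv4
import Groth.Agent.S0592

/-!
# Models over rings of finite type over `ℤ` of a pair `X`, `Y` of schemes over an affine scheme,
`X` proper and flat, `Y` separated (helper607)
-/

set_option autoImplicit false
universe u
open CategoryTheory Limits AlgebraicGeometry TopologicalSpace Opposite

namespace K607.HomModel

open Groth.Agent.CalgA.LimFP Groth.Agent.Ega3B.LimInv

section

variable {I : Type u} [SmallCategory I] {D : I ⥤ Scheme.{u}} {c : Cone D}
  [IsCofiltered I] [∀ (i j : I) (f : i ⟶ j), IsAffineHom (D.map f)] (hc : IsLimit c)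
  [∀ i, CompactSpace (D.obj i)] [∀ i, QuasiSeparatedSpace (D.obj i)]
  {X : Scheme.{u}} {f' : X ⟶ c.pt}

attribute [local instance] Mdl.lfp Mdl.qc Mdl.qs

include hc in
/-- A model of a separated morphism is separated at a later stage. -/
theorem Mdl.exists_isSeparated {i : I} (M : Mdl f' i) [IsSeparated f']
    (hs : IsSeparated (Limits.IsTerminal.from specULiftZIsTerminal c.pt)) :
    ∃ (j : I) (a : j ⟶ i), IsSeparated (M.bc a).f := by
  have h1 : ∀ j k (a : j ⟶ k), IsAffineHom ((bcDiagram D M.f).map a) := fun j k a => isAffineHom_bcDiagram_map a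
  have h2 : ∀ j, CompactSpace ((bcDiagram D M.f).obj j) := fun j => compactSpace_bcDiagram_obj j
  have h3 : ∀ j, QuasiSeparatedSpace ((bcDiagram D M.f).obj j) := fun j => quasiSeparatedSpace_bcDiagram_obj j
  have h4 : IsSeparated (Limits.IsTerminal.from specULiftZIsTerminal (bcCone M.h).pt) := by
    have e : Limits.IsTerminal.from specULiftZIsTerminal X = f' ≫ Limits.IsTerminal.from specULiftZIsTerminal c.pt :=
      specULiftZIsTerminal.hom_ext _ _
    change IsSeparated (Limits.IsTerminal.from specULiftZIsTerminal X)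
    rw [e]
    infer_instance
  obtain ⟨j, hj⟩ := Groth.Agent.S0592.result (bcDiagram D M.f) (bcCone M.h) (isLimitBcCone hc M.h)
  refine ⟨j.left, j.hom, ?_⟩
  have h5 := hj j (𝟙 j)
  have e : Limits.IsTerminal.from specULiftZIsTerminal ((bcDiagram D M.f).obj j) =
      (M.bc j.hom).f ≫ Limits.IsTerminal.from specULiftZIsTerminal (D.obj j.left) :=
    specULiftZIsTerminal.hom_ext _ _
  rw [e] at h5
  have h6 : IsSeparated ((M.bc j.hom).f ≫ Limits.IsTerminal.from specULiftZIsTerminal (D.obj j.left)) := h5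
  exact IsSeparated.of_comp (M.bc j.hom).f (Limits.IsTerminal.from specULiftZIsTerminal (D.obj j.left))

instance Mdl.isSeparated_bc {i : I} (M : Mdl f' i) {j : I} (a : j ⟶ i) [IsSeparated M.f] : IsSeparated (M.bc a).f :=
  inferInstanceAs (IsSeparated (pullback.snd _ _))

include hc in
theorem exists_model₂ [IsProper f'] [Flat f'] [LocallyOfFinitePresentation f'] {Y : Scheme.{u}} {g' : Y ⟶ c.pt}
    [IsSeparated g'] [LocallyOfFinitePresentation g'] [QuasiCompact g']
    (hs : IsSeparated (Limits.IsTerminal.from specULiftZIsTerminal c.pt)) :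
    ∃ (i : I) (X₀ Y₀ : Scheme.{u}) (f₀ : X₀ ⟶ D.obj i) (g₀ : Y₀ ⟶ D.obj i) (p : X ⟶ X₀) (q : Y ⟶ Y₀),
      IsPullback p f' f₀ (c.π.app i) ∧ IsPullback q g' g₀ (c.π.app i) ∧ IsProper f₀ ∧ Flat f₀ ∧
      LocallyOfFinitePresentation f₀ ∧ IsSeparated g₀ ∧ LocallyOfFinitePresentation g₀ ∧ QuasiCompact g₀ := by
  obtain ⟨i, ⟨M⟩⟩ := exists_mdl (D := D) (c := c) hc (f' := f')
  obtain ⟨i', ⟨N⟩⟩ := exists_mdl (D := D) (c := c) hc (f' := g')
  obtain ⟨j, a, h⟩ := Mdl.exists_isProper hc M
  obtain ⟨j₁, a₁, h₁⟩ := Mdl.exists_flat hc (M.bc a)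
  obtain ⟨j', a', h'⟩ := Mdl.exists_isSeparated hc N hs
  obtain ⟨k, b, b', -⟩ := IsCofilteredOrEmpty.cone_objs j₁ j'
  exact ⟨k, _, _, (((M.bc a).bc a₁).bc b).f, ((N.bc a').bc b').f, (((M.bc a).bc a₁).bc b).p, ((N.bc a').bc b').p,
    (((M.bc a).bc a₁).bc b).h, ((N.bc a').bc b').h, inferInstance, inferInstance, inferInstance, inferInstance,
    inferInstance, inferInstance⟩

end

section Spec

open Groth.Agent.Flat2D.SpecFGLimit

theorem exists_model_Spec (A : Type u) [CommRing A] {X Y : Scheme.{u}} (f : X ⟶ Spec (CommRingCat.of A))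
    (g : Y ⟶ Spec (CommRingCat.of A)) [IsProper f] [Flat f] [LocallyOfFinitePresentation f] [IsSeparated g]
    [LocallyOfFinitePresentation g] [QuasiCompact g] :
    ∃ (S : Subalgebra ℤ A) (_ : S.FG) (X₀ Y₀ : Scheme.{u}) (f₀ : X₀ ⟶ Spec (CommRingCat.of S))
      (g₀ : Y₀ ⟶ Spec (CommRingCat.of S)) (p : X ⟶ X₀) (q : Y ⟶ Y₀),
      IsPullback p f f₀ (Spec.map (CommRingCat.ofHom S.val.toRingHom)) ∧
      IsPullback q g g₀ (Spec.map (CommRingCat.ofHom S.val.toRingHom)) ∧ IsProper f₀ ∧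
      Flat f₀ ∧ LocallyOfFinitePresentation f₀ ∧ IsSeparated g₀ ∧ LocallyOfFinitePresentation g₀ ∧
      QuasiCompact g₀ := by
  have i1 : ∀ i, CompactSpace ((specDiagram A).obj i) := fun i => inferInstance
  have i2 : ∀ i, QuasiSeparatedSpace ((specDiagram A).obj i) := fun i => inferInstance
  have i3 : LocallyOfFinitePresentation (Y := (specCone A).pt) f := ‹_›
  have i4 : IsProper (Y := (specCone A).pt) f := ‹_›
  have i5 : Flat (Y := (specCone A).pt) f := ‹_›
  have i6 : LocallyOfFinitePresentation (Y := (specCone A).pt) g := ‹_›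
  have i7 : IsSeparated (Y := (specCone A).pt) g := ‹_›
  have i8 : QuasiCompact (Y := (specCone A).pt) g := ‹_›
  have i9 : IsSeparated (Limits.IsTerminal.from specULiftZIsTerminal (specCone A).pt) := by
    have : IsAffine (specCone A).pt := inferInstanceAs (IsAffine (Spec (CommRingCat.of A)))
    infer_instance
  obtain ⟨i, X₀, Y₀, f₀, g₀, p, q, h1, h2, h3, h4, h5, h6, h7, h8⟩ := exists_model₂ (D := specDiagram A)
    (c := specCone A) (isLimitSpecCone A) (f' := f) (g' := g) i9
  exact ⟨i.unop.1, i.unop.2, X₀, Y₀, f₀, g₀, p, q, h1, h2, h3, h4, h5, h6, h7, h8⟩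

end Spec

end K607.HomModel
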