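import Groth.Agent.AlgSp.K607.HomRed2
import Groth.Agent.AlgSp.K594.Diag
import Groth.Agent.AlgSp.K642.HomPR
import Groth.Agent.AlgSp.K642.HomLP

/-!
# The Hom functor is separated and locally of finite type (helper607)
-/

set_option autoImplicit false
universe u
open CategoryTheory CategoryTheory.Limits AlgebraicGeometry Opposite AlgSp

namespace K607.HomRed

open K642.HomDef K642.HomPR

variable {S : Scheme.{u}} (X Y : Over S)

/-- Sections of the Hom sheaf. -/
noncomputable def secE (T : Over S) : (hom X Y).obj.obj (op T) ≃ (morF X Y).obj (op T) :=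
  Equiv.ulift.trans (wEquiv X Y T)

lemma secE_map {T T' : Over S} (h : T' ⟶ T) (x : (hom X Y).obj.obj (op T)) :
    secE X Y T' ((hom X Y).obj.map h.op x) = (morF X Y).map h.op (secE X Y T x) :=
  wEquiv_nat X Y h x.down

theorem isSeparatedSp_hom [IsProper X.hom] [Flat X.hom] [LocallyOfFinitePresentation X.hom] [IsSeparated Y.hom] :
    IsSeparatedSp (hom X Y) := by
  refine K594.Diag.repWith_diag_of _ _ fun {U} a b => ?_
  obtain ⟨W, i, hi, hW⟩ := exists_eqLocus X Y U (secE X Y U a) (secE X Y U b)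
  have hmono : Mono i := by
    have : Mono i.left := inferInstance
    exact (Over.forget S).mono_of_mono_map this
  refine ⟨W, i, ⟨?_, fun k l h => (cancel_mono i).1 h, fun t ht => ?_⟩, hi⟩
  · apply (secE X Y W).injective
    rw [secE_map, secE_map]
    exact (hW W i).1 ⟨𝟙 W, Category.id_comp _⟩
  · refine (hW _ t).2 ?_
    rw [← secE_map, ← secE_map, ht]

/-- A criterion for a sheaf to be locally of finite type. -/
theorem locP_lft_of (F : Sp S) (t : F ⟶ (yon S).obj (Over.mk (𝟙 S)))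
    (H : ∀ (Λ A : CommRingCat.{u}) (v : Spec Λ ⟶ S) (_ : IsOpenImmersion v) (φ : Λ ⟶ A)
      (x : F.obj.obj (op (Over.mk (Spec.map φ ≫ v)))),
      ∃ (C : Over S) (_ : LocallyOfFiniteType C.hom) (ψ : Over.mk (Spec.map φ ≫ v) ⟶ C) (y : F.obj.obj (op C)),
        F.obj.map ψ.op y = x) : LocP @LocallyOfFiniteType t := by
  intro U V a b h ha hb e
  have key : LocallyOfFiniteType U.hom := by
    have key1 : ∀ u : U.left, ∃ O : U.left.Opens, u ∈ O ∧ LocallyOfFiniteType (O.ι ≫ U.hom) := by
      intro u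
      obtain ⟨_, ⟨S₁, hS₁, rfl⟩, hs, -⟩ := S.isBasis_affineOpens.exists_subset_of_mem_open
        (Set.mem_univ (U.hom u)) isOpen_univ
      obtain ⟨_, ⟨U₁, hU₁, rfl⟩, hu, hUS⟩ := U.left.isBasis_affineOpens.exists_subset_of_mem_open
        (show u ∈ (U.hom ⁻¹ᵁ S₁ : Set U.left) from hs) (U.hom ⁻¹ᵁ S₁).isOpen
      have eU : U₁ ≤ U.hom ⁻¹ᵁ S₁ := hUS
      refine ⟨U₁, hu, ?_⟩
      let φ : Γ(S, S₁) ⟶ Γ(U.left, U₁) := U.hom.appLE S₁ U₁ eU
      have hφ : Spec.map φ ≫ hS₁.fromSpec = hU₁.fromSpec ≫ U.hom :=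
        IsAffineOpen.SpecMap_appLE_fromSpec U.hom hS₁ hU₁ eU
      let T : Over S := Over.mk (Spec.map φ ≫ hS₁.fromSpec)
      let i : T ⟶ U := Over.homMk hU₁.fromSpec hφ.symm
      obtain ⟨C, hC, ψ, y, hy⟩ := H Γ(S, S₁) Γ(U.left, U₁) hS₁.fromSpec inferInstance φ
        (a.hom.app (op T) ⟨i⟩)
      obtain ⟨W, w, fst, sq⟩ := ha.1 (K595.ChBase.homOf y)
      have hw : Etale w.left := ha.2 _ _ _ sq
      obtain ⟨f, rfl⟩ := (yon S).map_surjective fst
      have hcomp : (yon S).map i ≫ a = (yon S).map ψ ≫ K595.ChBase.homOf y := by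
        rw [K595.ChBase.yon_map_homOf, hy, K595.ChBase.eq_homOf ((yon S).map i ≫ a)]
        congr 1
      obtain ⟨m, hm⟩ := (yon S).map_surjective (sq.lift _ _ hcomp)
      have hmf : m ≫ f = i := (yon S).map_injective (by rw [Functor.map_comp, hm, sq.lift_fst])
      have hmw : m ≫ w = ψ := (yon S).map_injective (by rw [Functor.map_comp, hm, sq.lift_snd])
      have h1 : LocallyOfFiniteType (m.left ≫ f.left) := by
        rw [← Over.comp_left, hmf]
        exact inferInstanceAs (LocallyOfFiniteType hU₁.fromSpec)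
      have h2 : LocallyOfFiniteType m.left := locallyOfFiniteType_of_comp m.left f.left
      have h3 : LocallyOfFiniteType T.hom := by
        have e1 : m.left ≫ w.left ≫ C.hom = T.hom := by rw [Over.w w, Over.w m]
        rw [← e1]
        infer_instance
      have h4 : LocallyOfFiniteType (hU₁.fromSpec ≫ U.hom) := by
        rw [← hφ]
        exact h3
      rw [← hU₁.isoSpec_hom_fromSpec_assoc]
      infer_instance
    choose O hO1 hO2 using key1
    exact (IsZariskiLocalAtSource.iff_of_iSup_eq_top (P := @LocallyOfFiniteType) O (by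
      ext x
      simp only [TopologicalSpace.Opens.coe_iSup, Set.mem_iUnion, SetLike.mem_coe, TopologicalSpace.Opens.coe_top,
        Set.mem_univ, iff_true]
      exact ⟨x, hO1 x⟩)).2 hO2
  have e1 : h.left ≫ V.hom = U.hom := Over.w h
  have : LocallyOfFiniteType (h.left ≫ V.hom) := by rw [e1]; exact key
  exact locallyOfFiniteType_of_comp h.left V.hom

theorem locP_hom [QuasiCompact X.hom] [QuasiSeparated X.hom] [LocallyOfFinitePresentation Y.hom]
    (t : hom X Y ⟶ (yon S).obj (Over.mk (𝟙 S))) : LocP @LocallyOfFiniteType t := by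
  refine locP_lft_of _ t fun Λ A v _ φ x => ?_
  let _ : Algebra Λ A := φ.hom.toAlgebra
  let X₁ : Over (Spec (CommRingCat.of Λ)) := (Over.pullback v).obj X
  let Y₁ : Over (Spec (CommRingCat.of Λ)) := (Over.pullback v).obj Y
  have i1 : QuasiCompact X₁.hom := inferInstanceAs (QuasiCompact (pullback.snd X.hom v))
  have i2 : QuasiSeparated X₁.hom := inferInstanceAs (QuasiSeparated (pullback.snd X.hom v))
  have i3 : LocallyOfFinitePresentation Y₁.hom := inferInstanceAs (LocallyOfFinitePresentation (pullback.snd Y.hom v))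
  let e : (K595.ChBase.R v).obj (hom X Y) ≅ hom X₁ Y₁ := homBase (X₁ := X₁) (Y₁ := Y₁)
    (IsPullback.of_hasPullback X.hom v) (IsPullback.of_hasPullback Y.hom v)
  let T : Over (Spec (CommRingCat.of Λ)) := K607.Artin.sp Λ A
  let x₀ : ((K595.ChBase.R v).obj (hom X Y)).obj.obj (op T) := x
  obtain ⟨C, _, _, hC, χ, y, hy⟩ := K642.HomLP.lp_morF X₁ Y₁ A (secE X₁ Y₁ T (e.hom.hom.app (op T) x₀))
  let TC : Over (Spec (CommRingCat.of Λ)) := K607.Artin.sp Λ C
  let y₁ : (hom X₁ Y₁).obj.obj (op TC) := (secE X₁ Y₁ TC).symm y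
  let y₀ : ((K595.ChBase.R v).obj (hom X Y)).obj.obj (op TC) := e.inv.hom.app (op TC) y₁
  refine ⟨(Over.map v).obj TC, ?_, (Over.map v).map (K607.Artin.spMap χ), y₀, ?_⟩
  · have h1 : LocallyOfFiniteType TC.hom := by
      change LocallyOfFiniteType (Spec.map (CommRingCat.ofHom (algebraMap Λ C)))
      rw [HasRingHomProperty.Spec_iff (P := @LocallyOfFiniteType)]
      exact (RingHom.finiteType_algebraMap).2 inferInstance
    change LocallyOfFiniteType (TC.hom ≫ v)
    infer_instance
  · have h1 : (hom X₁ Y₁).obj.map (K607.Artin.spMap χ).op y₁ = e.hom.hom.app (op T) x₀ := by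
      apply (secE X₁ Y₁ T).injective
      rw [secE_map, Equiv.apply_symm_apply, hy]
    have h2 : ((K595.ChBase.R v).obj (hom X Y)).obj.map (K607.Artin.spMap χ).op y₀ = x₀ := by
      have h3 := NatTrans.naturality_apply e.inv.hom (K607.Artin.spMap χ).op y₁
      refine h3.symm.trans ?_
      rw [h1]
      have h4 : e.hom ≫ e.inv = 𝟙 _ := e.hom_inv_id
      have h5 := congrArg (fun k => k.hom.app (op T) x₀) h4
      exact h5
    exact h2

end K607.HomRed
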