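import Groth.Agent.WeilRes.K933.WRBase
import Groth.Agent.AlgSp.K595.ChBaseAlg
import Groth.Agent.AlgSp.K607.FpDesc
import Groth.Agent.AlgSp.K607.HomModel
import Groth.Prelude.Def_WeilRes

/-!
# The Hom functor as an fppf sheaf: change of base and reduction to bases of finite type over `ℤ` (helper607)
-/

set_option autoImplicit false
universe u
open CategoryTheory CategoryTheory.Limits AlgebraicGeometry Opposite AlgSp

namespace K607.HomRed

/-- The Weil restriction functor as an fppf sheaf of sets. -/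
noncomputable def wr {S S' : Scheme.{u}} (f : S' ⟶ S) (X' : Over S') : Sp S :=
  (BigSite.pushBig Scheme.fppfPrecoverage f (Type (u + 1))).obj ((yon S').obj X')

noncomputable def wrIso {S S' : Scheme.{u}} (f : S' ⟶ S) (X' : Over S') :
    (wr f X').obj ≅ WeilRes.functor f X' ⋙ uliftFunctor.{u + 1, u} := Iso.refl _

noncomputable def isoOfObj {S : Scheme.{u}} {F G : Sp S} (e : F.obj ≅ G.obj) : F ≅ G :=
  (fullyFaithfulSheafToPresheaf (J S) (Type (u + 1))).preimageIso e

noncomputable def wrCongr {S S' : Scheme.{u}} (f : S' ⟶ S) {X' X'' : Over S'} (e : X' ≅ X'') : wr f X' ≅ wr f X'' :=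
  (BigSite.pushBig Scheme.fppfPrecoverage f (Type (u + 1))).mapIso ((yon S').mapIso e)

section Restrict

variable {S S' V V' : Scheme.{u}} {f : S' ⟶ S} {v : V ⟶ S} {v' : V' ⟶ S'} {f' : V' ⟶ V}

/-- Change of base. -/
noncomputable def restr (h : IsPullback f' v' v f) (X' : Over S') :
    (K595.ChBase.R v).obj (wr f X') ≅ wr f' ((Over.pullback v').obj X') :=
  isoOfObj (Functor.isoWhiskerRight (K933.WRBase.restrictIso h X') uliftFunctor.{u + 1, u})

end Restrict

/-- The Hom sheaf. -/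
noncomputable abbrev hom {S : Scheme.{u}} (X Y : Over S) : Sp S := wr X.hom (Red.bc X.hom Y)

section Base

variable {S S₁ : Scheme.{u}} {g : S₁ ⟶ S} {X Y : Over S} {X₁ Y₁ : Over S₁} {p : X₁.left ⟶ X.left}
  {q : Y₁.left ⟶ Y.left}

/-- `(Y ×_S X) ×_X X₁ = Y₁ ×_{S₁} X₁`. -/
noncomputable def bcIso (hX : IsPullback p X₁.hom X.hom g) (hY : IsPullback q Y₁.hom Y.hom g) :
    (Over.pullback p).obj (Red.bc X.hom Y) ≅ Red.bc X₁.hom Y₁ := by
  have h1 : IsPullback (pullback.fst (pullback.snd Y.hom X.hom) p ≫ pullback.fst Y.hom X.hom)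
      (pullback.snd (pullback.snd Y.hom X.hom) p) Y.hom (p ≫ X.hom) :=
    (IsPullback.of_hasPullback (pullback.snd Y.hom X.hom) p).paste_horiz (IsPullback.of_hasPullback Y.hom X.hom)
  have h2 : IsPullback (pullback.fst Y₁.hom X₁.hom ≫ q) (pullback.snd Y₁.hom X₁.hom) Y.hom (X₁.hom ≫ g) :=
    (IsPullback.of_hasPullback Y₁.hom X₁.hom).paste_horiz hY
  rw [← hX.w] at h2
  exact Over.isoMk (h1.isoIsPullback _ _ h2) (IsPullback.isoIsPullback_hom_snd _ _ _ _)

/-- Change of base for the Hom sheaf. -/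
noncomputable def homBase (hX : IsPullback p X₁.hom X.hom g) (hY : IsPullback q Y₁.hom Y.hom g) :
    (K595.ChBase.R g).obj (hom X Y) ≅ hom X₁ Y₁ :=
  restr hX.flip (Red.bc X.hom Y) ≪≫ wrCongr X₁.hom (bcIso hX hY)

end Base

end K607.HomRed
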