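import Groth.Agent.AlgSp.K607.HomRed

/-!
# The Hom functor: reduction to bases of finite type over `ℤ` (helper607)
-/

set_option autoImplicit false
universe u
open CategoryTheory CategoryTheory.Limits AlgebraicGeometry Opposite AlgSp

namespace K607.HomRed

/-- The statement over rings of finite type over `ℤ`. -/
def HomAlg : Prop :=
  ∀ (Λ : Type u) [CommRing Λ] [Algebra.FiniteType ℤ Λ] (X Y : Over (Spec (CommRingCat.of Λ))) [IsProper X.hom]
    [Flat X.hom] [LocallyOfFinitePresentation X.hom] [IsSeparated Y.hom] [LocallyOfFinitePresentation Y.hom]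
    [QuasiCompact Y.hom], IsAlgSpace (hom X Y)

theorem affine (H : HomAlg.{u}) (A : CommRingCat.{u}) (X Y : Over (Spec A)) [IsProper X.hom]
    [Flat X.hom] [LocallyOfFinitePresentation X.hom] [IsSeparated Y.hom] [LocallyOfFinitePresentation Y.hom]
    [QuasiCompact Y.hom] : IsAlgSpace (hom X Y) := by
  obtain ⟨Λ, hΛ, X₀, Y₀, f₀, g₀, p, q, hp, hq, _, _, _, _, _, _⟩ := HomModel.exists_model_Spec A X.hom Y.hom
  have hft : Algebra.FiniteType ℤ Λ := (Subalgebra.fg_iff_finiteType _).1 hΛ
  have i1 : IsProper (Over.mk f₀).hom := ‹_›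
  have i2 : Flat (Over.mk f₀).hom := ‹_›
  have i3 : LocallyOfFinitePresentation (Over.mk f₀).hom := ‹_›
  have i4 : IsSeparated (Over.mk g₀).hom := ‹_›
  have i5 : LocallyOfFinitePresentation (Over.mk g₀).hom := ‹_›
  have i6 : QuasiCompact (Over.mk g₀).hom := ‹_›
  have h1 := H Λ (Over.mk f₀) (Over.mk g₀)
  exact (K595.ChBase.isAlgSpace_R h1).of_iso (homBase (X := Over.mk f₀) (Y := Over.mk g₀) hp hq)

theorem affine' (H : HomAlg.{u}) {U : Scheme.{u}} [IsAffine U] (X Y : Over U) [IsProper X.hom]
    [Flat X.hom] [LocallyOfFinitePresentation X.hom] [IsSeparated Y.hom] [LocallyOfFinitePresentation Y.hom]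
    [QuasiCompact Y.hom] : IsAlgSpace (hom X Y) := by
  let e := U.isoSpec.hom
  have i1 : IsProper (Over.mk (X.hom ≫ e)).hom := inferInstanceAs (IsProper (X.hom ≫ e))
  have i2 : Flat (Over.mk (X.hom ≫ e)).hom := inferInstanceAs (Flat (X.hom ≫ e))
  have i3 : LocallyOfFinitePresentation (Over.mk (X.hom ≫ e)).hom :=
    inferInstanceAs (LocallyOfFinitePresentation (X.hom ≫ e))
  have i4 : IsSeparated (Over.mk (Y.hom ≫ e)).hom := inferInstanceAs (IsSeparated (Y.hom ≫ e))
  have i5 : LocallyOfFinitePresentation (Over.mk (Y.hom ≫ e)).hom :=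
    inferInstanceAs (LocallyOfFinitePresentation (Y.hom ≫ e))
  have i6 : QuasiCompact (Over.mk (Y.hom ≫ e)).hom := inferInstanceAs (QuasiCompact (Y.hom ≫ e))
  have h1 := affine H _ (Over.mk (X.hom ≫ e)) (Over.mk (Y.hom ≫ e))
  exact (K595.ChBase.isAlgSpace_R (g := e) h1).of_iso (homBase (X := Over.mk (X.hom ≫ e)) (Y := Over.mk (Y.hom ≫ e))
    (p := 𝟙 X.left) (q := 𝟙 Y.left) (IsPullback.of_horiz_isIso ⟨by simp⟩) (IsPullback.of_horiz_isIso ⟨by simp⟩))

/-- **Reduction.** -/
theorem isAlgSpace (H : HomAlg.{u}) {S : Scheme.{u}} (X Y : Over S) [IsProper X.hom]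
    [Flat X.hom] [LocallyOfFinitePresentation X.hom] [IsSeparated Y.hom] [LocallyOfFinitePresentation Y.hom]
    [QuasiCompact Y.hom] : IsAlgSpace (hom X Y) := by
  refine FpDesc.isAlgSpace_of_local (fun i => Over.mk (S.affineCover.f i)) (fun i => ?_) (fun i => ?_)
    (fun x => ?_) (fun i => ?_)
  · exact inferInstanceAs (Flat (S.affineCover.f i))
  · exact inferInstanceAs (LocallyOfFinitePresentation (S.affineCover.f i))
  · obtain ⟨y, hy⟩ := S.affineCover.covers x
    exact ⟨S.affineCover.idx x, y, hy⟩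
  · refine (K595.ChBase.isAlgSpace_R_iff _).1 ?_
    let g := S.affineCover.f i
    have i1 : IsProper ((Over.pullback g).obj X).hom := inferInstanceAs (IsProper (pullback.snd X.hom g))
    have i2 : Flat ((Over.pullback g).obj X).hom := inferInstanceAs (Flat (pullback.snd X.hom g))
    have i3 : LocallyOfFinitePresentation ((Over.pullback g).obj X).hom :=
      inferInstanceAs (LocallyOfFinitePresentation (pullback.snd X.hom g))
    have i4 : IsSeparated ((Over.pullback g).obj Y).hom := inferInstanceAs (IsSeparated (pullback.snd Y.hom g))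
    have i5 : LocallyOfFinitePresentation ((Over.pullback g).obj Y).hom :=
      inferInstanceAs (LocallyOfFinitePresentation (pullback.snd Y.hom g))
    have i6 : QuasiCompact ((Over.pullback g).obj Y).hom := inferInstanceAs (QuasiCompact (pullback.snd Y.hom g))
    have h1 := affine' H ((Over.pullback g).obj X) ((Over.pullback g).obj Y)
    exact h1.of_iso (homBase (X₁ := (Over.pullback g).obj X) (Y₁ := (Over.pullback g).obj Y)
      (IsPullback.of_hasPullback X.hom g) (IsPullback.of_hasPullback Y.hom g)).symm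

end K607.HomRed
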