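import Groth.Agent.S1270
import Groth.Agent.S8876
import Groth.Agent.S8873
import Groth.Agent.DEquiv.K354.GraphZ
import Groth.Agent.FlatMor.K260.IsoLocus
import Groth.Agent.Etrest.ProperOver
import Groth.Agent.Flat2B.GExEnd
import Groth.Agent.Dual.H353.DiagBC
import Groth.Agent.CohqA.AffineBaseChange
import Groth.Agent.PerfC.PullRestrict
import Groth.Agent.Desc.FPSections
import Groth.Agent.AlgSp.K598.ClFam
import Groth.Agent.AlgSp.K603.UnionAff
import Groth.Agent.UnramA.LfpOfComp
import Groth.Agent.Models2.FPCoh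
import Groth.Agent.FlatA.ClosedFP

/-!
# Algebraization of morphisms over a limit of rings (helper607)

`A = lim A_n` along surjections with locally nilpotent kernels, `X` proper flat lfp, `Y` separated lfp quasi-compact
over `A`: a compatible family of morphisms `X_n ⟶ Y` comes from a morphism `X ⟶ Y`.
-/

set_option autoImplicit false
set_option linter.unusedSectionVars false
universe u
open CategoryTheory CategoryTheory.Limits AlgebraicGeometry

namespace K607.HomSe

open Groth.Agent K354.GraphZ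

/-- A closed immersion with the kernel of the base change of `i` is a base change of `i`. -/
theorem isPullback_of_ker {X Y Z W : Scheme.{u}} {w : W ⟶ Z} {d : W ⟶ Y} {i : Z ⟶ X} {j : Y ⟶ X}
    [IsClosedImmersion i] [IsClosedImmersion d] (hw : w ≫ i = d ≫ j) (h : d.ker = i.ker.comap j) :
    IsPullback w d i j := by
  have sq := IsPullback.of_hasPullback i j
  have hc : IsClosedImmersion (pullback.snd i j) := inferInstance
  have h1 : (pullback.snd i j).ker = i.ker.comap j := K598.ClFam.ker_eq_comap_of_isPullback sq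
  let k : pullback i j ⟶ W := IsClosedImmersion.lift d (pullback.snd i j) (by rw [h1, h])
  have hk : k ≫ d = pullback.snd i j := IsClosedImmersion.lift_fac _ _ _
  have hl1 : sq.lift w d hw ≫ pullback.fst i j = w := sq.lift_fst _ _ _
  have hl2 : sq.lift w d hw ≫ pullback.snd i j = d := sq.lift_snd _ _ _
  have e2 : sq.lift w d hw ≫ k = 𝟙 _ := by
    rw [← cancel_mono d, Category.assoc, hk, hl2, Category.id_comp]
  have e1 : k ≫ sq.lift w d hw = 𝟙 _ := by
    rw [← cancel_mono (pullback.snd i j), Category.assoc, hl2, hk, Category.id_comp]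
  have hi : IsIso (sq.lift w d hw) := ⟨k, e2, e1⟩
  exact IsPullback.of_iso_pullback ⟨hw⟩ (asIso (sq.lift w d hw)) hl1 hl2

section Sec

/-- A section of a separated morphism is a closed immersion. -/
theorem isClosedImmersion_sec {X Y : Scheme.{u}} (s : X ⟶ Y) (f : Y ⟶ X) [IsSeparated f] (h : s ≫ f = 𝟙 X) :
    IsClosedImmersion s := by
  have : IsClosedImmersion (s ≫ f) := by rw [h]; infer_instance
  exact .of_comp s f

theorem lfp_sec {X Y : Scheme.{u}} (s : X ⟶ Y) (f : Y ⟶ X) [LocallyOfFiniteType f] (h : s ≫ f = 𝟙 X) :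
    LocallyOfFinitePresentation s := by
  refine UnramA.LfpOfComp.lfp_of_comp s f ?_ inferInstance
  rw [h]
  infer_instance

end Sec

section Core

variable {A : Type u} [CommRing A] (A' : ℕ → Type u) [∀ n, CommRing (A' n)]
    (φ : ∀ n, A' (n + 1) →+* A' n) (π : ∀ n, A →+* A' n) (hlim : FlatCA.IsRingLimit A A' φ π)
    (hsurj : ∀ n, Function.Surjective (φ n)) (hnil : ∀ n, ∀ x ∈ RingHom.ker (φ n), IsNilpotent x)
    {X Y : Scheme.{u}} (a : X ⟶ Spec (CommRingCat.of A)) [IsProper a] [Flat a] [LocallyOfFinitePresentation a]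
    (b : Y ⟶ Spec (CommRingCat.of A)) [IsSeparated b] [LocallyOfFinitePresentation b] [QuasiCompact b]
    (Xn : ℕ → Scheme.{u}) (x : ∀ n, Xn n ⟶ X) (r : ∀ n, Xn n ⟶ Spec (CommRingCat.of (A' n)))
    (hpb : ∀ n, IsPullback (x n) (r n) a (Spec.map (CommRingCat.ofHom (π n))))
    (ι : ∀ n, Xn n ⟶ Xn (n + 1)) (hιx : ∀ n, ι n ≫ x (n + 1) = x n)
    (hιr : ∀ n, ι n ≫ r (n + 1) = r n ≫ Spec.map (CommRingCat.ofHom (φ n)))
    (g : ∀ n, Xn n ⟶ Y) (hg : ∀ n, g n ≫ b = x n ≫ a) (hc : ∀ n, ι n ≫ g (n + 1) = g n)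

/-- `X_n × Y`. -/
noncomputable abbrev P (n : ℕ) : Scheme.{u} := pullback (x n) (pullback.fst a b)

/-- `X_n × Y ⟶ X × Y`. -/
noncomputable abbrev j (n : ℕ) : P a b Xn x n ⟶ pullback a b := pullback.snd _ _

/-- The graph of `g n`. -/
noncomputable def δ (n : ℕ) : Xn n ⟶ P a b Xn x n :=
  pullback.lift (𝟙 _) (pullback.lift (x n) (g n) (hg n).symm) (by
    rw [Category.id_comp, pullback.lift_fst])

lemma δ_fst (n : ℕ) : δ a b Xn x g hg n ≫ pullback.fst _ _ = 𝟙 _ := pullback.lift_fst _ _ _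

lemma δ_j (n : ℕ) : δ a b Xn x g hg n ≫ j a b Xn x n = pullback.lift (x n) (g n) (hg n).symm :=
  pullback.lift_snd _ _ _

instance (n : ℕ) : IsClosedImmersion (δ a b Xn x g hg n) :=
  isClosedImmersion_sec _ (pullback.fst (x n) (pullback.fst a b)) (δ_fst a b Xn x g hg n)

instance (n : ℕ) : LocallyOfFinitePresentation (δ a b Xn x g hg n) :=
  lfp_sec _ (pullback.fst (x n) (pullback.fst a b)) (δ_fst a b Xn x g hg n)

/-- The transition maps `X_n × Y ⟶ X_{n+1} × Y`. -/
noncomputable def tr (n : ℕ) : P a b Xn x n ⟶ P a b Xn x (n + 1) :=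
  pullback.lift (pullback.fst _ _ ≫ ι n) (pullback.snd _ _) (by
    rw [Category.assoc, hιx, pullback.condition])

lemma tr_fst (n : ℕ) : tr a b Xn x ι hιx n ≫ pullback.fst _ _ = pullback.fst _ _ ≫ ι n := pullback.lift_fst _ _ _

lemma tr_j (n : ℕ) : tr a b Xn x ι hιx n ≫ j a b Xn x (n + 1) = j a b Xn x n := pullback.lift_snd _ _ _

include hc in
lemma ι_δ (n : ℕ) : ι n ≫ δ a b Xn x g hg (n + 1) = δ a b Xn x g hg n ≫ tr a b Xn x ι hιx n := by
  apply pullback.hom_ext
  · rw [Category.assoc, Category.assoc, δ_fst, tr_fst, ← Category.assoc (δ a b Xn x g hg n), δ_fst,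
      Category.id_comp, Category.comp_id]
  · rw [Category.assoc, Category.assoc]
    change ι n ≫ δ a b Xn x g hg (n + 1) ≫ j a b Xn x (n + 1) =
      δ a b Xn x g hg n ≫ tr a b Xn x ι hιx n ≫ j a b Xn x (n + 1)
    rw [tr_j, δ_j, δ_j]
    apply pullback.hom_ext
    · rw [Category.assoc, pullback.lift_fst, pullback.lift_fst, hιx]
    · rw [Category.assoc, pullback.lift_snd, pullback.lift_snd, hc]

include hpb in
lemma isPullback_j (n : ℕ) : IsPullback (j a b Xn x n) (pullback.fst (x n) (pullback.fst a b) ≫ r n)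
    (pullback.fst a b ≫ a) (Spec.map (CommRingCat.ofHom (π n))) :=
  (IsPullback.of_hasPullback (x n) (pullback.fst a b)).flip.paste_vert (hpb n)

lemma isPullback_tr (n : ℕ) : IsPullback (tr a b Xn x ι hιx n) (pullback.fst (x n) (pullback.fst a b))
    (pullback.fst (x (n + 1)) (pullback.fst a b)) (ι n) := by
  have h1 : IsPullback (tr a b Xn x ι hιx n ≫ j a b Xn x (n + 1)) (pullback.fst (x n) (pullback.fst a b))
      (pullback.fst a b) (ι n ≫ x (n + 1)) := by
    rw [tr_j, hιx]
    exact (IsPullback.of_hasPullback (x n) (pullback.fst a b)).flip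
  exact IsPullback.of_right h1 (tr_fst a b Xn x ι hιx n) (IsPullback.of_hasPullback (x (n + 1)) (pullback.fst a b)).flip

include hc in
lemma isPullback_δ (n : ℕ) : IsPullback (ι n) (δ a b Xn x g hg n) (δ a b Xn x g hg (n + 1)) (tr a b Xn x ι hιx n) := by
  have h1 : IsPullback (ι n) (δ a b Xn x g hg n ≫ pullback.fst _ _) (δ a b Xn x g hg (n + 1) ≫ pullback.fst _ _) (ι n) := by
    rw [δ_fst, δ_fst]
    exact IsPullback.of_vert_isIso ⟨by simp⟩
  exact IsPullback.of_bot h1 (ι_δ a b Xn x ι hιx g hg hc n) (isPullback_tr a b Xn x ι hιx n)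

include hc in
lemma nonempty_iso (n : ℕ) : Nonempty ((Scheme.Modules.pullback (tr a b Xn x ι hιx n)).obj
    (pushO (δ a b Xn x g hg (n + 1))) ≅ pushO (δ a b Xn x g hg n)) := by
  have hq' : (Coh.structureModule (Xn (n + 1))).IsQuasicoherent := Ega2.QCohLocal.isQCoh_structureModule _
  obtain ⟨e⟩ := CohqA.AffineBaseChange.nonempty_iso (isPullback_δ a b Xn x ι hιx g hg hc n)
    (Coh.structureModule (Xn (n + 1)))
  exact ⟨e ≪≫ (Scheme.Modules.pushforward (δ a b Xn x g hg n)).mapIso (PerfC.PullRestrict.pullbackUnit (ι n))⟩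

lemma isFP_F (n : ℕ) : CohB1.IsFP (pushO (δ a b Xn x g hg n)) :=
  (Desc.FPSections.isFP_pushforward_iff (δ a b Xn x g hg n) _ (Ega2.QCohLocal.isQCoh_structureModule _)).1
    PerfB.StructFlat.isFP_structure

include hpb in
lemma isFlatOver_F (n : ℕ) : FlatMod.IsFlatOver (pullback.fst (x n) (pullback.fst a b) ≫ r n)
    (pushO (δ a b Xn x g hg n)) := by
  refine Dual.H353.DiagBC.isFlatOver_pushforward _ _ _ (Ega2.QCohLocal.isQCoh_structureModule _) ?_
  have h : Flat (δ a b Xn x g hg n ≫ pullback.fst (x n) (pullback.fst a b) ≫ r n) := by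
    rw [← Category.assoc, δ_fst, Category.id_comp]
    exact MorphismProperty.of_isPullback (P := @Flat) (hpb n) inferInstance
  exact PerfB.StructFlat.isFlatOver_structure _

lemma support_F (n : ℕ) : Set.range (δ a b Xn x g hg n) = CohB1.support (pushO (δ a b Xn x g hg n)) := by
  have h1 := isFP_F a b Xn x g hg n
  rw [← S8876.result _ _ (Models2.FPCoh.isQCoh_of_isFP h1) (Models2.FPCoh.isFT_of_isFP h1),
    sheafIdeal_push_zero _ (Models2.FPCoh.isQCoh_of_isFP h1) (Models2.FPCoh.isFT_of_isFP h1),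
    Scheme.Hom.support_ker, (δ a b Xn x g hg n).isClosedEmbedding.isClosed_range.closure_eq]

include hpb in
lemma isProperOver_F (n : ℕ) : ClSub.IsProperOver (pullback.fst (x n) (pullback.fst a b) ≫ r n)
    (CohB1.support (pushO (δ a b Xn x g hg n))) := by
  have h0 : IsProper (r n) := MorphismProperty.of_isPullback (P := @IsProper) (hpb n) inferInstance
  rw [Etrest.ProperOver.isProperOver_iff' (δ a b Xn x g hg n) _ (support_F a b Xn x g hg n),
    ← Category.assoc, δ_fst, Category.id_comp]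
  exact h0

end Core

section Alg

theorem exists_lift_of_mem_range {Z W T : Scheme.{u}} (i : Z ⟶ W) [IsClosedImmersion i] (t : T ⟶ W) [IsReduced T]
    (h : ∀ x : T, t x ∈ Set.range i) : ∃ l : T ⟶ Z, l ≫ i = t := by
  have h1 : Surjective (pullback.snd i t) := by
    refine ⟨fun x => ?_⟩
    obtain ⟨z, hz⟩ := h x
    obtain ⟨w, -, hw⟩ := Scheme.Pullback.exists_preimage_pullback (f := i) (g := t) z x hz
    exact ⟨w, hw⟩
  have h2 : IsIso (pullback.snd i t) := isIso_of_isClosedImmersion_of_surjective _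
  refine ⟨inv (pullback.snd i t) ≫ pullback.fst i t, ?_⟩
  rw [Category.assoc, pullback.condition, IsIso.inv_hom_id_assoc]

variable {A : Type u} [CommRing A] {A₀ : Type u} [CommRing A₀] (π : A →+* A₀) (hπ : Function.Surjective π)
  (hI : RingHom.ker π ≤ Ideal.jacobson ⊥) {X Y : Scheme.{u}}
  (a : X ⟶ Spec (CommRingCat.of A)) [IsProper a]

include hπ in
lemma mem_range_iff (s : Spec (CommRingCat.of A)) :
    s ∈ Set.range (Spec.map (CommRingCat.ofHom π)) ↔ s ∈ PrimeSpectrum.zeroLocus (RingHom.ker π : Set A) := by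
  have h := range_comap_of_surjective A₀ π hπ
  rw [← h]
  rfl

include hπ hI in
/-- An open subset of a proper scheme which contains the closed fibre is everything. -/
theorem eq_top_of_fibre (U : X.Opens) (h : ∀ x : X, a x ∈ Set.range (Spec.map (CommRingCat.ofHom π)) → x ∈ U) :
    U = ⊤ := by
  have h1 : ((U : Set X)ᶜ) = ∅ := by
    refine Flat2B.GExGlob.eq_empty_of_isClosed a (RingHom.ker π) hI _ U.isOpen.isClosed_compl ?_
    intro x hx h2
    exact hx (h x ((mem_range_iff π hπ _).2 h2))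
  ext1
  exact Set.compl_empty_iff.1 h1

include hπ hI in
/-- A morphism of proper `A`-schemes, flat and lfp source, which is an isomorphism over `A₀`, is an isomorphism. -/
theorem isIso_of_fibre {Z : Scheme.{u}} (p : Z ⟶ X) [IsProper (p ≫ a)] [Flat (p ≫ a)]
    [LocallyOfFinitePresentation (p ≫ a)] {X₀ : Scheme.{u}} (w : X₀ ⟶ Z) (x : X₀ ⟶ X) (r : X₀ ⟶ Spec (CommRingCat.of A₀))
    (hw : IsPullback w (𝟙 _) p x) (hx : IsPullback x r a (Spec.map (CommRingCat.ofHom π))) : IsIso p := by
  have hp : IsProper p := .of_comp p a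
  have hl : LocallyOfFinitePresentation p := UnramA.LfpOfComp.lfp_of_comp p a inferInstance inferInstance
  have key : ∀ y : X, a y ∈ Set.range (Spec.map (CommRingCat.ofHom π)) → y ∈ K260.IsoLocus.isoOpen p := by
    intro y hy
    have hP : IsIso (CohIII.fiberMapOver p (p ≫ a) a rfl (a y)) := by
      have hm : ∃ c : a.fiber (a y) ⟶ X₀, c ≫ x = a.fiberι (a y) := by
        have h2 : ∃ c : Spec ((Spec (CommRingCat.of A)).residueField (a y)) ⟶ Spec (CommRingCat.of A₀),
            c ≫ Spec.map (CommRingCat.ofHom π) = (Spec (CommRingCat.of A)).fromSpecResidueField (a y) := by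
          have hcl : IsClosedImmersion (Spec.map (CommRingCat.ofHom π)) := IsClosedImmersion.spec_of_surjective _ hπ
          refine exists_lift_of_mem_range _ _ fun z => ?_
          rw [Scheme.fromSpecResidueField_apply]
          exact hy
        obtain ⟨c, hc⟩ := h2
        refine ⟨hx.lift (a.fiberι (a y)) (a.fiberToSpecResidueField (a y) ≫ c) ?_, hx.lift_fst _ _ _⟩
        rw [Category.assoc, hc]
        exact pullback.condition
      obtain ⟨c, hc⟩ := hm
      have h3 := Ega3B.FibreSpread.isPullback_fiberMapOver p (p ≫ a) a rfl (a y)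
      rw [← hc] at h3
      have h4 := IsPullback.of_right' h3.flip hw
      exact (MorphismProperty.isomorphisms Scheme.{u}).of_isPullback h4 (inferInstanceAs (IsIso (𝟙 _)))
    obtain ⟨V, hyV, hV⟩ := K260.IsoLocus.exists_isIso_near p (p ≫ a) a rfl y hP
    exact K260.IsoLocus.le_isoOpen p V hV hyV
  have htop := eq_top_of_fibre π hπ hI a _ key
  change MorphismProperty.isomorphisms Scheme.{u} p
  refine IsZariskiLocalAtTarget.of_forall_exists_morphismRestrict fun y => ?_
  exact ⟨K260.IsoLocus.isoOpen p, by rw [htop]; trivial, K260.IsoLocus.isIso_isoOpen p⟩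

end Alg

section Main

variable {A : Type u} [CommRing A] (A' : ℕ → Type u) [∀ n, CommRing (A' n)]
    (φ : ∀ n, A' (n + 1) →+* A' n) (π : ∀ n, A →+* A' n) (hlim : FlatCA.IsRingLimit A A' φ π)
    (hsurj : ∀ n, Function.Surjective (φ n)) (hnil : ∀ n, ∀ x ∈ RingHom.ker (φ n), IsNilpotent x)
    {X Y : Scheme.{u}} (a : X ⟶ Spec (CommRingCat.of A)) [IsProper a] [Flat a] [LocallyOfFinitePresentation a]
    (b : Y ⟶ Spec (CommRingCat.of A)) [IsSeparated b] [LocallyOfFinitePresentation b] [QuasiCompact b]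
    (Xn : ℕ → Scheme.{u}) (x : ∀ n, Xn n ⟶ X) (r : ∀ n, Xn n ⟶ Spec (CommRingCat.of (A' n)))
    (hpb : ∀ n, IsPullback (x n) (r n) a (Spec.map (CommRingCat.ofHom (π n))))
    (ι : ∀ n, Xn n ⟶ Xn (n + 1)) (hιx : ∀ n, ι n ≫ x (n + 1) = x n)
    (hιr : ∀ n, ι n ≫ r (n + 1) = r n ≫ Spec.map (CommRingCat.ofHom (φ n)))
    (g : ∀ n, Xn n ⟶ Y) (hg : ∀ n, g n ≫ b = x n ≫ a) (hc : ∀ n, ι n ≫ g (n + 1) = g n)

include hlim hsurj hnil hpb hιx hιr hg hc in
/-- **Algebraization of morphisms.** -/
theorem core : ∃ g' : X ⟶ Y, g' ≫ b = a ∧ ∀ n, x n ≫ g' = g n := by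
  have hπ0 : Function.Surjective (π 0) := S1244.pi_surjective A' φ π hlim hsurj 0
  have hI := Flat2B.GEx.ker_le_jacobson A' φ π hlim hsurj hnil
  obtain ⟨G, hGfp, hGfl, hGpr, hGe⟩ := S1270.result A' φ π hlim hsurj hnil (pullback.fst a b ≫ a)
    (fun n => P a b Xn x n) (fun n => j a b Xn x n) (fun n => pullback.fst (x n) (pullback.fst a b) ≫ r n)
    (isPullback_j A' π a b Xn x r hpb) (tr a b Xn x ι hιx) (tr_j a b Xn x ι hιx)
    (fun n => by rw [← Category.assoc, tr_fst, Category.assoc, hιr, Category.assoc])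
    (fun n => pushO (δ a b Xn x g hg n)) (isFP_F a b Xn x g hg) (isFlatOver_F A' π a b Xn x r hpb g hg)
    (isProperOver_F A' π a b Xn x r hpb g hg) (fun n => (nonempty_iso a b Xn x ι hιx g hg hc n).some)
  have hq := Models2.FPCoh.isQCoh_of_isFP hGfp
  have hft := Models2.FPCoh.isFT_of_isFP hGfp
  let I := Fitt.sheafIdeal G 0
  let ζ := I.subschemeι
  have hcomap : ∀ n, I.comap (j a b Xn x n) = (δ a b Xn x g hg n).ker := fun n =>
    comap_eq (j a b Xn x n) G hq hft (δ a b Xn x g hg n) (hGe n).some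
  have hr : Set.range ζ = CohB1.support G := by
    rw [← S8876.result _ G hq hft]
    exact Scheme.IdealSheafData.range_subschemeι _
  have hprop : IsProper (ζ ≫ pullback.fst a b ≫ a) :=
    (Etrest.ProperOver.isProperOver_iff' ζ (pullback.fst a b ≫ a) hr).1 hGpr
  have hlfp : LocallyOfFinitePresentation ζ :=
    FlatA.ClosedFP.locallyOfFinitePresentation_subschemeι _ (S8873.result _ G hGfp 0)
  have hsup : ∀ z : I.subscheme, ζ z ∉ (Fitt.sheafIdeal G 1).support := by
    have h1 : ζ ⁻¹' ((Fitt.sheafIdeal G 1).support : Set _) = ∅ := by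
      refine Flat2B.GExGlob.eq_empty_of_isClosed (ζ ≫ pullback.fst a b ≫ a) (RingHom.ker (π 0)) hI _
        ((Fitt.sheafIdeal G 1).support.isClosed.preimage ζ.continuous) ?_
      intro z hz h2
      have h3 : ζ z ∈ Set.range (j a b Xn x 0) := by
        rw [K603.UnionAff.range_of_isPullback (isPullback_j A' π a b Xn x r hpb 0)]
        exact (mem_range_iff (π 0) hπ0 _).2 h2
      obtain ⟨w, hw⟩ := h3
      have h4 := notMem_support_of_iso (j a b Xn x 0) G hq hft (δ a b Xn x g hg 0) (hGe 0).some w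
      rw [hw] at h4
      exact h4 hz
    intro z hz
    have : z ∈ ζ ⁻¹' ((Fitt.sheafIdeal G 1).support : Set _) := hz
    rw [h1] at this
    exact this
  have hflat : Flat (ζ ≫ pullback.fst a b ≫ a) := by
    rw [Flat.iff_flat_stalkMap]
    exact fun z => flat_stalkMap G hq hft _ z (hsup z) (hGfl _)
  have hδj : ∀ n, ∃ w : Xn n ⟶ I.subscheme, IsPullback w (δ a b Xn x g hg n) ζ (j a b Xn x n) := by
    intro n
    have h1 : ζ.ker ≤ (δ a b Xn x g hg n ≫ j a b Xn x n).ker := by
      rw [Scheme.IdealSheafData.ker_subschemeι, ← Scheme.IdealSheafData.map_ker,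
        Scheme.IdealSheafData.le_map_iff_comap_le, hcomap]
    refine ⟨IsClosedImmersion.lift ζ _ h1, isPullback_of_ker (IsClosedImmersion.lift_fac _ _ _) ?_⟩
    rw [Scheme.IdealSheafData.ker_subschemeι]
    exact (hcomap n).symm
  choose w hw using hδj
  have hwp : ∀ n, IsPullback (w n) (𝟙 _) (ζ ≫ pullback.fst a b) (x n) := by
    intro n
    have h1 := (hw n).paste_vert (IsPullback.of_hasPullback (x n) (pullback.fst a b)).flip
    rw [δ_fst] at h1
    exact h1
  have : IsProper ((ζ ≫ pullback.fst a b) ≫ a) := by rw [Category.assoc]; exact hprop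
  have : Flat ((ζ ≫ pullback.fst a b) ≫ a) := by rw [Category.assoc]; exact hflat
  have : LocallyOfFinitePresentation ((ζ ≫ pullback.fst a b) ≫ a) := inferInstance
  have hiso : IsIso (ζ ≫ pullback.fst a b) :=
    isIso_of_fibre (π 0) hπ0 hI a (ζ ≫ pullback.fst a b) (w 0) (x 0) (r 0) (hwp 0) (hpb 0)
  refine ⟨inv (ζ ≫ pullback.fst a b) ≫ ζ ≫ pullback.snd a b, ?_, fun n => ?_⟩
  · rw [Category.assoc, Category.assoc, ← pullback.condition, ← Category.assoc ζ, IsIso.inv_hom_id_assoc]
  · have h1 : x n ≫ inv (ζ ≫ pullback.fst a b) = w n := by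
      rw [IsIso.comp_inv_eq, (hwp n).w, Category.id_comp]
    rw [← Category.assoc, h1, ← Category.assoc, (hw n).w, δ_j, pullback.lift_snd]

end Main

end K607.HomSe
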