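import Groth.Agent.AlgSp.K607.Chart
import Groth.Agent.AlgSp.K594.Atlas
import Groth.Agent.AlgSp.K609.Points

/-!
# A sheaf with a flat, finitely presented, locally quasi-finite cover is an algebraic space
-/

set_option autoImplicit false
universe u

open CategoryTheory CategoryTheory.Limits AlgebraicGeometry Opposite

namespace K607.Lqf

open AlgSp K607.ExV K607.Chart

variable {S : Scheme.{u}}

theorem isSeparated_of_isEqvRel {R U : Over S} {s t : R ⟶ U} (h : IsEqvRel s t) [IsSeparated U.hom] :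
    IsSeparated t.left := by
  have h1 : (Eqv.gpd h).j ≫ pullback.fst _ _ = t.left := pullback.lift_fst _ _ _
  have h2 : Mono (Eqv.gpd h).j := Eqv.mono_j h
  have h3 : IsSeparated (pullback.fst U.hom U.hom) := inferInstance
  have h4 : IsSeparated (pullback.fst (Eqv.gpd h).pU (Eqv.gpd h).pU) := h3
  have h5 : IsSeparated ((Eqv.gpd h).j ≫ pullback.fst (Eqv.gpd h).pU (Eqv.gpd h).pU) := inferInstance
  rw [h1] at h5
  exact h5

/-- The etale chart through a point. -/
theorem exists_etale_chart {F : Sp S} (hF : Representable (Limits.diag F)) {U : Over S} (p : (yon S).obj U ⟶ F)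
    [IsAffine U.left] [IsSeparated U.hom] (hfl : RepWith @Flat p) (hlfp : RepWith @LocallyOfFinitePresentation p)
    (hlqf : RepWith @LocallyQuasiFinite p) (x : U.left) :
    ∃ (M : Over S) (η : (yon S).obj M ⟶ F) (m : M.left), RepWith @Etale η ∧ Points.ofPt η m = Points.ofPt p x := by
  obtain ⟨R, s, fst, hp⟩ := hfl.1 p
  obtain ⟨t, rfl⟩ := (yon S).map_surjective fst
  have heqv := isEqvRel_of_isPullback hp
  have h1 : Flat s.left := hfl.2 _ _ _ hp
  have h2 : LocallyOfFinitePresentation s.left := hlfp.2 _ _ _ hp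
  have h3 : Flat t.left := hfl.2 _ _ _ hp.flip
  have h4 : LocallyOfFinitePresentation t.left := hlfp.2 _ _ _ hp.flip
  have h5 : LocallyQuasiFinite t.left := hlqf.2 _ _ _ hp.flip
  have h6 : IsSeparated t.left := isSeparated_of_isEqvRel heqv
  obtain ⟨N, y, hy⟩ := exists_nbhd heqv x
  obtain ⟨M, W, η, i, ρ, hη, hρ, w, hw⟩ := exists_chart hF hp hfl hlfp N y
  refine ⟨M, η, ρ.left w, hη, ?_⟩
  rw [← K609.Points.ofPt_yon_map_comp, hρ, K609.Points.ofPt_yon_map_comp, ← hy, ← hw]
  rfl

/-- A sheaf with representable diagonal and a jointly surjective family of flat, finitely presented, locally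
quasi-finite maps from affine schemes is an algebraic space. -/
theorem isAlgSpace_of_lqf_family {F : Sp S} (hF : Representable (Limits.diag F)) {ι : Type u} (U : ι → Over S)
    (p : ∀ i, (yon S).obj (U i) ⟶ F) (haff : ∀ i, IsAffine (U i).left) (hsep : ∀ i, IsSeparated (U i).hom)
    (hfl : ∀ i, RepWith @Flat (p i)) (hlfp : ∀ i, RepWith @LocallyOfFinitePresentation (p i))
    (hlqf : ∀ i, RepWith @LocallyQuasiFinite (p i))
    (hsurj : ∀ y : Points F, ∃ (i : ι) (u : (U i).left), Points.ofPt (p i) u = y) : IsAlgSpace F := by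
  choose M η m hη hm using fun k : (Σ i, (U i).left) =>
    exists_etale_chart hF (p k.1) (hfl k.1) (hlfp k.1) (hlqf k.1) k.2
  obtain ⟨q, hq⟩ := K594.Atlas.exists_sigma_map η
  have h1 : RepWith @Etale q := K594.Atlas.repWith_sig @Etale q fun k => by rw [hq]; exact hη k
  refine K594.Bootstrap.isAlgSpace_of_etale q h1 ?_
  rw [K609.Points.repWith_surjective_iff h1.1, ← K609.Points.surjective_ofPt_iff]
  intro y
  obtain ⟨i, u, rfl⟩ := hsurj y
  refine ⟨(K594.Cover.sigι M ⟨i, u⟩).left (m ⟨i, u⟩), ?_⟩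
  rw [← K609.Points.ofPt_yon_map_comp, hq, hm]

end K607.Lqf
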