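import Groth.Agent.AlgSp.K607.PRel

/-!
# The locus where two open families agree is open
-/

set_option autoImplicit false
universe u

open CategoryTheory CategoryTheory.Limits AlgebraicGeometry

namespace K607.HilbData

variable {S : Scheme.{u}} {R U : Over S} {s t : R ⟶ U} (h : AlgSp.IsEqvRel s t) {d : ℕ} (D : HilbData t.left d)
  (e : U.left ⟶ R.left)

variable {D e}

include h in
theorem le_iff_sf {T : Scheme.{u}} {a b : T ⟶ D.V e} {W₁ W₂ : Scheme.{u}} {ζ₁ : W₁ ⟶ D.Z} {p₁ : W₁ ⟶ T}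
    (sq₁ : IsPullback ζ₁ p₁ D.π (a ≫ (D.V e).ι)) {ζ₂ : W₂ ⟶ D.Z} {p₂ : W₂ ⟶ T}
    (sq₂ : IsPullback ζ₂ p₂ D.π (b ≫ (D.V e).ι)) {c : T ⟶ U.left} {r₁ : W₁ ⟶ R.left} {r₂ : W₂ ⟶ R.left}
    (h₁ : r₁ ≫ t.left = p₁ ≫ c) (h₂ : r₂ ≫ t.left = p₂ ≫ c) (h₁' : r₁ ≫ s.left = ζ₁ ≫ D.ρ ≫ s.left)
    (h₂' : r₂ ≫ s.left = ζ₂ ≫ D.ρ ≫ s.left) {T' : Scheme.{u}} (g : T' ⟶ T) :
    EqLoc.Le p₁ r₁ p₂ r₂ g ↔ D.SF s e (g ≫ a) (g ≫ b) := by
  constructor
  · intro H T'' k z hz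
    have hz' : z ≫ D.π = (k ≫ g) ≫ a ≫ (D.V e).ι := by rw [hz]; simp only [Category.assoc]
    obtain ⟨z', hz1, hz2⟩ := H k (sq₁.lift z (k ≫ g) hz') (sq₁.lift_snd _ _ _)
    refine ⟨z' ≫ ζ₂, ?_, ?_⟩
    · rw [Category.assoc, sq₂.w, reassoc_of% hz1]
      simp only [Category.assoc]
    · rw [Category.assoc, ← h₂', reassoc_of% hz2, h₁', ← Category.assoc, sq₁.lift_fst]
  · intro H T'' k z hz
    obtain ⟨z', hz1, hz2⟩ := H k (z ≫ ζ₁) (by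
      rw [Category.assoc, sq₁.w, reassoc_of% hz]; simp only [Category.assoc])
    have hz' : z' ≫ D.π = (k ≫ g) ≫ b ≫ (D.V e).ι := by rw [hz1]; simp only [Category.assoc]
    refine ⟨sq₂.lift z' (k ≫ g) hz', sq₂.lift_snd _ _ _, Eqv.hom_ext h ?_ ?_⟩
    · rw [Category.assoc, h₂, Category.assoc, h₁, ← Category.assoc, sq₂.lift_snd, reassoc_of% hz,
        Category.assoc]
    · rw [Category.assoc, h₂', Category.assoc, h₁', ← Category.assoc, sq₂.lift_fst, hz2]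
      simp only [Category.assoc]

include h in
theorem exists_open_fe {T : Scheme.{u}} (a b : T ⟶ D.V e) (r : T ⟶ R.left) (hr : r ≫ t.left = a ≫ D.v e)
    (hr' : r ≫ s.left = b ≫ D.v e) :
    ∃ O : T.Opens, ∀ ⦃T' : Scheme.{u}⦄ (g : T' ⟶ T), Set.range g ⊆ O ↔ D.FE s e (g ≫ a) (g ≫ b) := by
  obtain ⟨i, hi1, hi2⟩ := Eqv.exists_i h
  have sqX := IsPullback.of_hasPullback t.left ((b ≫ (D.V e).ι) ≫ D.h)
  obtain ⟨δ, hδ, sqδ⟩ := Eqv.isPullback_change h sqX (r ≫ i) (by rw [Category.assoc, hi2, hr', Category.assoc])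
    (b := (a ≫ (D.V e).ι) ≫ D.h) (by rw [Category.assoc, hi1, hr, Category.assoc])
  have w₁ := D.famW (a ≫ (D.V e).ι)
  have w₂ : (D.incl (b ≫ (D.V e).ι) ≫ δ) ≫ t.left = pullback.snd D.π (b ≫ (D.V e).ι) ≫
      (a ≫ (D.V e).ι) ≫ D.h := by
    rw [Category.assoc, sqδ.w, D.incl_snd_assoc]
  have f1 : IsFinite D.π := D.fin.1.1
  have f2 : Flat D.π := D.fin.1.2.1
  have o1 : IsOpenImmersion (pullback.lift _ _ w₁) := (D.opn_V e).comp a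
  have hiso : pullback.lift _ _ w₂ = D.incl (b ≫ (D.V e).ι) ≫ sqδ.isoPullback.hom := by
    apply pullback.hom_ext
    · rw [pullback.lift_fst]
      exact ((Category.assoc _ _ _).trans (congrArg (fun f => D.incl _ ≫ f) sqδ.isoPullback_hom_fst)).symm
    · rw [pullback.lift_snd]
      exact ((Category.assoc _ _ _).trans ((congrArg (fun f => D.incl _ ≫ f) sqδ.isoPullback_hom_snd).trans
        (D.incl_snd _))).symm
  have m2 : Mono (pullback.lift _ _ w₂) := by rw [hiso]; infer_instance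
  obtain ⟨O, hO⟩ := EqLoc.exists_open w₁ w₂ (fun y => by
    have e1 := Scheme.Hom.finrank_pullback_snd D.π (b ≫ (D.V e).ι) y
    have e2 := Scheme.Hom.finrank_pullback_snd D.π (a ≫ (D.V e).ι) y
    rw [e1, e2, D.fin.2, D.fin.2])
  refine ⟨O, fun T' g => ?_⟩
  have s1 := IsPullback.of_hasPullback D.π (a ≫ (D.V e).ι)
  have s2 := IsPullback.of_hasPullback D.π (b ≫ (D.V e).ι)
  have c1 : (pullback.fst D.π (a ≫ (D.V e).ι) ≫ D.ρ) ≫ s.left = pullback.fst D.π (a ≫ (D.V e).ι) ≫ D.ρ ≫ s.left := by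
    rw [Category.assoc]
  have c2 : (D.incl (b ≫ (D.V e).ι) ≫ δ) ≫ s.left = pullback.fst D.π (b ≫ (D.V e).ι) ≫ D.ρ ≫ s.left := by
    rw [Category.assoc, hδ, D.incl_fst_assoc]
  rw [hO g, le_iff_sf h s1 s2 w₁ w₂ c1 c2, le_iff_sf h s2 s1 w₂ w₁ c2 c1]
  rfl

end K607.HilbData
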