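import Groth.Agent.AlgSp.K607.VOpen
import Groth.Agent.AlgSp.K607.Eqv

/-!
# The finite locally free equivalence relation on the open part of the Hilbert scheme
-/

set_option autoImplicit false
universe u

open CategoryTheory CategoryTheory.Limits AlgebraicGeometry

namespace K607.Eqv

variable {S : Scheme.{u}} {R U : Over S} {s t : R ⟶ U} (h : AlgSp.IsEqvRel s t)

include h

/-- `α⁻¹ ∘ β`. -/
theorem exists_div {T : Scheme.{u}} (α β : T ⟶ R.left) (w : α ≫ t.left = β ≫ t.left) :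
    ∃ c : T ⟶ R.left, c ≫ t.left = α ≫ s.left ∧ c ≫ s.left = β ≫ s.left := by
  obtain ⟨i, hi1, hi2⟩ := exists_i h
  obtain ⟨c, hc1, hc2⟩ := exists_comp h (α ≫ i) β (by rw [Category.assoc, hi1, w])
  exact ⟨c, by rw [hc2, Category.assoc, hi2], hc1⟩

/-- Change of the base point: the fibre product of `t` with `v` is also the fibre product with an equivalent `b`. -/
theorem isPullback_change {T X : Scheme.{u}} {v b : T ⟶ U.left} {x₁ : X ⟶ R.left} {x₂ : X ⟶ T}
    (sq : IsPullback x₁ x₂ t.left v) (r : T ⟶ R.left) (hr : r ≫ t.left = v) (hr' : r ≫ s.left = b) :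
    ∃ δ : X ⟶ R.left, δ ≫ s.left = x₁ ≫ s.left ∧ IsPullback δ x₂ t.left b := by
  obtain ⟨δ, h1, h2⟩ := exists_div h (x₂ ≫ r) x₁ (by rw [Category.assoc, hr, sq.w])
  rw [Category.assoc, hr'] at h1
  refine ⟨δ, h2, IsPullback.of_isLimit' ⟨h1⟩ ?_⟩
  have hex : ∀ c : PullbackCone t.left b, ∃ l : c.pt ⟶ X, l ≫ δ = c.fst ∧ l ≫ x₂ = c.snd := by
    intro c
    obtain ⟨m, hm1, hm2⟩ := exists_comp h (c.snd ≫ r) c.fst (by rw [Category.assoc, hr', c.condition])
    rw [Category.assoc, hr] at hm2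
    refine ⟨sq.lift m c.snd hm2, hom_ext h ?_ ?_, sq.lift_snd _ _ _⟩
    · rw [Category.assoc, h1, ← Category.assoc, sq.lift_snd, c.condition]
    · rw [Category.assoc, h2, ← Category.assoc, sq.lift_fst, hm1]
  choose l hl1 hl2 using hex
  refine PullbackCone.IsLimit.mk _ l hl1 hl2 fun c m hm1 hm2 => ?_
  apply sq.hom_ext
  · apply hom_ext h
    · rw [Category.assoc, Category.assoc, sq.w, reassoc_of% hm2, reassoc_of% (hl2 c)]
    · rw [Category.assoc, Category.assoc, ← h2, reassoc_of% hm1, reassoc_of% (hl1 c)]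
  · rw [hm2, hl2]

end K607.Eqv

namespace K607.HilbData

variable {S : Scheme.{u}} {R U : Over S} {s t : R ⟶ U} (h : AlgSp.IsEqvRel s t) {d : ℕ} (D : HilbData t.left d)
  (e : U.left ⟶ R.left)

/-- The structure map of `V`. -/
noncomputable abbrev v : (D.V e).toScheme ⟶ U.left := (D.V e).ι ≫ D.h

/-- The universal family over `V`. -/
noncomputable abbrev P : Scheme.{u} := pullback D.π (D.V e).ι

/-- The projection of the universal family over `V`. -/
noncomputable abbrev Pπ : D.P e ⟶ (D.V e).toScheme := pullback.snd D.π (D.V e).ι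

/-- The map to `R` of the universal family over `V`. -/
noncomputable abbrev Pr : D.P e ⟶ R.left := pullback.fst D.π (D.V e).ι ≫ D.ρ

theorem Pr_t : D.Pr e ≫ t.left = D.Pπ e ≫ D.v e := D.famW _

variable (s) in
/-- The family of `a` is contained in the family of `b`. -/
def SF {T : Scheme.{u}} (a b : T ⟶ D.V e) : Prop :=
  ∀ ⦃T' : Scheme.{u}⦄ (g : T' ⟶ T) (z : T' ⟶ D.Z), z ≫ D.π = g ≫ a ≫ (D.V e).ι →
    ∃ z' : T' ⟶ D.Z, z' ≫ D.π = g ≫ b ≫ (D.V e).ι ∧ z' ≫ D.ρ ≫ s.left = z ≫ D.ρ ≫ s.left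

variable {D e}

theorem SF.refl {T : Scheme.{u}} (a : T ⟶ D.V e) : D.SF s e a a := fun _ _ z hz => ⟨z, hz, rfl⟩

theorem SF.trans {T : Scheme.{u}} {a b c : T ⟶ D.V e} (h1 : D.SF s e a b) (h2 : D.SF s e b c) : D.SF s e a c := by
  intro T' g z hz
  obtain ⟨z', hz1, hz2⟩ := h1 g z hz
  obtain ⟨z'', hz3, hz4⟩ := h2 g z' hz1
  exact ⟨z'', hz3, hz4.trans hz2⟩

theorem SF.comp {T T' : Scheme.{u}} {a b : T ⟶ D.V e} (h1 : D.SF s e a b) (k : T' ⟶ T) :
    D.SF s e (k ≫ a) (k ≫ b) := by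
  intro T'' g z hz
  obtain ⟨z', hz1, hz2⟩ := h1 (g ≫ k) z (by rw [hz]; simp only [Category.assoc])
  exact ⟨z', by rw [hz1]; simp only [Category.assoc], hz2⟩

include h in
theorem hom_ext_V {T : Scheme.{u}} {a b : T ⟶ D.V e} (hv : a ≫ D.v e = b ≫ D.v e) (h1 : D.SF s e a b)
    (h2 : D.SF s e b a) : a = b := by
  rw [← cancel_mono (D.V e).ι]
  have key : ∀ {a b : T ⟶ D.V e}, a ≫ D.v e = b ≫ D.v e → D.SF s e a b → ∀ {T' : Scheme.{u}} (g : T' ⟶ T)
      (z : T' ⟶ D.Z), z ≫ D.π = g ≫ a ≫ (D.V e).ι → ∃ z' : T' ⟶ D.Z, z' ≫ D.π = g ≫ b ≫ (D.V e).ι ∧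
        z' ≫ D.ρ = z ≫ D.ρ := by
    intro a b hv h1 T' g z hz
    obtain ⟨z', hz1, hz2⟩ := h1 g z hz
    refine ⟨z', hz1, Eqv.hom_ext h ?_ (by simpa only [Category.assoc] using hz2)⟩
    rw [Category.assoc, Category.assoc, D.w, reassoc_of% hz1, reassoc_of% hz]
    congr 1
    rw [← hv]
  refine D.hom_ext _ _ (by simpa only [Category.assoc] using hv) (fun g z hz => key hv h1 g z hz)
    (fun g z hz => key hv.symm h2 g z hz)

variable (D e)

theorem exists_pt {T : Scheme.{u}} (a : T ⟶ D.V e) (z : T ⟶ D.Z) (hz : z ≫ D.π = a ≫ (D.V e).ι) :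
    ∃ x : T ⟶ D.P e, x ≫ D.Pπ e = a ∧ x ≫ D.Pr e = z ≫ D.ρ :=
  ⟨pullback.lift z a hz, pullback.lift_snd _ _ _, by rw [← Category.assoc, pullback.lift_fst]⟩

theorem pt_ext {T : Scheme.{u}} {x y : T ⟶ D.P e} (h1 : x ≫ D.Pπ e = y ≫ D.Pπ e) (h2 : x ≫ D.Pr e = y ≫ D.Pr e) :
    x = y := by
  rw [← cancel_mono (D.incl (D.V e).ι)]
  apply pullback.hom_ext
  · rw [Category.assoc, Category.assoc, D.incl_fst]
    exact h2
  · rw [Category.assoc, Category.assoc, D.incl_snd]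
    exact h1

include h in
/-- Existence of the second projection of the equivalence relation. -/
theorem exists_q (he : e ≫ t.left = 𝟙 _) (he' : e ≫ s.left = 𝟙 _) (hs1 : Flat s.left)
    (hs2 : LocallyOfFinitePresentation s.left) :
    ∃ q : D.P e ⟶ D.V e, q ≫ D.v e = D.Pr e ≫ s.left ∧ D.SF s e q (D.Pπ e) ∧ D.SF s e (D.Pπ e) q := by
  -- the family over `P`
  let a : D.P e ⟶ D.H := D.Pπ e ≫ (D.V e).ι
  let W := pullback D.π a
  let p : W ⟶ D.P e := pullback.snd _ _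
  let r : W ⟶ R.left := pullback.fst _ _ ≫ D.ρ
  have sqW : IsPullback (pullback.fst D.π a) p D.π a := IsPullback.of_hasPullback _ _
  have sqX := IsPullback.of_hasPullback t.left (a ≫ D.h)
  have hPr : D.Pr e ≫ t.left = a ≫ D.h := by rw [Pr_t, Category.assoc]
  obtain ⟨δ, hδ, sqδ⟩ := Eqv.isPullback_change h sqX (D.Pr e) hPr rfl
  -- the transported family
  let r' : W ⟶ R.left := D.incl a ≫ δ
  have hw : r' ≫ t.left = p ≫ (D.Pr e ≫ s.left) := by
    rw [Category.assoc, sqδ.w, D.incl_snd_assoc]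
  have hfin : Mor2.IsFinLocFreeOfDeg d p := Groth.Agent.Picfga.HilbPull.isFinLocFreeOfDeg_of_isPullback sqW D.fin
  have hiso : pullback.lift r' p hw = D.incl a ≫ sqδ.isoPullback.hom := by
    apply pullback.hom_ext
    · rw [pullback.lift_fst, Category.assoc, IsPullback.isoPullback_hom_fst]
    · rw [pullback.lift_snd, Category.assoc, IsPullback.isoPullback_hom_snd, D.incl_snd]
  have hcl : IsClosedImmersion (pullback.lift r' p hw) := by rw [hiso]; infer_instance
  obtain ⟨q, ζ, hq1, hζ, sqq⟩ := D.exists_map _ p r' hw hfin hcl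
  have hr's : r' ≫ s.left = pullback.fst D.π a ≫ D.ρ ≫ s.left := by
    rw [Category.assoc, hδ, D.incl_fst_assoc]
  -- it is open
  have hopn : D.Opn q := by
    have sqδ' : IsPullback δ (pullback.snd t.left (a ≫ D.h)) t.left (q ≫ D.h) := by rw [hq1]; exact sqδ
    refine (D.opn_iff q sqδ' sqq (D.incl a) ?_ (D.incl_snd a)).2 ?_
    · rw [hζ]
    · exact (D.opn_V e).comp (D.Pπ e)
  -- it contains the section
  have hsec : D.Sec e q := by
    have h0 : pullback.fst D.π (D.V e).ι ≫ D.π = 𝟙 (D.P e) ≫ a := by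
      rw [Category.id_comp]; exact pullback.condition
    let w : D.P e ⟶ W := pullback.lift (pullback.fst D.π (D.V e).ι) (𝟙 _) h0
    have hw1 : w ≫ pullback.fst D.π a = pullback.fst D.π (D.V e).ι := pullback.lift_fst _ _ _
    have hw2 : w ≫ p = 𝟙 _ := pullback.lift_snd _ _ _
    refine ⟨w ≫ ζ, ?_, ?_⟩
    · rw [Category.assoc, sqq.w, reassoc_of% hw2]
    · rw [Category.assoc, hζ]
      apply Eqv.hom_ext h
      · have e1 : (q ≫ D.h ≫ e) ≫ t.left = q ≫ D.h := by simp only [Category.assoc, he, Category.comp_id]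
        rw [e1, hq1, Category.assoc, hw, reassoc_of% hw2]
      · have e1 : (q ≫ D.h ≫ e) ≫ s.left = q ≫ D.h := by simp only [Category.assoc, he', Category.comp_id]
        rw [e1, hq1, Category.assoc, hr's, reassoc_of% hw1, Category.assoc]
  -- it is flat
  have het : Etale (D.v e) := D.etale_V e
  have hopV : IsOpenImmersion (D.incl (D.V e).ι) := D.opn_V e
  have hfst : Etale (pullback.fst t.left (D.v e)) := MorphismProperty.pullback_fst _ _ het
  have hb : D.Pr e ≫ s.left = D.incl (D.V e).ι ≫ pullback.fst t.left (D.v e) ≫ s.left := by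
    rw [D.incl_fst_assoc, Category.assoc]
  have hgood : D.Good e q := by
    refine ⟨?_, ?_, hopn, hsec⟩
    · rw [hq1, hb]; infer_instance
    · rw [hq1, hb]; infer_instance
  obtain ⟨q', hq'⟩ := hgood.exists_lift
  refine ⟨q', ?_, ?_, ?_⟩
  · rw [← Category.assoc, hq', hq1]
  · intro T' g z hz
    rw [hq'] at hz
    let w : T' ⟶ W := sqq.lift z g hz
    have hw1 : w ≫ ζ = z := sqq.lift_fst _ _ _
    have hw2 : w ≫ p = g := sqq.lift_snd _ _ _
    refine ⟨w ≫ pullback.fst D.π a, ?_, ?_⟩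
    · rw [Category.assoc, pullback.condition, reassoc_of% hw2]
    · rw [Category.assoc, ← hr's, ← hζ, ← hw1]
      simp only [Category.assoc]
  · intro T' g z hz
    let w : T' ⟶ W := pullback.lift z g hz
    have hw1 : w ≫ pullback.fst D.π a = z := pullback.lift_fst _ _ _
    have hw2 : w ≫ p = g := pullback.lift_snd _ _ _
    refine ⟨w ≫ ζ, ?_, ?_⟩
    · rw [Category.assoc, sqq.w, hq', reassoc_of% hw2]
    · rw [Category.assoc, reassoc_of% hζ, ← hw1]
      simp only [Category.assoc] at hr's ⊢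
      rw [hr's]

variable (s) in
/-- The equivalence relation of having the same family. -/
def FE {T : Scheme.{u}} (a b : T ⟶ D.V e) : Prop := D.SF s e a b ∧ D.SF s e b a

variable (s) in
theorem fe_equivalence (T : Scheme.{u}) : Equivalence (fun a b : T ⟶ D.V e => D.FE s e a b) :=
  ⟨fun a => ⟨SF.refl a, SF.refl a⟩, fun h => ⟨h.2, h.1⟩, fun h1 h2 => ⟨h1.1.trans h2.1, h2.2.trans h1.2⟩⟩

include h in
theorem exists_iff_fe (he : e ≫ t.left = 𝟙 _) (he' : e ≫ s.left = 𝟙 _) {q : D.P e ⟶ D.V e}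
    (hq : q ≫ D.v e = D.Pr e ≫ s.left) (hq1 : D.SF s e q (D.Pπ e)) (hq2 : D.SF s e (D.Pπ e) q) {T : Scheme.{u}}
    (a b : T ⟶ D.V e) : (∃ x : T ⟶ D.P e, x ≫ D.Pπ e = a ∧ x ≫ q = b) ↔ D.FE s e a b := by
  constructor
  · rintro ⟨x, rfl, rfl⟩
    exact ⟨hq2.comp x, hq1.comp x⟩
  · rintro ⟨h1, h2⟩
    obtain ⟨z₀, hz1, hz2⟩ := D.sec_V e he
    obtain ⟨z, hz3, hz4⟩ := h2 (𝟙 _) (b ≫ z₀) (by rw [Category.assoc, hz1, Category.id_comp])
    rw [Category.id_comp] at hz3
    obtain ⟨x, hx1, hx2⟩ := D.exists_pt e a z hz3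
    refine ⟨x, hx1, hom_ext_V (s := s) (t := t) h ?_ ?_ ?_⟩
    · have e1 : x ≫ D.Pr e ≫ s.left = (z ≫ D.ρ) ≫ s.left := by rw [← hx2]; simp only [Category.assoc]
      rw [Category.assoc, hq, e1, Category.assoc, hz4, Category.assoc, reassoc_of% hz2]
      simp only [he', Category.comp_id]
    · have := hq1.comp x
      rw [hx1] at this
      exact this.trans h1
    · have := hq2.comp x
      rw [hx1] at this
      exact h2.trans this

end K607.HilbData
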