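import Mathlib.CategoryTheory.Sites.RegularEpi
import Mathlib.CategoryTheory.Sites.LocallySurjective
import Mathlib.CategoryTheory.Sites.LocallyBijective
import Groth.Prelude.Def_AlgSpGpd
import Groth.Agent.AlgSp.K607.Pt

/-!
# Quotient sheaves of pre-equivalence relations

For `s t : R ⟶ U` in sheaves of sets on a site such that on sections over every object the relation
`∃ r, t r = a ∧ s r = b` is an equivalence relation, the coequalizer `q : U ⟶ Q` of `s, t` has the
property: `q a = q b` if and only if locally `a` and `b` are related.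
-/

set_option autoImplicit false
universe w u v

open CategoryTheory CategoryTheory.Limits Opposite

namespace K607.QuotSp

/-- A regular epimorphism is the coequalizer of any pair `(s, t)` factoring through its kernel pair by an
epimorphism. -/
noncomputable def isColimitOfEpi {D : Type u} [Category.{v} D] [HasPullbacks D] {R U M : D} {s t : R ⟶ U} {q : U ⟶ M}
    (w : s ≫ q = t ≫ q) [IsRegularEpi q] [Epi (pullback.lift t s w.symm : R ⟶ pullback q q)] :
    IsColimit (Cofork.ofπ q w) := by
  have hk := isColimitCoforkOfEffectiveEpi q (pullback.cone q q) (pullback.isLimit q q)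
  refine Cofork.IsColimit.mk' _ fun c => ?_
  have hc : pullback.fst q q ≫ c.π = pullback.snd q q ≫ c.π := by
    rw [← cancel_epi (pullback.lift t s w.symm)]
    rw [pullback.lift_fst_assoc, pullback.lift_snd_assoc]
    exact c.condition.symm
  refine ⟨hk.desc (Cofork.ofπ c.π hc), ?_, ?_⟩
  · exact hk.fac (Cofork.ofπ c.π hc) WalkingParallelPair.one
  · intro m hm
    apply Cofork.IsColimit.hom_ext hk
    exact hm.trans (hk.fac (Cofork.ofπ c.π hc) WalkingParallelPair.one).symm

section Site

variable {C : Type u} [Category.{v} C] {J : GrothendieckTopology C} {R U : Sheaf J (Type w)} (s t : R ⟶ U)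

/-- `a` and `b` are related: some `r` has `t r = a` and `s r = b`. -/
def Rel {X : Cᵒᵖ} (a b : U.obj.obj X) : Prop :=
  ∃ r : R.obj.obj X, t.hom.app X r = a ∧ s.hom.app X r = b

variable {s t}

theorem Rel.map {X Y : Cᵒᵖ} (f : X ⟶ Y) {a b : U.obj.obj X} (h : Rel s t a b) :
    Rel s t (U.obj.map f a) (U.obj.map f b) := by
  obtain ⟨r, rfl, rfl⟩ := h
  exact ⟨R.obj.map f r, NatTrans.naturality_apply t.hom f r, NatTrans.naturality_apply s.hom f r⟩

variable (hE : ∀ X : Cᵒᵖ, _root_.Equivalence (Rel s t (X := X)))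

/-- The setoid of related sections. -/
def stdd (X : Cᵒᵖ) : Setoid (U.obj.obj X) := ⟨Rel s t, hE X⟩

/-- The quotient presheaf. -/
def Qp : Cᵒᵖ ⥤ Type w where
  obj X := Quotient (stdd hE X)
  map {X Y} f := ↾(Quotient.map' (s₁ := stdd hE X) (s₂ := stdd hE Y) (fun a => U.obj.map f a)
    fun _ _ h => Rel.map f h)
  map_id X := by
    ext x
    obtain ⟨x, rfl⟩ := Quotient.exists_rep x
    exact congrArg (Quotient.mk (stdd hE X)) (by simp)
  map_comp {X Y Z} f g := by
    ext x
    obtain ⟨x, rfl⟩ := Quotient.exists_rep x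
    exact congrArg (Quotient.mk (stdd hE Z)) (by simp)

/-- The quotient map to the quotient presheaf. -/
def πp : U.obj ⟶ Qp hE where
  app X := ↾(fun a => Quotient.mk (stdd hE X) a)
  naturality X Y f := by
    ext x
    rfl

theorem πp_eq_iff {X : Cᵒᵖ} (a b : U.obj.obj X) : (πp hE).app X a = (πp hE).app X b ↔ Rel s t a b := by
  change Quotient.mk (stdd hE X) a = Quotient.mk (stdd hE X) b ↔ _
  exact Quotient.eq (r := stdd hE X)

variable [HasSheafify J (Type w)]

/-- The quotient sheaf as the sheafification of the quotient presheaf. -/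
noncomputable def Qs : Sheaf J (Type w) := (presheafToSheaf J (Type w)).obj (Qp hE)

/-- The quotient map. -/
noncomputable def πs : U ⟶ Qs hE := ⟨πp hE ≫ toSheafify J (Qp hE)⟩

theorem condition_s : s ≫ πs hE = t ≫ πs hE := by
  apply (sheafToPresheaf J (Type w)).map_injective
  change s.hom ≫ πp hE ≫ toSheafify J (Qp hE) = t.hom ≫ πp hE ≫ toSheafify J (Qp hE)
  rw [← Category.assoc, ← Category.assoc]
  congr 1
  ext X r
  refine ((πp_eq_iff hE _ _).2 ?_).symm
  exact ⟨r, rfl, rfl⟩

/-- The quotient sheaf is a coequalizer. -/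
noncomputable def isColimitQs : IsColimit (Cofork.ofπ (πs hE) (condition_s hE)) := by
  refine Cofork.IsColimit.mk' _ fun c => ?_
  let d : Qp hE ⟶ c.pt.obj :=
    { app X := ↾(Quotient.lift (s := stdd hE X) (fun a => c.π.hom.app X a) (by
        rintro _ _ ⟨r, rfl, rfl⟩
        have h := c.condition
        have h2 := congrArg (fun k : R ⟶ c.pt => k.hom.app X r) h
        exact h2.symm))
      naturality X Y f := by
        ext x
        obtain ⟨x, rfl⟩ := Quotient.exists_rep x
        exact NatTrans.naturality_apply c.π.hom f x }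
  have hd : πp hE ≫ d = c.π.hom := by
    ext X x
    rfl
  refine ⟨⟨sheafifyLift J d c.pt.property⟩, ?_, ?_⟩
  · apply (sheafToPresheaf J (Type w)).map_injective
    change (πp hE ≫ toSheafify J (Qp hE)) ≫ sheafifyLift J d c.pt.property = c.π.hom
    rw [Category.assoc, toSheafify_sheafifyLift, hd]
  · intro m hm
    apply (sheafToPresheaf J (Type w)).map_injective
    let m' : sheafify J (Qp hE) ⟶ c.pt.obj := m.hom
    change m' = sheafifyLift J d c.pt.property
    apply sheafifyLift_unique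
    have hm' : (πp hE ≫ toSheafify J (Qp hE)) ≫ m' = c.π.hom :=
      congrArg (fun k : U ⟶ c.pt => k.hom) hm
    rw [← hd, Category.assoc] at hm'
    ext X x
    obtain ⟨x, rfl⟩ := Quotient.exists_rep x
    exact congrArg (fun k : U.obj ⟶ c.pt.obj => k.app X x) hm'

variable [J.WEqualsLocallyBijective (Type w)]

/-- Two sections of `U` with the same image in the quotient sheaf are locally related. -/
theorem exists_rel_s {X : C} (a b : U.obj.obj (op X)) (h : (πs hE).hom.app _ a = (πs hE).hom.app _ b) :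
    ∃ W ∈ J X, ∀ ⦃Y : C⦄ (f : Y ⟶ X), W f → Rel s t (U.obj.map f.op a) (U.obj.map f.op b) := by
  refine ⟨_, Presheaf.equalizerSieve_mem J (toSheafify J (Qp hE)) ((πp hE).app (op X) a)
    ((πp hE).app (op X) b) h, ?_⟩
  intro Y f hf
  rw [Presheaf.equalizerSieve_apply] at hf
  rw [← πp_eq_iff hE]
  exact hf

include hE in
/-- Same as `exists_rel_s` for any coequalizer. -/
theorem exists_rel {Q : Sheaf J (Type w)} {q : U ⟶ Q} {w : s ≫ q = t ≫ q}
    (hq : IsColimit (Cofork.ofπ q w)) {X : C} (a b : U.obj.obj (op X))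
    (h : q.hom.app _ a = q.hom.app _ b) :
    ∃ W ∈ J X, ∀ ⦃Y : C⦄ (f : Y ⟶ X), W f → Rel s t (U.obj.map f.op a) (U.obj.map f.op b) := by
  apply exists_rel_s hE
  have h1 : q ≫ hq.desc (Cofork.ofπ (πs hE) (condition_s hE)) = πs hE :=
    hq.fac (Cofork.ofπ (πs hE) (condition_s hE)) WalkingParallelPair.one
  rw [← h1]
  exact congrArg (fun k => (hq.desc (Cofork.ofπ (πs hE) (condition_s hE))).hom.app _ k) h

omit [J.WEqualsLocallyBijective (Type w)] in
/-- The coequalizer map is locally surjective. -/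
theorem exists_lift {Q : Sheaf J (Type w)} {q : U ⟶ Q} [Epi q] {X : C} (y : Q.obj.obj (op X)) :
    ∃ W ∈ J X, ∀ ⦃Y : C⦄ (f : Y ⟶ X), W f → ∃ a : U.obj.obj (op Y), q.hom.app _ a = Q.obj.map f.op y := by
  have := (Sheaf.isLocallySurjective_iff_epi q).2 inferInstance
  have h2 : Presheaf.imageSieve q.hom (U := X) y ∈ J X := Presheaf.imageSieve_mem J q.hom y
  exact ⟨_, h2, fun Y f hf => hf⟩

omit [HasSheafify J (Type w)] [J.WEqualsLocallyBijective (Type w)] in
/-- Sections of a sheaf which agree locally are equal. -/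
theorem eq_of_locally {F : Sheaf J (Type w)} {X : C} (x y : F.obj.obj (op X)) (W : Sieve X) (hW : W ∈ J X)
    (h : ∀ ⦃Y : C⦄ (f : Y ⟶ X), W f → F.obj.map f.op x = F.obj.map f.op y) : x = y :=
  (((isSheaf_iff_isSheaf_of_type J F.obj).1 F.property).isSeparated W hW).ext h

include hE in
/-- The criterion for a map of quotient sheaves to be a monomorphism. -/
theorem mono_of_rel {Q Q' U' : Sheaf J (Type w)} {q : U ⟶ Q} {w : s ≫ q = t ≫ q}
    (hq : IsColimit (Cofork.ofπ q w)) {q' : U' ⟶ Q'} [Epi q'] (g : U' ⟶ U) (ψ : Q' ⟶ Q)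
    (hψ : q' ≫ ψ = g ≫ q)
    (h : ∀ (X : Cᵒᵖ) (a b : U'.obj.obj X), Rel s t (g.hom.app X a) (g.hom.app X b) →
      q'.hom.app X a = q'.hom.app X b) : Mono ψ := by
  have hψ' : ∀ (X : Cᵒᵖ) (a : U'.obj.obj X), ψ.hom.app X (q'.hom.app X a) = q.hom.app X (g.hom.app X a) :=
    fun X a => congrArg (fun k : U' ⟶ Q => k.hom.app X a) hψ
  -- first: injectivity on the image of `q'`
  have key : ∀ (X : C) (a b : U'.obj.obj (op X)), q.hom.app _ (g.hom.app _ a) = q.hom.app _ (g.hom.app _ b) →
      q'.hom.app _ a = q'.hom.app _ b := by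
    intro X a b hab
    obtain ⟨W, hW, hW'⟩ := exists_rel hE hq _ _ hab
    refine eq_of_locally _ _ W hW fun Y f hf => ?_
    have h1 := hW' f hf
    rw [← NatTrans.naturality_apply g.hom, ← NatTrans.naturality_apply g.hom] at h1
    have h2 := h _ _ _ h1
    rwa [NatTrans.naturality_apply q'.hom, NatTrans.naturality_apply q'.hom] at h2
  have inj : ∀ (X : C) (x y : Q'.obj.obj (op X)), ψ.hom.app _ x = ψ.hom.app _ y → x = y := by
    intro X x y hxy
    obtain ⟨W, hW, hW'⟩ := exists_lift (q := q') x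
    obtain ⟨V, hV, hV'⟩ := exists_lift (q := q') y
    refine eq_of_locally _ _ (W ⊓ V) (J.intersection_covering hW hV) fun Y f hf => ?_
    obtain ⟨a, ha⟩ := hW' f hf.1
    obtain ⟨b, hb⟩ := hV' f hf.2
    rw [← ha, ← hb]
    apply key
    rw [← hψ', ← hψ', ha, hb, NatTrans.naturality_apply ψ.hom, NatTrans.naturality_apply ψ.hom, hxy]
  constructor
  intro Z m n hmn
  apply (sheafToPresheaf J (Type w)).map_injective
  refine NatTrans.ext (funext fun T => ?_)
  ext z
  exact inj T.unop _ _ (congrArg (fun k : Z ⟶ Q => k.hom.app T z) hmn)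

end Site

section Yon

open AlgebraicGeometry AlgSp

variable {S : Scheme.{u}} {R U : Sp S} (s t : R ⟶ U)

/-- The relation on sections in terms of `T`-valued points. -/
theorem rel_iff_yon {T : Over S} (a b : U.obj.obj (op T)) :
    Rel s t a b ↔ ∃ r : (yon S).obj T ⟶ R, r ≫ t = pt a ∧ r ≫ s = pt b := by
  constructor
  · rintro ⟨r, hr, hr'⟩
    exact ⟨pt r, by rw [pt_comp, hr], by rw [pt_comp, hr']⟩
  · rintro ⟨r, hr, hr'⟩
    exact ⟨sec r, by rw [← sec_comp, hr, sec_pt], by rw [← sec_comp, hr', sec_pt]⟩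

/-- A pre-equivalence relation is an equivalence relation on sections over every object. -/
theorem equivalence_of_isPreEqvRelSp (h : IsPreEqvRelSp s t) (X : (Over S)ᵒᵖ) :
    _root_.Equivalence (Rel s t (X := X)) := by
  have h1 := h X.unop
  have key : ∀ a b : U.obj.obj X, Rel s t a b ↔ ∃ r : (yon S).obj X.unop ⟶ R,
      r ≫ t = pt a ∧ r ≫ s = pt b :=
    fun a b => rel_iff_yon s t (T := X.unop) a b
  exact ⟨fun a => (key a a).2 (h1.refl _), fun {a b} hab => (key b a).2 (h1.symm ((key a b).1 hab)),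
    fun {a b c} hab hbc => (key a c).2 (h1.trans ((key a b).1 hab) ((key b c).1 hbc))⟩

instance epi_quotSpπ : Epi (quotSpπ s t) := by
  unfold quotSpπ quotSp
  infer_instance

/-- The arrows of a groupoid in sheaves form a pre-equivalence relation. -/
theorem isPreEqvRelSp_of_groupoid {B : Sp S} (G : GroupoidSp B) : IsPreEqvRelSp G.s G.t := by
  intro T
  refine ⟨fun a => ⟨a ≫ G.e, ?_, ?_⟩, ?_, ?_⟩
  · rw [Category.assoc, G.e_t, Category.comp_id]
  · rw [Category.assoc, G.e_s, Category.comp_id]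
  · rintro a b ⟨r, hr, hr'⟩
    exact ⟨r ≫ G.i, by rw [Category.assoc, G.i_t, hr'], by rw [Category.assoc, G.i_s, hr]⟩
  · rintro a b c ⟨r, hr, hr'⟩ ⟨r₁, hr₁, hr₁'⟩
    have h : r ≫ G.s = r₁ ≫ G.t := hr'.trans hr₁.symm
    exact ⟨pullback.lift r r₁ h ≫ G.c, by rw [G.comp_t, hr], by rw [G.comp_s, hr₁']⟩

end Yon

end K607.QuotSp
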