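import Groth.Agent.AlgSp.K607.QuotSp
import Groth.Agent.AlgSp.K594.Elem

/-!
# Effectivity of equivalence relations of sheaves
-/

set_option autoImplicit false
universe u

open CategoryTheory CategoryTheory.Limits AlgebraicGeometry Opposite

namespace K607.SpQuot

open AlgSp K607.QuotSp

variable {S : Scheme.{u}} {R U : Sp S} {s t : R ⟶ U}

theorem sec_injective (h : IsEqvRelSp s t) {T : Over S} (a b : R.obj.obj (op T))
    (h1 : t.hom.app _ a = t.hom.app _ b) (h2 : s.hom.app _ a = s.hom.app _ b) : a = b := by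
  have h3 := h.injective T (pt a) (pt b) (by rw [pt_comp, pt_comp, h1]) (by rw [pt_comp, pt_comp, h2])
  have h4 := congrArg (sec (F := R)) h3
  rwa [sec_pt, sec_pt] at h4

/-- Equivalence relations of sheaves are effective. -/
theorem isPullback_of_isColimit (h : IsEqvRelSp s t) {Q : Sp S} {q : U ⟶ Q} {w : s ≫ q = t ≫ q}
    (hq : IsColimit (Cofork.ofπ q w)) : IsPullback t s q q := by
  rw [K594.Elem.isPullback_iff]
  refine ⟨w.symm, fun T a b h1 h2 => sec_injective h a b h1 h2, fun T x y hxy => ?_⟩
  have hE := equivalence_of_isPreEqvRelSp s t ((isEqvRelSp_iff s t).1 h).2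
  obtain ⟨W, hW, hW'⟩ := exists_rel hE hq x y hxy
  have hsh := ((isSheaf_iff_isSheaf_of_type (J S) R.obj).1 R.property) W hW
  choose r hr1 hr2 using hW'
  let fam : Presieve.FamilyOfElements R.obj W.arrows := fun Y f hf => r f hf
  have hfam : fam.Compatible := by
    intro Y₁ Y₂ Z g₁ g₂ f₁ f₂ h₁ h₂ hw
    apply sec_injective h
    · rw [NatTrans.naturality_apply t.hom, NatTrans.naturality_apply t.hom, hr1, hr1, ← Functor.map_comp_apply,
        ← Functor.map_comp_apply, ← op_comp, ← op_comp, hw]
    · rw [NatTrans.naturality_apply s.hom, NatTrans.naturality_apply s.hom, hr2, hr2, ← Functor.map_comp_apply,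
        ← Functor.map_comp_apply, ← op_comp, ← op_comp, hw]
  refine ⟨hsh.amalgamate fam hfam, ?_, ?_⟩
  · refine eq_of_locally _ _ W hW fun Y f hf => ?_
    rw [← NatTrans.naturality_apply t.hom, hsh.valid_glue hfam f hf]
    exact hr1 f hf
  · refine eq_of_locally _ _ W hW fun Y f hf => ?_
    rw [← NatTrans.naturality_apply s.hom, hsh.valid_glue hfam f hf]
    exact hr2 f hf

theorem isPullback_quotSpπ (h : IsEqvRelSp s t) : IsPullback t s (quotSpπ s t) (quotSpπ s t) :=
  isPullback_of_isColimit h (quotSpIsCoequalizer s t)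

end K607.SpQuot
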