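import Groth.Agent.AlgSp.K607.Graph
import Groth.Agent.AlgSp.K640.SchFam
import Groth.Agent.AlgSp.K629.SchDesc

/-!
# The open subscheme of the Hilbert scheme of open families containing the identity
-/

set_option autoImplicit false
universe u

open CategoryTheory CategoryTheory.Limits AlgebraicGeometry

namespace K607.HilbData

section Aux

variable {X Y Z : Scheme.{u}}

theorem isPullback_of_mono (g : X ⟶ Y) (i : Y ⟶ Z) [Mono i] : IsPullback (𝟙 X) g (g ≫ i) i :=
  IsPullback.of_isLimit' ⟨by rw [Category.id_comp]⟩ (PullbackCone.IsLimit.mk _ (fun s => s.fst)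
    (fun s => Category.comp_id _) (fun s => by
      rw [← cancel_mono i, Category.assoc]; exact s.condition)
    (fun s m h1 _ => by rw [← h1, Category.comp_id]))

theorem of_comp_mono (P : MorphismProperty Scheme.{u}) [P.IsStableUnderBaseChange] (g : X ⟶ Y) (i : Y ⟶ Z) [Mono i]
    (h : P (g ≫ i)) : P g := MorphismProperty.of_isPullback (isPullback_of_mono g i) h

theorem exists_point {P A B C : Scheme.{u}} {fst : P ⟶ A} {snd : P ⟶ B} {f : A ⟶ C} {g : B ⟶ C}
    (sq : IsPullback fst snd f g) (a : A) (b : B) (h : f a = g b) : ∃ p : P, fst p = a ∧ snd p = b := by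
  obtain ⟨p, h1, h2⟩ := Scheme.Pullback.exists_preimage_pullback a b h
  refine ⟨sq.isoPullback.inv p, ?_, ?_⟩
  · rw [← Scheme.Hom.comp_apply, IsPullback.isoPullback_inv_fst, h1]
  · rw [← Scheme.Hom.comp_apply, IsPullback.isoPullback_inv_snd, h2]

end Aux

variable {R U : Scheme.{u}} {t : R ⟶ U} {d : ℕ} (D : HilbData t d) (e : U ⟶ R) {T T' : Scheme.{u}}

/-- The family of `a` contains the section `e`. -/
def Sec (a : T ⟶ D.H) : Prop := ∃ z : T ⟶ D.Z, z ≫ D.π = a ∧ z ≫ D.ρ = a ≫ D.h ≫ e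

/-- The classifying map of an open family over a flat base, containing the section. -/
structure Good (a : T ⟶ D.H) : Prop where
  flat : Flat (a ≫ D.h)
  lfp : LocallyOfFinitePresentation (a ≫ D.h)
  opn : D.Opn a
  sec : D.Sec e a

variable {D e}

theorem Good.flat_lfp {a : T ⟶ D.H} (h : D.Good e a) : Flat a ∧ LocallyOfFinitePresentation a := by
  have h1 := D.isOpenImmersion_graph a h.opn
  have h2 := h.flat
  have h3 := h.lfp
  have e1 : Flat (pullback.fst D.h (a ≫ D.h)) := MorphismProperty.pullback_fst _ _ h2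
  have e2 : LocallyOfFinitePresentation (pullback.fst D.h (a ≫ D.h)) := MorphismProperty.pullback_fst _ _ h3
  have e3 : (pullback.lift a (𝟙 T) (by rw [Category.id_comp]) : T ⟶ pullback D.h (a ≫ D.h)) ≫ pullback.fst _ _ = a :=
    pullback.lift_fst _ _ _
  constructor
  · rw [← e3]; infer_instance
  · rw [← e3]; infer_instance

variable (D e)

/-- The open subscheme of the Hilbert scheme which is the union of the images of all good maps. -/
def V : D.H.Opens where
  carrier := {y | ∃ (T : Scheme.{u}) (a : T ⟶ D.H), D.Good e a ∧ y ∈ Set.range a}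
  is_open' := by
    rw [isOpen_iff_forall_mem_open]
    rintro y ⟨T, a, ha, x, rfl⟩
    obtain ⟨h1, h2⟩ := ha.flat_lfp
    exact ⟨Set.range a, fun z hz => ⟨T, a, ha, hz⟩, a.isOpenMap.isOpen_range, ⟨x, rfl⟩⟩

variable {D e}

theorem Good.exists_lift {a : T ⟶ D.H} (h : D.Good e a) : ∃ g : T ⟶ D.V e, g ≫ (D.V e).ι = a := by
  have hr : Set.range a ⊆ Set.range (D.V e).ι := by
    rw [Scheme.Opens.range_ι]
    exact fun y hy => ⟨T, a, h, hy⟩
  exact ⟨IsOpenImmersion.lift _ a hr, IsOpenImmersion.lift_fac _ _ _⟩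

variable (D e)

/-- The family of good maps covering `V`. -/
theorem exists_cover : ∃ (T : D.V e → Scheme.{u}) (g : ∀ y, T y ⟶ D.V e), (∀ y, D.Good e (g y ≫ (D.V e).ι)) ∧
    ∀ y, ∃ x : T y, g y x = y := by
  have : ∀ y : D.V e, ∃ (T : Scheme.{u}) (g : T ⟶ D.V e), D.Good e (g ≫ (D.V e).ι) ∧ ∃ x : T, g x = y := by
    intro y
    obtain ⟨T, a, ha, x, hx⟩ := y.2
    obtain ⟨g, hg⟩ := ha.exists_lift
    refine ⟨T, g, by rw [hg]; exact ha, x, ?_⟩
    apply (D.V e).ι.isOpenEmbedding.injective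
    rw [← Scheme.Hom.comp_apply, hg, hx]
    rfl
  choose T g hg hx using this
  exact ⟨T, g, hg, hx⟩

theorem opn_V : D.Opn (D.V e).ι := by
  obtain ⟨T, g, hg, hx⟩ := D.exists_cover e
  choose m l hl1 hl2 hm1 hm2 sq sqX sqW using fun y => exists_bc' (D.V e).ι (g y)
  have hgf : ∀ y, Flat (g y) ∧ LocallyOfFinitePresentation (g y) := fun y =>
    ⟨of_comp_mono @Flat _ _ (hg y).flat_lfp.1, of_comp_mono @LocallyOfFinitePresentation _ _ (hg y).flat_lfp.2⟩
  refine K640.SchFam.of_family (Pr := @IsOpenImmersion) (D.incl (D.V e).ι) l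
    (fun y => MorphismProperty.of_isPullback (sqX y).flip (hgf y).1)
    (fun y => MorphismProperty.of_isPullback (sqX y).flip (hgf y).2) (fun x => ?_) _ m _ sq fun y => (hg y).opn
  obtain ⟨x', hx'⟩ := hx (pullback.snd t ((D.V e).ι ≫ D.h) x)
  obtain ⟨p, hp, -⟩ := exists_point (sqX (pullback.snd t ((D.V e).ι ≫ D.h) x)) x x' hx'.symm
  exact ⟨_, p, hp⟩

theorem sec_V (he : e ≫ t = 𝟙 U) : D.Sec e (D.V e).ι := by
  obtain ⟨T, g, hg, hx⟩ := D.exists_cover e
  let σ : (D.V e).toScheme ⟶ pullback t ((D.V e).ι ≫ D.h) := pullback.lift ((D.V e).ι ≫ D.h ≫ e) (𝟙 _) (by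
    rw [Category.assoc, Category.assoc, he, Category.comp_id, Category.id_comp])
  have ho : IsOpenImmersion (D.incl (D.V e).ι) := D.opn_V e
  have hr : Set.range σ ⊆ Set.range (D.incl (D.V e).ι) := by
    rintro _ ⟨y, rfl⟩
    obtain ⟨x, hx⟩ := hx y
    obtain ⟨z, hz1, hz2⟩ := (hg y).sec
    have : g y ≫ σ = pullback.lift z (g y) hz1 ≫ D.incl (D.V e).ι := by
      apply pullback.hom_ext
      · rw [Category.assoc, Category.assoc, D.incl_fst, pullback.lift_fst, pullback.lift_fst_assoc, hz2,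
          Category.assoc]
      · rw [Category.assoc, Category.assoc, D.incl_snd, pullback.lift_snd, pullback.lift_snd, Category.comp_id]
    refine ⟨pullback.lift z (g y) hz1 x, ?_⟩
    rw [← Scheme.Hom.comp_apply, ← this, Scheme.Hom.comp_apply, hx]
  have hl := IsOpenImmersion.lift_fac (D.incl (D.V e).ι) σ hr
  refine ⟨IsOpenImmersion.lift _ σ hr ≫ pullback.fst _ _, ?_, ?_⟩
  · rw [Category.assoc, pullback.condition, ← D.incl_snd_assoc, reassoc_of% hl, pullback.lift_snd_assoc,
      Category.id_comp]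
  · rw [Category.assoc, ← D.incl_fst, reassoc_of% hl, pullback.lift_fst]

instance : IsSeparated ((D.V e).ι ≫ D.h) := by
  have := D.sep
  infer_instance

theorem isOpenImmersion_diagonal_V : IsOpenImmersion (pullback.diagonal ((D.V e).ι ≫ D.h)) := by
  have h1 := D.isOpenImmersion_graph _ (D.opn_V e)
  let κ : pullback ((D.V e).ι ≫ D.h) ((D.V e).ι ≫ D.h) ⟶ pullback D.h ((D.V e).ι ≫ D.h) :=
    pullback.map _ _ _ _ (D.V e).ι (𝟙 _) (𝟙 _) (by simp) (by simp)
  have h2 : IsOpenImmersion κ := inferInstance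
  have h3 : pullback.diagonal ((D.V e).ι ≫ D.h) ≫ κ = pullback.lift (D.V e).ι (𝟙 _) (by rw [Category.id_comp]) := by
    have k1 : κ ≫ pullback.fst _ _ = pullback.fst _ _ ≫ (D.V e).ι := pullback.lift_fst _ _ _
    have k2 : κ ≫ pullback.snd _ _ = pullback.snd _ _ ≫ 𝟙 _ := pullback.lift_snd _ _ _
    apply pullback.hom_ext
    · rw [Category.assoc, k1, pullback.diagonal_fst_assoc, pullback.lift_fst]
    · rw [Category.assoc, k2, pullback.diagonal_snd_assoc, pullback.lift_snd]
  have h4 : IsOpenImmersion (pullback.diagonal ((D.V e).ι ≫ D.h) ≫ κ) := by rw [h3]; exact h1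
  exact IsOpenImmersion.of_comp _ κ

theorem etale_V : Etale ((D.V e).ι ≫ D.h) := by
  obtain ⟨T, g, hg, hx⟩ := D.exists_cover e
  have hgf : ∀ y, Flat (g y) ∧ LocallyOfFinitePresentation (g y) := fun y =>
    ⟨of_comp_mono @Flat _ _ (hg y).flat_lfp.1, of_comp_mono @LocallyOfFinitePresentation _ _ (hg y).flat_lfp.2⟩
  have h1 : Flat ((D.V e).ι ≫ D.h) := by
    refine K629.SchDesc.family (R := @Flat ⊓ @LocallyOfFinitePresentation) (P := @Flat)
      (fun f g hf hs h => K629.SchDesc.flat f g hf.1 hs h) T g _ (fun y => ⟨(hgf y).1, (hgf y).2⟩)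
      (fun y => ⟨y, hx y⟩) fun y => ?_
    rw [← Category.assoc]
    exact (hg y).flat
  have h2 : LocallyOfFinitePresentation ((D.V e).ι ≫ D.h) := by
    refine K629.SchDesc.family (R := @Flat ⊓ @LocallyOfFinitePresentation) (P := @LocallyOfFinitePresentation)
      (fun f g hf hs h => K629.SchDesc.lfp f g hf.1 hf.2 hs h) T g _ (fun y => ⟨(hgf y).1, (hgf y).2⟩)
      (fun y => ⟨y, hx y⟩) fun y => ?_
    rw [← Category.assoc]
    exact (hg y).lfp
  have h3 : FormallyUnramified ((D.V e).ι ≫ D.h) := by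
    have := D.isOpenImmersion_diagonal_V e
    infer_instance
  exact Etale.of_formallyUnramified_of_flat _

end K607.HilbData
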